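import Cfsg.Agent.H16.M.O73
import Cfsg.Agent.H0.TRX

/-! Generated by tools/h0/tr.py. -/

set_option maxRecDepth 100000
set_option maxHeartbeats 0

namespace H0.Fi.O73
open H16 H0.TR
open scoped commutatorElement

noncomputable def st_W : List (List ℕ) := [[nat_lit 5, nat_lit 0, nat_lit 3, nat_lit 1, nat_lit 4, nat_lit 3, nat_lit 1, nat_lit 0, nat_lit 4, nat_lit 3, nat_lit 0, nat_lit 5, nat_lit 3, nat_lit 1, nat_lit 0, nat_lit 3, nat_lit 5, nat_lit 3, nat_lit 6, nat_lit 5, nat_lit 3, nat_lit 1, nat_lit 0, nat_lit 3, nat_lit 4],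
  [nat_lit 3, nat_lit 4, nat_lit 2, nat_lit 2, nat_lit 2, nat_lit 3, nat_lit 1, nat_lit 0, nat_lit 3, nat_lit 4, nat_lit 3, nat_lit 2, nat_lit 2, nat_lit 6, nat_lit 5, nat_lit 3, nat_lit 1, nat_lit 0, nat_lit 3, nat_lit 4],
  [nat_lit 0, nat_lit 1, nat_lit 1, nat_lit 4, nat_lit 3, nat_lit 0, nat_lit 2, nat_lit 3, nat_lit 2, nat_lit 4, nat_lit 3, nat_lit 1, nat_lit 4, nat_lit 5, nat_lit 3, nat_lit 1, nat_lit 1],
  [nat_lit 2, nat_lit 2, nat_lit 2, nat_lit 3, nat_lit 1, nat_lit 4, nat_lit 3, nat_lit 2, nat_lit 3, nat_lit 0, nat_lit 5, nat_lit 3, nat_lit 6, nat_lit 4, nat_lit 3, nat_lit 0, nat_lit 1, nat_lit 3, nat_lit 6, nat_lit 5, nat_lit 2, nat_lit 6, nat_lit 2],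
  [nat_lit 6, nat_lit 1, nat_lit 0, nat_lit 2, nat_lit 3, nat_lit 4, nat_lit 3, nat_lit 2, nat_lit 2, nat_lit 5, nat_lit 3, nat_lit 2, nat_lit 4, nat_lit 6, nat_lit 4, nat_lit 3, nat_lit 2, nat_lit 3, nat_lit 0, nat_lit 4, nat_lit 2],
  [nat_lit 6, nat_lit 5, nat_lit 2, nat_lit 0, nat_lit 3, nat_lit 0, nat_lit 1, nat_lit 4, nat_lit 3, nat_lit 1, nat_lit 0, nat_lit 3, nat_lit 0, nat_lit 5, nat_lit 3, nat_lit 0, nat_lit 2, nat_lit 6, nat_lit 4, nat_lit 3, nat_lit 1, nat_lit 0, nat_lit 5, nat_lit 3, nat_lit 2],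
  [nat_lit 2, nat_lit 0, nat_lit 3, nat_lit 0, nat_lit 2, nat_lit 4, nat_lit 3, nat_lit 0, nat_lit 1, nat_lit 5, nat_lit 3, nat_lit 1, nat_lit 0, nat_lit 2, nat_lit 6, nat_lit 4, nat_lit 3, nat_lit 1, nat_lit 3, nat_lit 0, nat_lit 4, nat_lit 6],
  [nat_lit 1, nat_lit 3, nat_lit 1, nat_lit 4, nat_lit 3, nat_lit 1, nat_lit 1, nat_lit 4, nat_lit 3, nat_lit 4, nat_lit 5, nat_lit 3, nat_lit 0, nat_lit 2, nat_lit 4, nat_lit 6, nat_lit 5, nat_lit 3, nat_lit 2, nat_lit 3, nat_lit 2],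
  [nat_lit 1, nat_lit 3, nat_lit 1, nat_lit 0, nat_lit 4, nat_lit 3, nat_lit 0, nat_lit 1, nat_lit 3, nat_lit 0, nat_lit 5, nat_lit 3, nat_lit 2, nat_lit 4, nat_lit 5, nat_lit 3, nat_lit 1, nat_lit 6, nat_lit 4, nat_lit 3, nat_lit 0, nat_lit 1, nat_lit 1, nat_lit 3, nat_lit 4, nat_lit 0]]
noncomputable def st_P : ℕ → ℕ → ℕ := wdsP H16.O73.P st_W
noncomputable def sPd : List ℕ := [nat_lit 0x99b30f3425a94e26f26d32ca91a411764eab75978c31b911f101318a4d5aa6b954d8dd157994538a43f344e6576424d3aef3bab8e876362fe310a709f4b30474a2d7afe94265a0b97ea9e392996a21c0ca504f8b5395a4ba1cee69a9531068897d207fa1b1170d47dc655a9a46990cd0361a463ec07627d1cdc7ba2a00a9919d4b0c22da25db40421a5c730711ee6e704a4158cd82b43525345794a190b99188f0d772be4aa813d2a166cf5e349d1164325e78634d9a946e79dc95cc67509a1e09547ac5e2df9c424e2cd53171931d88180db085b40a2f3aa0b14caff6db75eaf660aed073f42cad552446289bcea5d2799d3d839c9f8e490c3d60c79021e58d67a2de4cd9562c97d1e80c492cf87d1be5e16100a45a15051043a0b198947421140c43e07178109638048d07e06078041c45138f818441c80c262e0d8d84c1223938344c0f0706017250641a020011846352784048482690c80500406092420a0f40a37088f0763216088542b,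
  nat_lit 0x2c489d52f69b1db05b37a00d2f459ac284f08f4115511953a0da759ed00ab0266195d2bc514d5bc82793b55e938c3b9b50e8849669136e4a1ead990c6d4c5a542398453431d1b6b22ec4a34b144bea4c9a46990bcca3caa66057352b263153ec06669268b5e2cdf71cee41395b42139369743e79145eaea2f2ba0c352cc33926120ec3f4ea86517f9a10eef442315af73e1fce67635a3e0a9963465f2ae8639e468331cc946e03d9b9491f833c5289e5fb599ec5802d5aac92942d3e919495248614528658f62fb41c2eb301dcc4bb2e165973e50159172d3839606ce84a9590d48eb0588f3851b12aab3d4fcccb4732e108c0539e1c8f83899dfafe9bbeda4be8e2e502856eadd2ecd9c41d36fc712764e50278989a15259043a14199186821219083e401c8c87a3c029145e38040a8303a1381062441f80c5a2e0d8049c28238a44a4c0f0706020250641a0200068460e0b858480b0984822101b8d4920c24028760f03818123e160886c2b,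
  nat_lit 0x3da70ef2144a421d329b208bf1291a61c26260a48a4e86f1b166ba8c43e4854333c4f2e34224514787c9ce10866a2fe06c3373dd1aef3ea69beb84b9f0a3057542de4589ca819ed03abf14e7456c79545750bb4feee2e44e5d289d1793efb4a1acf4dd6342988c04db80d49394d0d1ed23b16564c83f1755d1b473322ad865b99185b864815e6762c0600a975b1da68b95ab0c930344894ab69f20584705e954dad9513b1566129ad0e4b943a75b8d76549d6f3f834b5e0a393505fa604cce1cf3b954d1b5142b4f17cbb9aaa1aa8874d0148d1589a64b378bbce58e58f969ed3d713e90ace4f44632c97f3fe1b105820cc6f57c202391a6b29a63335aa58df4283c252b168236e5f1d8139178f466994e250100985a151e9041a48138686821219083e11178101438049147e061b8a86a3a238f862441c8b8262c158049c28198a48c4c0c88860172508c921c0d8943c18278584814268480e10078383a0c0592c0a08200f07632018086c00,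
  nat_lit 0x3d384ef0f67162365e40cde348669cb122e75dc25ccdf90b015a9d8737956e438984f28765a712eb52d318c86b61c0a4c7c373dd6c7d641a65cb82cb5198d07542d4b3334234b6c278ce6513472bad305f94b45b7382e371d056422dcdee37b449191f57c29887680175450158bb57c9536229f2ef6e9955d184749d792b9d368f6ac8218ce666413d12c946694de68b9eb3e7d117e50a78a0843f60a704928d12d9391fde0757f2d0d50c7dcee28d72a14664788abfe48d5585066c8f3a47192ba97a64a51353bc8c11d912a0aae274caa414350be24ac58bc8d54b33f2c952d87d2210a6d4f3d53e6263a01ad1081a0d49304d4b5dc5753435a4909fa6e33355faf663165cbb280c183b2a0c938f380ce42169140c210d0908e180f044024a2810c983d190244a4f1f8a808200a09810360c8ec501f1f000781b0e0a47416118d08044068b882130a92466030101c3a0f268c4600e1c040140c240dc4e121a9185e0b2585c7205158b09c22,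
  nat_lit 0x60c84dc6790240d8929dbccbebf9d1761ebc633ca5930389f144613b199ab3970cda2e7462b7914893fa3111028d95a331841b66492b9eb9222704bc3a5e5b45baa64587c3c172ac7e9a50d2939479c0577dbb4fcee544b9ea6b9bc252a9977c1d765a3dae220d473b99fe9371d0d1f0361965d8d87cb6968c05750200a9412aa3b0c829e0f49c69c0592c875991090b4a411c4dc4d144bcab7d2e99f0a9e2d949164047caa819f23a5ac29a1d5d05c7e4a97a6d4dab546a04fa153a6050ce20cf19aac530df892dd7caf93b5d1afe6250a7ed143b28f32392b2cca6a5936cfaf66394d3c63a0c51a515843961ae9379dd6b132a2ce391a6b29961336718a62cc942964cf7683764473539a12cf4669492207280148402098004834108f07e2c128285617058605a12078bc9043270c85439180387a030a11c622711810761a22024701c208345c160d87c98490f018940108044443a061184040148d82a4b229341026278a06e35198747c19,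
  nat_lit 0x83b8924c741a4dc0899a428c13574ad8a6e894481429544399b29b584f9eb217d21d6ef675422666e96c09952f78c9ce9317916a5c8181c3e58ac76aa919375cb3cf05733b0da68246b78a27d2e405930d8a4695a8a3fa74eb42621b52cdf30b3224a235b42193b95c555c8f9ebd120e337c79fe5d392ae3f367631a1cda384014f239d1dcac6445964d8982f95216c25d3ce7326709ce7ea94d4198b0431b6282db8b39590e7342c950846a3553ef948aed9c9e77b5e30765e17a48eb88a9928b157c6caa52952d5a2bf3d1fa26fc2d9ed0b1c601c679105eae1f68e35201a5197c392127952996527c34ad0b105784ca2efd4e3dd7c97a1b3540ee92b7146c1a0290c4dd65ace3a869119a60d69c265fc4d2592034470907406320d8586a1e100f01a421b0a450401d0385407178200a18001387023009048c4a1203c161715850202701110320a2488858212614038091e8b466041293c18131c8ec5c061f10c683f188448a260f8c06e15,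
  nat_lit 0x73c98d25d63aad68a62dc7a271846432066a7dcd4fe8532ab9daec623826e7c7eae54ed37f2c130c686b2652c88bbbe790a2bca246706bb7e211a55170a5425fa4dc274972d642cc5baa636c566c9264d8674d2453d9cc591c7d4425da13f45bd56c7150268ac9e36a94f52b9d3c1a45e74cb17c7948ab0bf417c369052584249c69c6b50d0f3668b7108774ca84e6685c19d368361ae8cca22a9fa8112953fdc45457cbd66b24b1ad7660392f4dd07743991e7b904f8c68967c09e49552450f0c28cab60b0b88c3e62624ebd197009c27e671540352385865475f2906f165b2a851ac5f86480baa12f36abe8c2e48fa19d6f77b14d8076789d4b50660cb5b73b8749e08ee45144de8d98251ca6c5e3750232150b04c11040682c1f1882c004b178148c350f0341e34138ac464522088981b06074763d0c8b49c4d1c0085c392100c28072193c1436128a02020031202424008f88041148fc300410854a009250dc8e30070e866490985c383c,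
  nat_lit 0x9b3d5107d4b9bd9cfc88489e0a070aa1de5a2ec6988ad981ca6aea96c614a9688ab98d046b46dd0912a19554b659b9e2f20481e9728044ca4c7437b3167aee464ce513b2a9790c5f85a8d0ef295369d3246114a0299639a904e34532a833252235c0bf9314e3ab56821642bc3fa765cb879b0e72848942a3ccb321da78783035d61024d501fb0e28c55d8e58c9861efa69a9e633a6a9b0d6f978971e8739c2f51ee23395d9f254c2ed38e4592d27eaf4db70d2716e964fd0545b04eed48fcd16e79602b107237dc1d29036c345b67575cae849f84a85db2f7f198dd272b3e26ea29625610a666bfdef0c69435bf3e471ed986d58af8e8ab549f13ce66f248e11464a4e2c5834472268131400b7065d365900b048ac5e10148a00c1f0b91444310783824361388c9c3224870663e1800c2a02278643042238687225088b836081000074160992c180521934780a200d05a4c1d850a0411f8dc5448220907035250983a21008101a1e230f45807,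
  nat_lit 0x5830de8df8414a647140345372463315528e40a29e6bd7b2b19b237cb5168e374209f90a29cb9b07a4e380c299494550905893e1165a2f3ed8507899fe60be344a24eda649dd990d9021e0cf74827d4929542e94ca34996dd8ab7d37a7f17682f24c5132c71c8dd5732d189692a74d863529da4304913fd4f0c8d439af1f9f1aa074087d0cba942c3553d098ca6182579e509e2b95032254d93ab38b29a6b42dfd3839a3e82e5554e63a662e288fc545b3bd22bb3831d8916969a674dc752c50ab588a0cf0f23a4d657368c218dd31359f6673b5c188ad1e2f9ed5aed9799db6cf4ab49dc885fac8e51096192290136b29d6b746b8a0055604f566e657ba5a6f59a1826f0270a5e36fd7839cf2a137a24f8001205c423a0f0a4301a1b9242636018084c470b0c4464109134a01f258180e2d07908442a080e4602f020e09e2c040803a45240ec024c2702c6a091903428400a8ac6825220b84e1b050441c1c23064863d19928500c1f814783e]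
noncomputable def sP (k u : ℕ) : ℕ := Nat.land (Nat.shiftRight (nth (nat_lit 0) sPd k) (Nat.mul u (nat_lit 9))) (nat_lit 511)
noncomputable def sEd : ℕ := nat_lit 0xae56eb558abd5aab52a8d429f4ea6d2e9549a451e8d45a250e85409fcfa71379b4d2673298cbe5d2d964ae55299449e4d259248e45218fc76371a8cc5e2d1389446210f8743217098441e0d058240e03007fbf5f8fb7d3ddecf579bc5e0ef75ba9d2e672b91c4e16fb75b8db6cb61aed66ab51a4d16733596ca64b218ec460af97abc5dae972b65a2c962b057aad54a853a9548a3512813e9c4da6530974b255289248a3d1c8a44a210c8540a00fc7d3d9e4ec753a1c0dc6d361acd46833998ca6430980be5e2d964ae562a950a652279389a4c259288e462290c84401f8ec74381a8d06632188c05e2e168b0562a148a04a2411888421f0f074381b0d0602a1409848221007834180b050200e060200c055dacd4e99419ecf2773a9acc2411e8e4622b0d7c3d1e4ee76bb1d0e370379a6cf663198ac2602e16eb559ab95aa9532853c9a49a411a8c45a1106823f9f0f077391c4de6931174b45024910823e1e8f07237138642e16070240200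
noncomputable def sE (u : ℕ) : ℕ := Nat.land (Nat.shiftRight sEd (Nat.mul u (nat_lit 9))) (nat_lit 511)
noncomputable def sId : ℕ := nat_lit 0xa143a15049f409fcfa7a00274f2773a9cce26e4d9b4d66933994c6612f974b4992c95ca8964a2492001299449c8f2692c92464691486411f8f476391b8d46631178b456284589912244388c421e428743482008642e15098441c81068280209038140600ff7f001fafc7d801f4f97c3dc003f7b3d5e83e798f5e4f1780f0763a77bb9da39003b1d6ea1c3a5d037738d9cce572001c6e270b81bede1ab75b8001a36db4336cb61aed66a8c862d4000c1a62f00349a2d067b399a2e16b3058cb15b2992c8638a852006331450c46189d84c1602fc4cbe5e89400bc5d89174b95c2dd6cb511ad16622592c442200fac15eae002b5581e0e87156aa0daa5501a538014c190c29548a30005c2ca20aa85409f4f274289c4da6932980004d2e964aa50240049845240048a411e8e46a30001045a29128843a181e0042a11060e412041a803f830160a3f1f4127c04000f67a3c9e0ee763a9d0e672389c0de6e03800da6c359a8d2003419ccc653218c0c6202810c2602f978ba5c2d80cb4592c15c04562a9500053291440200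
noncomputable def sI (u : ℕ) : ℕ := Nat.land (Nat.shiftRight sId (Nat.mul u (nat_lit 9))) (nat_lit 511)
noncomputable def sB : List ℕ := [nat_lit 0, nat_lit 295, nat_lit 262, nat_lit 236, nat_lit 11, nat_lit 169]
noncomputable def sC : List (List (List ℕ)) := [[[],
  [],
  [],
  [],
  [],
  [],
  [],
  [],
  []], [[],
  [],
  [],
  [],
  [],
  [],
  [nat_lit 0],
  [nat_lit 0],
  [nat_lit 0, nat_lit 0]], [[],
  [],
  [],
  [],
  [nat_lit 0],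
  [nat_lit 0, nat_lit 0],
  [nat_lit 0, nat_lit 0],
  [nat_lit 0, nat_lit 1],
  [nat_lit 0, nat_lit 1, nat_lit 1]], [[],
  [],
  [],
  [],
  [nat_lit 0],
  [nat_lit 0],
  [nat_lit 1],
  [nat_lit 1, nat_lit 1],
  [nat_lit 0, nat_lit 0]], [[],
  [],
  [],
  [],
  [],
  [nat_lit 0],
  [nat_lit 2],
  [nat_lit 3],
  [nat_lit 0, nat_lit 0, nat_lit 2, nat_lit 2, nat_lit 3, nat_lit 3]], [[],
  [],
  [],
  [],
  [],
  [],
  [nat_lit 0, nat_lit 0, nat_lit 1, nat_lit 2, nat_lit 2],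
  [nat_lit 0, nat_lit 0, nat_lit 1, nat_lit 2, nat_lit 2, nat_lit 3, nat_lit 3],
  [nat_lit 2, nat_lit 2, nat_lit 3]], [[],
  [],
  [],
  [],
  [],
  [],
  [nat_lit 0, nat_lit 0],
  [nat_lit 4, nat_lit 4],
  [nat_lit 5, nat_lit 5]], [[],
  [],
  [],
  [],
  [],
  [],
  [],
  [nat_lit 0, nat_lit 1, nat_lit 2, nat_lit 2, nat_lit 3, nat_lit 3],
  [nat_lit 1, nat_lit 2, nat_lit 2, nat_lit 4, nat_lit 4, nat_lit 5, nat_lit 5]], [[],
  [],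
  [],
  [],
  [],
  [],
  [],
  [],
  [nat_lit 0, nat_lit 1, nat_lit 1, nat_lit 3]]]
noncomputable def se : List (List ℕ) := [[],
  [],
  [],
  [],
  [nat_lit 2, nat_lit 5, nat_lit 7, nat_lit 8],
  [],
  [],
  [nat_lit 0, nat_lit 1, nat_lit 1, nat_lit 2, nat_lit 2],
  [nat_lit 0, nat_lit 0, nat_lit 1, nat_lit 2, nat_lit 2, nat_lit 5, nat_lit 7, nat_lit 8],
  [nat_lit 1, nat_lit 3, nat_lit 5, nat_lit 5, nat_lit 7, nat_lit 7, nat_lit 8, nat_lit 8],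
  [nat_lit 3, nat_lit 4, nat_lit 5, nat_lit 6, nat_lit 7, nat_lit 8, nat_lit 8],
  [nat_lit 4, nat_lit 5, nat_lit 6, nat_lit 8],
  [nat_lit 0, nat_lit 0, nat_lit 2, nat_lit 3, nat_lit 3, nat_lit 8]]
noncomputable def sl0Dd : ℕ := nat_lit 0x2efbf6559223b851de9b99d56dff6b19f649424398a3d1705a95d5254340cf63a4dc33cc02cd364a51c43ca63ecf53a0db338a826c8c304b42387229c9a204741948d218671684b1cc4d0f8311985f164400cc4c08832090260841709419050180440c02c00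
noncomputable def sl0D (u : ℕ) : ℕ := Nat.land (Nat.shiftRight sl0Dd (Nat.mul u (nat_lit 10))) (nat_lit 1023)
noncomputable def sl0Pd : ℕ := nat_lit 0xf44c9f3702801485f39483111d3912f15a2a6ac023928d8c1f707052e4304b100eb65cd4c2cdc358cd58677027ba0afc71d886a549a0a1e934a90615782610d2518ccc3cc5180
noncomputable def sl0P (u : ℕ) : ℕ := Nat.land (Nat.shiftRight sl0Pd (Nat.mul u (nat_lit 7))) (nat_lit 127)
noncomputable def sl0Qd : ℕ := nat_lit 0x133b194045254a488419f17482571e353488b3e71c3398d9dbd453813a8ec152342f2292829c78e033d7ca680cc324a582b57eb4637201e02ca06440d4cc45435680db98926580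
noncomputable def sl0Q (u : ℕ) : ℕ := Nat.land (Nat.shiftRight sl0Qd (Nat.mul u (nat_lit 7))) (nat_lit 127)
noncomputable def sl0 : Lev := ⟨81, 13, sl0D, sl0P, sl0Q⟩
noncomputable def sl1Dd : ℕ := nat_lit 0x4156a10132a48500
noncomputable def sl1D (u : ℕ) : ℕ := Nat.land (Nat.shiftRight sl1Dd (Nat.mul u (nat_lit 7))) (nat_lit 127)
noncomputable def sl1Pd : ℕ := nat_lit 0x2ad8f204df2f81
noncomputable def sl1P (u : ℕ) : ℕ := Nat.land (Nat.shiftRight sl1Pd (Nat.mul u (nat_lit 6))) (nat_lit 63)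
noncomputable def sl1Qd : ℕ := nat_lit 0x100000037000200000008000000000000000000000000006000000500040000
noncomputable def sl1Q (u : ℕ) : ℕ := Nat.land (Nat.shiftRight sl1Qd (Nat.mul u (nat_lit 4))) (nat_lit 15)
noncomputable def sl1 : Lev := ⟨9, 11, sl1D, sl1P, sl1Q⟩
noncomputable def sl2Dd : ℕ := nat_lit 0x4d20
noncomputable def sl2D (u : ℕ) : ℕ := Nat.land (Nat.shiftRight sl2Dd (Nat.mul u (nat_lit 5))) (nat_lit 31)
noncomputable def sl2Pd : ℕ := nat_lit 0x22702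
noncomputable def sl2P (u : ℕ) : ℕ := Nat.land (Nat.shiftRight sl2Pd (Nat.mul u (nat_lit 6))) (nat_lit 63)
noncomputable def sl2Qd : ℕ := nat_lit 0x200100000000000000
noncomputable def sl2Q (u : ℕ) : ℕ := Nat.land (Nat.shiftRight sl2Qd (Nat.mul u (nat_lit 2))) (nat_lit 3)
noncomputable def sl2 : Lev := ⟨3, 10, sl2D, sl2P, sl2Q⟩
noncomputable def sl3Dd : ℕ := nat_lit 0xf70
noncomputable def sl3D (u : ℕ) : ℕ := Nat.land (Nat.shiftRight sl3Dd (Nat.mul u (nat_lit 4))) (nat_lit 15)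
noncomputable def sl3Pd : ℕ := nat_lit 0x32f84
noncomputable def sl3P (u : ℕ) : ℕ := Nat.land (Nat.shiftRight sl3Pd (Nat.mul u (nat_lit 6))) (nat_lit 63)
noncomputable def sl3Qd : ℕ := nat_lit 0x10000020000000000000000000000000
noncomputable def sl3Q (u : ℕ) : ℕ := Nat.land (Nat.shiftRight sl3Qd (Nat.mul u (nat_lit 2))) (nat_lit 3)
noncomputable def sl3 : Lev := ⟨3, 8, sl3D, sl3P, sl3Q⟩
noncomputable def sl4Dd : ℕ := nat_lit 0x940
noncomputable def sl4D (u : ℕ) : ℕ := Nat.land (Nat.shiftRight sl4Dd (Nat.mul u (nat_lit 4))) (nat_lit 15)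
noncomputable def sl4Pd : ℕ := nat_lit 0x9ec5
noncomputable def sl4P (u : ℕ) : ℕ := Nat.land (Nat.shiftRight sl4Pd (Nat.mul u (nat_lit 6))) (nat_lit 63)
noncomputable def sl4Qd : ℕ := nat_lit 0x400000000000000000000000080000
noncomputable def sl4Q (u : ℕ) : ℕ := Nat.land (Nat.shiftRight sl4Qd (Nat.mul u (nat_lit 2))) (nat_lit 3)
noncomputable def sl4 : Lev := ⟨3, 5, sl4D, sl4P, sl4Q⟩
noncomputable def covr_W : List (List ℕ) := [[nat_lit 4, nat_lit 0, nat_lit 1, nat_lit 1, nat_lit 3, nat_lit 1, nat_lit 3, nat_lit 0, nat_lit 4, nat_lit 3, nat_lit 1, nat_lit 0, nat_lit 5, nat_lit 3, nat_lit 2, nat_lit 2, nat_lit 3, nat_lit 6, nat_lit 4, nat_lit 3, nat_lit 1, nat_lit 0, nat_lit 3, nat_lit 5, nat_lit 0],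
  [nat_lit 4, nat_lit 3, nat_lit 1, nat_lit 0, nat_lit 3, nat_lit 0, nat_lit 1, nat_lit 4, nat_lit 3, nat_lit 1, nat_lit 4, nat_lit 5, nat_lit 3, nat_lit 1, nat_lit 1],
  [nat_lit 2, nat_lit 2, nat_lit 2, nat_lit 3, nat_lit 1, nat_lit 4, nat_lit 3, nat_lit 2, nat_lit 3, nat_lit 0, nat_lit 5, nat_lit 3, nat_lit 2, nat_lit 2, nat_lit 6, nat_lit 4, nat_lit 3, nat_lit 1, nat_lit 3, nat_lit 0, nat_lit 6, nat_lit 5, nat_lit 6],
  [nat_lit 5, nat_lit 0, nat_lit 2, nat_lit 2, nat_lit 3, nat_lit 1, nat_lit 4, nat_lit 3, nat_lit 0, nat_lit 1, nat_lit 3, nat_lit 0, nat_lit 5, nat_lit 3, nat_lit 1, nat_lit 4, nat_lit 5, nat_lit 6, nat_lit 4, nat_lit 3, nat_lit 1, nat_lit 3, nat_lit 4, nat_lit 0],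
  [nat_lit 3, nat_lit 0, nat_lit 3, nat_lit 2, nat_lit 2, nat_lit 4, nat_lit 3, nat_lit 0, nat_lit 1, nat_lit 1, nat_lit 4, nat_lit 3, nat_lit 4, nat_lit 5, nat_lit 3, nat_lit 1, nat_lit 1, nat_lit 6, nat_lit 4, nat_lit 3, nat_lit 2, nat_lit 2, nat_lit 6, nat_lit 5],
  [nat_lit 6, nat_lit 1, nat_lit 3, nat_lit 4, nat_lit 3, nat_lit 2, nat_lit 3, nat_lit 0, nat_lit 4, nat_lit 3, nat_lit 5, nat_lit 3, nat_lit 2, nat_lit 5, nat_lit 6, nat_lit 4, nat_lit 3, nat_lit 2, nat_lit 3, nat_lit 4],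
  [nat_lit 2, nat_lit 2, nat_lit 3, nat_lit 0, nat_lit 1, nat_lit 4, nat_lit 3, nat_lit 0, nat_lit 1, nat_lit 3, nat_lit 5, nat_lit 3, nat_lit 0, nat_lit 2, nat_lit 3, nat_lit 5, nat_lit 6, nat_lit 4, nat_lit 3, nat_lit 1, nat_lit 0, nat_lit 3, nat_lit 4]]
noncomputable def covr_P : ℕ → ℕ → ℕ := wdsP H16.O73.P covr_W
noncomputable def covT0 : CT := (.split (.more (.split (.more (.split (.more (.split (.more (.split (.more (.split (.more (.split (.more (.split (.more .one (.more (.leaf (nat_lit 0) []) (.more (.leaf (nat_lit 0) [nat_lit 2, nat_lit 0, nat_lit 1, nat_lit 3, nat_lit 0, nat_lit 4, nat_lit 3, nat_lit 4, nat_lit 5, nat_lit 6, nat_lit 4, nat_lit 3, nat_lit 1, nat_lit 6, nat_lit 5, nat_lit 3, nat_lit 0]) .one)))) (.more (.fuse [nat_lit 6] [] (.leaf (nat_lit 0) [nat_lit 3, nat_lit 0, nat_lit 1, nat_lit 4, nat_lit 3, nat_lit 0, nat_lit 1, nat_lit 3, nat_lit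 5, nat_lit 3, nat_lit 1, nat_lit 0, nat_lit 4, nat_lit 5, nat_lit 6, nat_lit 4, nat_lit 3, nat_lit 1, nat_lit 1, nat_lit 3, nat_lit 6])) (.more (.fuse [nat_lit 6, nat_lit 6] [] (.leaf (nat_lit 0) [nat_lit 0, nat_lit 1, nat_lit 3, nat_lit 0, nat_lit 1, nat_lit 3, nat_lit 4, nat_lit 3, nat_lit 1, nat_lit 0, nat_lit 4, nat_lit 5, nat_lit 3, nat_lit 2, nat_lit 2, nat_lit 4, nat_lit 6, nat_lit 5, nat_lit 3, nat_lit 2, nat_lit 2, nat_lit 2])) .one)))) (.more (.fuse [nat_lit 7] [nat_lit 0] (.fuse [nat_lit 4] [] (.leaf (nat_lit 1) []))) (.more (.fuse [nat_lit 7, nat_lit 7] [] (.fuse [nat_lit 4, nat_lit 4] [] (.leaf (nat_lit 1) [nat_lit 3, nat_lit 2, nat_lit 2, nat_lit 0, nat_lit 3, nat_lit 2, nat_lit 4, nat_lit 3, nat_lit 1, nat_lit 5, nat_lit 3, nat_lit 1, nat_lit 4, nat_lit 6, nat_lit 5, nat_lit 3, nat_lit 1, nat_lit 1, nat_lit 5]))) .one)))) (.more (.split (.more (.fuse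 [nat_lit 6] [] (.fuse [nat_lit 4] [] (.leaf (nat_lit 2) []))) (.more (.fuse [nat_lit 6] [nat_lit 0, nat_lit 0] (.fuse [nat_lit 4, nat_lit 4] [] (.leaf (nat_lit 3) []))) (.more (.fuse [nat_lit 6] [nat_lit 0] (.fuse [nat_lit 5, nat_lit 5] [] (.leaf (nat_lit 0) [nat_lit 4, nat_lit 5, nat_lit 3, nat_lit 1, nat_lit 0, nat_lit 3, nat_lit 2, nat_lit 6, nat_lit 4, nat_lit 3, nat_lit 1, nat_lit 6, nat_lit 5, nat_lit 6, nat_lit 3, nat_lit 5]))) .one)))) (.more (.split (.more (.fuse [nat_lit 6, nat_lit 6] [nat_lit 0, nat_lit 0] (.fuse [nat_lit 4, nat_lit 4] [] (.leaf (nat_lit 2) [nat_lit 1, nat_lit 0, nat_lit 3, nat_lit 0, nat_lit 1, nat_lit 4, nat_lit 3, nat_lit 0, nat_lit 1, nat_lit 3, nat_lit 4, nat_lit 5, nat_lit 3, nat_lit 1, nat_lit 0, nat_lit 4, nat_lit 6, nat_lit 4, nat_lit 5]))) (.more (.fuse [nat_lit 6, nat_lit 6] [] (.fuse [nat_lit 5] [] (.leaf (nat_lit 0) [nat_lit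 0, nat_lit 3, nat_lit 1, nat_lit 0, nat_lit 2, nat_lit 4, nat_lit 3, nat_lit 0, nat_lit 1, nat_lit 3, nat_lit 5, nat_lit 3, nat_lit 6, nat_lit 4, nat_lit 3, nat_lit 1, nat_lit 0, nat_lit 3, nat_lit 5, nat_lit 3, nat_lit 6]))) (.more (.fuse [nat_lit 6, nat_lit 6] [nat_lit 0] (.fuse [nat_lit 4] [] (.leaf (nat_lit 3) [nat_lit 4, nat_lit 0, nat_lit 3, nat_lit 0, nat_lit 2, nat_lit 3, nat_lit 2, nat_lit 4, nat_lit 3, nat_lit 0, nat_lit 4, nat_lit 5, nat_lit 3, nat_lit 1, nat_lit 1, nat_lit 4, nat_lit 5, nat_lit 4]))) .one)))) .one)))) (.more (.fuse [nat_lit 7] [nat_lit 0, nat_lit 0] (.fuse [nat_lit 6] [nat_lit 0, nat_lit 0] (.split (.more (.fuse [nat_lit 2, nat_lit 2] [] (.leaf (nat_lit 1) [nat_lit 2, nat_lit 2, nat_lit 2, nat_lit 3, nat_lit 0, nat_lit 4, nat_lit 3, nat_lit 0, nat_lit 2, nat_lit 3, nat_lit 2, nat_lit 4, nat_lit 3, nat_lit 2, nat_lit 5, nat_lit 3, nat_lit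 4, nat_lit 6, nat_lit 4])) (.more (.fuse [nat_lit 2, nat_lit 2] [] (.leaf (nat_lit 3) [nat_lit 1, nat_lit 4, nat_lit 3, nat_lit 2, nat_lit 3, nat_lit 4, nat_lit 5, nat_lit 3, nat_lit 0, nat_lit 2, nat_lit 3, nat_lit 6, nat_lit 5, nat_lit 3, nat_lit 2, nat_lit 2, nat_lit 5])) (.more (.fuse [nat_lit 2, nat_lit 2] [] (.leaf (nat_lit 2) [nat_lit 1, nat_lit 1, nat_lit 0, nat_lit 4, nat_lit 3, nat_lit 2, nat_lit 4, nat_lit 3, nat_lit 4, nat_lit 5, nat_lit 3, nat_lit 2, nat_lit 2, nat_lit 2, nat_lit 5, nat_lit 6, nat_lit 4, nat_lit 0])) .one)))))) (.more (.fuse [nat_lit 7, nat_lit 7] [nat_lit 1] (.fuse [nat_lit 6, nat_lit 6] [nat_lit 0] (.split (.more (.fuse [nat_lit 2] [] (.leaf (nat_lit 1) [nat_lit 3, nat_lit 2, nat_lit 2, nat_lit 3, nat_lit 4, nat_lit 3, nat_lit 0, nat_lit 2, nat_lit 3, nat_lit 2, nat_lit 4, nat_lit 3, nat_lit 1, nat_lit 5, nat_lit 3, nat_lit 0, nat_lit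 4, nat_lit 5, nat_lit 6, nat_lit 4])) (.more (.fuse [nat_lit 2] [] (.leaf (nat_lit 2) [nat_lit 6, nat_lit 5, nat_lit 3, nat_lit 0, nat_lit 2, nat_lit 0, nat_lit 4, nat_lit 3, nat_lit 1, nat_lit 1, nat_lit 3, nat_lit 5, nat_lit 3, nat_lit 5, nat_lit 3, nat_lit 6, nat_lit 4, nat_lit 3, nat_lit 5, nat_lit 3, nat_lit 6, nat_lit 2])) (.more (.fuse [nat_lit 2] [] (.leaf (nat_lit 3) [nat_lit 6, nat_lit 0, nat_lit 3, nat_lit 1, nat_lit 0, nat_lit 3, nat_lit 4, nat_lit 5, nat_lit 3, nat_lit 0, nat_lit 2, nat_lit 6, nat_lit 5])) .one)))))) .one)))) (.more (.split (.more (.fuse [nat_lit 7, nat_lit 7] [nat_lit 0, nat_lit 1, nat_lit 1, nat_lit 2] (.fuse [nat_lit 6, nat_lit 6] [nat_lit 0, nat_lit 1, nat_lit 1] (.split (.more (.fuse [nat_lit 2] [] (.leaf (nat_lit 3) [nat_lit 2, nat_lit 2, nat_lit 3, nat_lit 1, nat_lit 1, nat_lit 4, nat_lit 3, nat_lit 2, nat_lit 2, nat_lit 4,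 nat_lit 5, nat_lit 3, nat_lit 0, nat_lit 1, nat_lit 5, nat_lit 6, nat_lit 4])) (.more (.fuse [nat_lit 2] [] (.leaf (nat_lit 4) [])) (.more (.fuse [nat_lit 2] [] (.leaf (nat_lit 5) [])) .one)))))) (.more (.split (.more (.fuse [nat_lit 7, nat_lit 7] [nat_lit 1] (.fuse [nat_lit 6] [nat_lit 0] (.fuse [nat_lit 3] [] (.leaf (nat_lit 4) [nat_lit 0, nat_lit 3, nat_lit 2, nat_lit 2, nat_lit 4, nat_lit 3, nat_lit 0, nat_lit 2, nat_lit 5, nat_lit 3, nat_lit 0, nat_lit 4, nat_lit 3, nat_lit 1, nat_lit 6, nat_lit 5, nat_lit 3, nat_lit 1, nat_lit 0, nat_lit 3])))) (.more (.fuse [nat_lit 7, nat_lit 7] [nat_lit 0, nat_lit 0, nat_lit 1, nat_lit 1] (.fuse [nat_lit 6, nat_lit 6] [nat_lit 0] (.fuse [nat_lit 3] [] (.leaf (nat_lit 4) [nat_lit 2, nat_lit 3, nat_lit 4, nat_lit 3, nat_lit 1, nat_lit 0, nat_lit 3, nat_lit 0, nat_lit 4, nat_lit 3, nat_lit 5, nat_lit 3, nat_lit 2, nat_lit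 6, nat_lit 5, nat_lit 3, nat_lit 0, nat_lit 5])))) (.more (.fuse [nat_lit 7, nat_lit 7] [nat_lit 0] (.split (.more (.fuse [nat_lit 3] [] (.leaf (nat_lit 6) [])) (.more (.fuse [nat_lit 3] [] (.leaf (nat_lit 1) [nat_lit 0, nat_lit 1, nat_lit 0, nat_lit 2, nat_lit 3, nat_lit 1, nat_lit 0, nat_lit 2, nat_lit 4, nat_lit 3, nat_lit 5, nat_lit 3, nat_lit 2, nat_lit 4])) (.more (.fuse [nat_lit 3] [] (.leaf (nat_lit 0) [nat_lit 2, nat_lit 0, nat_lit 1, nat_lit 3, nat_lit 0, nat_lit 1, nat_lit 3, nat_lit 4, nat_lit 3, nat_lit 0, nat_lit 2, nat_lit 5, nat_lit 3, nat_lit 0, nat_lit 2, nat_lit 6, nat_lit 4, nat_lit 3, nat_lit 5])) .one))))) .one)))) (.more (.fuse [nat_lit 7] [nat_lit 1, nat_lit 2, nat_lit 2] (.fuse [nat_lit 6] [nat_lit 1] (.split (.more (.fuse [nat_lit 2, nat_lit 2] [] (.leaf (nat_lit 5) [nat_lit 2, nat_lit 3, nat_lit 1, nat_lit 0, nat_lit 3, nat_lit 4, nat_lit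 3, nat_lit 2, nat_lit 2, nat_lit 5, nat_lit 3, nat_lit 5, nat_lit 3, nat_lit 6, nat_lit 4, nat_lit 3, nat_lit 0, nat_lit 2, nat_lit 6, nat_lit 5, nat_lit 3, nat_lit 2])) (.more (.fuse [nat_lit 2, nat_lit 2] [] (.leaf (nat_lit 2) [nat_lit 0, nat_lit 2, nat_lit 2, nat_lit 2, nat_lit 3, nat_lit 1, nat_lit 4, nat_lit 3, nat_lit 0, nat_lit 4, nat_lit 5, nat_lit 3, nat_lit 2, nat_lit 3, nat_lit 6, nat_lit 4])) (.more (.fuse [nat_lit 2, nat_lit 2] [] (.leaf (nat_lit 4) [nat_lit 3, nat_lit 0, nat_lit 2, nat_lit 3, nat_lit 1, nat_lit 4, nat_lit 3, nat_lit 1, nat_lit 5, nat_lit 3, nat_lit 2, nat_lit 5])) .one)))))) .one)))) (.more (.split (.more (.fuse [nat_lit 7] [nat_lit 0, nat_lit 1, nat_lit 1, nat_lit 2] (.fuse [nat_lit 6] [nat_lit 0, nat_lit 1, nat_lit 1] (.split (.more (.fuse [nat_lit 2, nat_lit 2] [] (.leaf (nat_lit 3) [nat_lit 1, nat_lit 6, nat_lit 0, nat_lit 3,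 nat_lit 1, nat_lit 1, nat_lit 3, nat_lit 4, nat_lit 3, nat_lit 1, nat_lit 3, nat_lit 0, nat_lit 5, nat_lit 3, nat_lit 2, nat_lit 6, nat_lit 5, nat_lit 3, nat_lit 0, nat_lit 2, nat_lit 3])) (.more (.fuse [nat_lit 2, nat_lit 2] [] (.leaf (nat_lit 5) [nat_lit 2, nat_lit 2, nat_lit 0, nat_lit 3, nat_lit 0, nat_lit 4, nat_lit 3, nat_lit 2, nat_lit 5, nat_lit 3, nat_lit 0, nat_lit 4, nat_lit 3, nat_lit 1, nat_lit 1])) (.more (.fuse [nat_lit 2, nat_lit 2] [] (.leaf (nat_lit 4) [nat_lit 1, nat_lit 3, nat_lit 4, nat_lit 3, nat_lit 2, nat_lit 3, nat_lit 0, nat_lit 5, nat_lit 3, nat_lit 0, nat_lit 2, nat_lit 4, nat_lit 5, nat_lit 3, nat_lit 2])) .one)))))) (.more (.fuse [nat_lit 7, nat_lit 7] [nat_lit 0, nat_lit 0, nat_lit 2, nat_lit 2] (.fuse [nat_lit 6, nat_lit 6] [nat_lit 0, nat_lit 1] (.split (.more (.fuse [nat_lit 2] [] (.leaf (nat_lit 5) [nat_lit 6, nat_lit 1, nat_lit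 4, nat_lit 3, nat_lit 1, nat_lit 3, nat_lit 5, nat_lit 3, nat_lit 5, nat_lit 3, nat_lit 1, nat_lit 0, nat_lit 6, nat_lit 4, nat_lit 3, nat_lit 0, nat_lit 5])) (.more (.fuse [nat_lit 2] [] (.leaf (nat_lit 4) [nat_lit 5, nat_lit 3, nat_lit 1, nat_lit 0, nat_lit 3, nat_lit 0, nat_lit 5, nat_lit 3, nat_lit 1, nat_lit 1, nat_lit 3, nat_lit 5, nat_lit 6, nat_lit 4, nat_lit 3, nat_lit 2, nat_lit 3, nat_lit 4])) (.more (.fuse [nat_lit 2] [] (.leaf (nat_lit 2) [nat_lit 6, nat_lit 5, nat_lit 4, nat_lit 0, nat_lit 1, nat_lit 1, nat_lit 0, nat_lit 3, nat_lit 4, nat_lit 3, nat_lit 2, nat_lit 3, nat_lit 0, nat_lit 2, nat_lit 4, nat_lit 6, nat_lit 4])) .one)))))) (.more (.split (.more (.fuse [nat_lit 7] [nat_lit 1, nat_lit 1] (.fuse [nat_lit 6, nat_lit 6] [] (.fuse [nat_lit 3, nat_lit 3] [] (.leaf (nat_lit 4) [nat_lit 0, nat_lit 1, nat_lit 3, nat_lit 2, nat_lit 2, nat_lit 3,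 nat_lit 4, nat_lit 3, nat_lit 0, nat_lit 2, nat_lit 4, nat_lit 3, nat_lit 5, nat_lit 3, nat_lit 2, nat_lit 4, nat_lit 5, nat_lit 3, nat_lit 0, nat_lit 6, nat_lit 5])))) (.more (.fuse [nat_lit 7] [nat_lit 1] (.split (.more (.fuse [nat_lit 3, nat_lit 3] [] (.leaf (nat_lit 6) [nat_lit 0, nat_lit 1, nat_lit 1, nat_lit 0, nat_lit 3, nat_lit 4, nat_lit 3, nat_lit 0, nat_lit 1, nat_lit 5, nat_lit 3, nat_lit 1, nat_lit 5, nat_lit 6, nat_lit 4, nat_lit 3, nat_lit 1, nat_lit 6, nat_lit 5])) (.more (.fuse [nat_lit 3, nat_lit 3] [] (.leaf (nat_lit 0) [nat_lit 5, nat_lit 0, nat_lit 3, nat_lit 0, nat_lit 4, nat_lit 3, nat_lit 2, nat_lit 5, nat_lit 3, nat_lit 0, nat_lit 2, nat_lit 3, nat_lit 0, nat_lit 6, nat_lit 5, nat_lit 3, nat_lit 1, nat_lit 1, nat_lit 5, nat_lit 6, nat_lit 4])) (.more (.fuse [nat_lit 3, nat_lit 3] [] (.leaf (nat_lit 1) [nat_lit 2, nat_lit 3, nat_lit 2,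 nat_lit 0, nat_lit 4, nat_lit 3, nat_lit 0, nat_lit 1, nat_lit 1, nat_lit 5, nat_lit 3, nat_lit 0, nat_lit 2, nat_lit 6, nat_lit 4, nat_lit 3, nat_lit 1, nat_lit 3, nat_lit 5, nat_lit 6])) .one))))) (.more (.fuse [nat_lit 7] [] (.fuse [nat_lit 6] [nat_lit 0, nat_lit 0] (.fuse [nat_lit 3, nat_lit 3] [] (.leaf (nat_lit 4) [nat_lit 3, nat_lit 2, nat_lit 0, nat_lit 3, nat_lit 0, nat_lit 2, nat_lit 4, nat_lit 3, nat_lit 2, nat_lit 3, nat_lit 0, nat_lit 2, nat_lit 4, nat_lit 5, nat_lit 3, nat_lit 1, nat_lit 3, nat_lit 0, nat_lit 6, nat_lit 5])))) .one)))) .one)))) .one)))) (.more (.fuse [nat_lit 8, nat_lit 8] [nat_lit 0, nat_lit 0, nat_lit 2, nat_lit 2, nat_lit 3, nat_lit 3] (.fuse [nat_lit 7, nat_lit 7] [nat_lit 0, nat_lit 1, nat_lit 2, nat_lit 2, nat_lit 3, nat_lit 3] (.split (.more (.fuse [nat_lit 4, nat_lit 4] [] (.fuse [nat_lit 3, nat_lit 3] [nat_lit 0, nat_lit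 0] (.fuse [nat_lit 1, nat_lit 1] [] (.prune (nat_lit 0) (nat_lit 2) [])))) (.more (.fuse [nat_lit 4, nat_lit 4] [nat_lit 0, nat_lit 0] (.fuse [nat_lit 3, nat_lit 3] [nat_lit 0, nat_lit 0] (.fuse [nat_lit 1, nat_lit 1] [] (.leaf (nat_lit 4) [nat_lit 3, nat_lit 2, nat_lit 0, nat_lit 1, nat_lit 4, nat_lit 3, nat_lit 1, nat_lit 3, nat_lit 0, nat_lit 4, nat_lit 3, nat_lit 2, nat_lit 5, nat_lit 3, nat_lit 1, nat_lit 3, nat_lit 6, nat_lit 4, nat_lit 1, nat_lit 5, nat_lit 3])))) (.more (.fuse [nat_lit 4, nat_lit 4] [nat_lit 0] (.fuse [nat_lit 3, nat_lit 3] [nat_lit 0, nat_lit 0] (.fuse [nat_lit 1, nat_lit 1] [] (.prune (nat_lit 0) (nat_lit 1) [])))) .one)))))) (.more (.fuse [nat_lit 8] [] (.fuse [nat_lit 7] [] (.split (.more (.fuse [nat_lit 4] [] (.fuse [nat_lit 3] [] (.fuse [nat_lit 1] [] (.prune (nat_lit 0) (nat_lit 1) [])))) (.more (.fuse [nat_lit 4] [nat_lit 0] (.fuse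 [nat_lit 3] [] (.fuse [nat_lit 1] [] (.prune (nat_lit 0) (nat_lit 2) [])))) (.more (.fuse [nat_lit 4] [nat_lit 0, nat_lit 0] (.fuse [nat_lit 3] [] (.fuse [nat_lit 1] [] (.leaf (nat_lit 4) [nat_lit 0, nat_lit 2, nat_lit 2, nat_lit 2, nat_lit 3, nat_lit 0, nat_lit 1, nat_lit 4, nat_lit 3, nat_lit 1, nat_lit 1, nat_lit 5, nat_lit 3, nat_lit 0, nat_lit 2, nat_lit 3, nat_lit 0, nat_lit 6, nat_lit 5])))) .one)))))) .one)))) (.more (.split (.more (.fuse [nat_lit 8, nat_lit 8] [nat_lit 0, nat_lit 0, nat_lit 1, nat_lit 2, nat_lit 4] (.fuse [nat_lit 6] [nat_lit 0, nat_lit 0, nat_lit 1, nat_lit 1, nat_lit 3, nat_lit 3] (.fuse [nat_lit 4, nat_lit 4] [nat_lit 0, nat_lit 1] (.prune (nat_lit 3) (nat_lit 2) [nat_lit 0, nat_lit 1, nat_lit 2, nat_lit 2])))) (.more (.fuse [nat_lit 8] [nat_lit 0, nat_lit 0, nat_lit 4, nat_lit 4] (.fuse [nat_lit 6] [nat_lit 0, nat_lit 0, nat_lit 2,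 nat_lit 2, nat_lit 3, nat_lit 3] (.fuse [nat_lit 4, nat_lit 4] [nat_lit 0, nat_lit 2] (.prune (nat_lit 3) (nat_lit 1) [nat_lit 0, nat_lit 1])))) (.more (.split (.more (.fuse [nat_lit 6] [nat_lit 1, nat_lit 2, nat_lit 3, nat_lit 3] (.fuse [nat_lit 4, nat_lit 4] [nat_lit 1, nat_lit 1, nat_lit 2, nat_lit 2] (.fuse [nat_lit 4, nat_lit 5] [nat_lit 0, nat_lit 0, nat_lit 1, nat_lit 1] (.fuse [nat_lit 2, nat_lit 2] [nat_lit 0, nat_lit 0] (.prune (nat_lit 1) (nat_lit 1) [nat_lit 0, nat_lit 0]))))) (.more (.fuse [nat_lit 6] [nat_lit 0, nat_lit 0, nat_lit 1, nat_lit 1, nat_lit 3, nat_lit 3] (.fuse [nat_lit 4, nat_lit 4] [nat_lit 0, nat_lit 0, nat_lit 1, nat_lit 1, nat_lit 2, nat_lit 2] (.fuse [nat_lit 4, nat_lit 5] [nat_lit 0, nat_lit 0, nat_lit 1, nat_lit 1] (.fuse [nat_lit 2, nat_lit 2] [nat_lit 0] (.split (.more (.leaf (nat_lit 1) [nat_lit 3, nat_lit 1, nat_lit 0, nat_lit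 3, nat_lit 2, nat_lit 2, nat_lit 3, nat_lit 4, nat_lit 3, nat_lit 4, nat_lit 3, nat_lit 4, nat_lit 5, nat_lit 3, nat_lit 0, nat_lit 1, nat_lit 6, nat_lit 4]) (.more (.leaf (nat_lit 2) [nat_lit 1, nat_lit 1, nat_lit 3, nat_lit 2, nat_lit 3, nat_lit 4, nat_lit 6, nat_lit 4, nat_lit 3, nat_lit 0, nat_lit 1, nat_lit 5, nat_lit 3, nat_lit 0, nat_lit 5]) (.more (.leaf (nat_lit 3) [nat_lit 0, nat_lit 3, nat_lit 2, nat_lit 3, nat_lit 4, nat_lit 3, nat_lit 1, nat_lit 0, nat_lit 3, nat_lit 2, nat_lit 4, nat_lit 3, nat_lit 5, nat_lit 6, nat_lit 4, nat_lit 3, nat_lit 0, nat_lit 2, nat_lit 6]) .one)))))))) (.more (.fuse [nat_lit 6] [nat_lit 2, nat_lit 2, nat_lit 3, nat_lit 3] (.fuse [nat_lit 4, nat_lit 4] [nat_lit 0, nat_lit 1, nat_lit 1, nat_lit 2, nat_lit 2] (.fuse [nat_lit 4, nat_lit 5] [nat_lit 0, nat_lit 0, nat_lit 1, nat_lit 1] (.fuse [nat_lit 2, nat_lit 2] [] (.prune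 (nat_lit 1) (nat_lit 2) []))))) .one)))) .one)))) (.more (.split (.more (.fuse [nat_lit 8] [nat_lit 0, nat_lit 0, nat_lit 2, nat_lit 4] (.fuse [nat_lit 6, nat_lit 6] [nat_lit 0, nat_lit 1, nat_lit 2, nat_lit 2] (.fuse [nat_lit 4] [nat_lit 0] (.prune (nat_lit 3) (nat_lit 1) [nat_lit 0, nat_lit 0, nat_lit 1, nat_lit 1, nat_lit 2])))) (.more (.split (.more (.fuse [nat_lit 6, nat_lit 6] [nat_lit 0, nat_lit 0, nat_lit 1, nat_lit 2] (.fuse [nat_lit 4] [nat_lit 0, nat_lit 1, nat_lit 1, nat_lit 2, nat_lit 2] (.fuse [nat_lit 0, nat_lit 0, nat_lit 4, nat_lit 4, nat_lit 5, nat_lit 5] [nat_lit 0] (.fuse [nat_lit 2] [nat_lit 0] (.prune (nat_lit 1) (nat_lit 2) [nat_lit 0, nat_lit 0]))))) (.more (.fuse [nat_lit 6, nat_lit 6] [nat_lit 2, nat_lit 2] (.fuse [nat_lit 4] [nat_lit 0, nat_lit 1, nat_lit 1, nat_lit 2, nat_lit 2] (.fuse [nat_lit 0, nat_lit 0, nat_lit 4, nat_lit 4, nat_lit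 5, nat_lit 5] [] (.fuse [nat_lit 2] [nat_lit 0, nat_lit 0] (.prune (nat_lit 1) (nat_lit 1) [nat_lit 0, nat_lit 0]))))) (.more (.fuse [nat_lit 6, nat_lit 6] [nat_lit 0, nat_lit 0, nat_lit 1, nat_lit 1] (.fuse [nat_lit 4] [nat_lit 0, nat_lit 1, nat_lit 1, nat_lit 2, nat_lit 2] (.fuse [nat_lit 0, nat_lit 0, nat_lit 4, nat_lit 4, nat_lit 5, nat_lit 5] [nat_lit 0, nat_lit 0] (.fuse [nat_lit 2] [] (.split (.more (.leaf (nat_lit 3) [nat_lit 2, nat_lit 0, nat_lit 3, nat_lit 1, nat_lit 0, nat_lit 2, nat_lit 4, nat_lit 3, nat_lit 2, nat_lit 4, nat_lit 3, nat_lit 5, nat_lit 3, nat_lit 0, nat_lit 2, nat_lit 5, nat_lit 6, nat_lit 5, nat_lit 3, nat_lit 0, nat_lit 2, nat_lit 3]) (.more (.leaf (nat_lit 2) [nat_lit 3, nat_lit 1, nat_lit 0, nat_lit 3, nat_lit 4, nat_lit 3, nat_lit 0, nat_lit 1, nat_lit 5, nat_lit 3, nat_lit 5, nat_lit 6, nat_lit 5, nat_lit 3, nat_lit 1, nat_lit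 0, nat_lit 5, nat_lit 3, nat_lit 2, nat_lit 5]) (.more (.leaf (nat_lit 1) [nat_lit 2, nat_lit 3, nat_lit 1, nat_lit 0, nat_lit 3, nat_lit 0, nat_lit 4, nat_lit 3, nat_lit 1, nat_lit 0, nat_lit 5, nat_lit 3, nat_lit 4, nat_lit 6, nat_lit 4]) .one)))))))) .one)))) (.more (.fuse [nat_lit 8, nat_lit 8] [nat_lit 0, nat_lit 1, nat_lit 2, nat_lit 2, nat_lit 3, nat_lit 4, nat_lit 4] (.fuse [nat_lit 6, nat_lit 6] [nat_lit 0, nat_lit 0, nat_lit 1] (.fuse [nat_lit 4] [nat_lit 0, nat_lit 1, nat_lit 2] (.prune (nat_lit 3) (nat_lit 2) [nat_lit 0, nat_lit 0, nat_lit 1])))) .one)))) .one))))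
noncomputable def covT1 : CT := (.split (.more (.split (.more (.fuse [nat_lit 6] [nat_lit 0, nat_lit 1, nat_lit 2, nat_lit 3, nat_lit 3] (.fuse [nat_lit 6, nat_lit 6, nat_lit 7] [nat_lit 2, nat_lit 2, nat_lit 3, nat_lit 3] (.fuse [nat_lit 4] [nat_lit 0, nat_lit 0, nat_lit 1, nat_lit 2] (.prune (nat_lit 3) (nat_lit 1) [nat_lit 0, nat_lit 1, nat_lit 1])))) (.more (.fuse [nat_lit 6] [nat_lit 0, nat_lit 1, nat_lit 2, nat_lit 2, nat_lit 3, nat_lit 3] (.split (.more (.fuse [nat_lit 4] [nat_lit 0, nat_lit 0] (.fuse [nat_lit 0, nat_lit 0, nat_lit 4, nat_lit 4, nat_lit 5, nat_lit 5] [nat_lit 0, nat_lit 0, nat_lit 1, nat_lit 1] (.fuse [nat_lit 2] [] (.prune (nat_lit 1) (nat_lit 1) [])))) (.more (.fuse [nat_lit 4] [nat_lit 0] (.fuse [nat_lit 0, nat_lit 0, nat_lit 4, nat_lit 4, nat_lit 5, nat_lit 5] [nat_lit 1, nat_lit 1] (.fuse [nat_lit 2] [nat_lit 0, nat_lit 0] (.split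 (.more (.leaf (nat_lit 4) [nat_lit 3, nat_lit 4, nat_lit 3, nat_lit 0, nat_lit 1, nat_lit 1, nat_lit 4, nat_lit 5, nat_lit 3, nat_lit 0, nat_lit 2, nat_lit 3, nat_lit 5, nat_lit 3, nat_lit 6, nat_lit 4, nat_lit 5]) (.more (.leaf (nat_lit 3) [nat_lit 2, nat_lit 3, nat_lit 0, nat_lit 2, nat_lit 4, nat_lit 3, nat_lit 2, nat_lit 5, nat_lit 3, nat_lit 1, nat_lit 1, nat_lit 4, nat_lit 5, nat_lit 6, nat_lit 5, nat_lit 3, nat_lit 1, nat_lit 1, nat_lit 3]) (.more (.leaf (nat_lit 5) [nat_lit 1, nat_lit 0, nat_lit 2, nat_lit 3, nat_lit 0, nat_lit 4, nat_lit 3, nat_lit 2, nat_lit 2, nat_lit 4, nat_lit 5, nat_lit 3, nat_lit 1, nat_lit 1, nat_lit 6, nat_lit 4, nat_lit 3, nat_lit 2, nat_lit 3, nat_lit 0]) .one))))))) (.more (.fuse [nat_lit 4] [] (.fuse [nat_lit 0, nat_lit 0, nat_lit 4, nat_lit 4, nat_lit 5, nat_lit 5] [nat_lit 0, nat_lit 1, nat_lit 1] (.fuse [nat_lit 2] [nat_lit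 0] (.prune (nat_lit 1) (nat_lit 2) [nat_lit 0, nat_lit 0])))) .one))))) (.more (.fuse [nat_lit 6] [nat_lit 0, nat_lit 0, nat_lit 1, nat_lit 3, nat_lit 3] (.fuse [nat_lit 0, nat_lit 0, nat_lit 1, nat_lit 1, nat_lit 2, nat_lit 2, nat_lit 3, nat_lit 4, nat_lit 4, nat_lit 6, nat_lit 7, nat_lit 7] [nat_lit 1, nat_lit 2] (.fuse [nat_lit 4] [nat_lit 0, nat_lit 0, nat_lit 1, nat_lit 1, nat_lit 2, nat_lit 2] (.prune (nat_lit 3) (nat_lit 2) [nat_lit 0, nat_lit 1, nat_lit 1, nat_lit 2])))) .one)))) (.more (.split (.more (.fuse [nat_lit 6] [nat_lit 0, nat_lit 0, nat_lit 2, nat_lit 2, nat_lit 3, nat_lit 3, nat_lit 4] (.split (.more (.fuse [nat_lit 6, nat_lit 6, nat_lit 7] [nat_lit 0, nat_lit 1, nat_lit 1] (.fuse [nat_lit 4] [nat_lit 0] (.fuse [nat_lit 3] [] (.fuse [nat_lit 2, nat_lit 2] [] (.prune (nat_lit 0) (nat_lit 1) []))))) (.more (.fuse [nat_lit 0, nat_lit 0, nat_lit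 1, nat_lit 1, nat_lit 2, nat_lit 2, nat_lit 3, nat_lit 4, nat_lit 4, nat_lit 6, nat_lit 7, nat_lit 7] [nat_lit 2] (.fuse [nat_lit 4] [] (.fuse [nat_lit 3] [nat_lit 0, nat_lit 0] (.fuse [nat_lit 2] [] (.prune (nat_lit 0) (nat_lit 1) []))))) (.more (.split (.more (.fuse [nat_lit 4] [nat_lit 0, nat_lit 0] (.fuse [nat_lit 3] [nat_lit 0] (.fuse [nat_lit 3, nat_lit 3, nat_lit 4, nat_lit 5] [] (.leaf (nat_lit 4) [nat_lit 0, nat_lit 3, nat_lit 1, nat_lit 0, nat_lit 3, nat_lit 0, nat_lit 4, nat_lit 3, nat_lit 1, nat_lit 4, nat_lit 3, nat_lit 0, nat_lit 4, nat_lit 3, nat_lit 2, nat_lit 5, nat_lit 3, nat_lit 1, nat_lit 3, nat_lit 0, nat_lit 6, nat_lit 5])))) (.more (.fuse [nat_lit 4] [] (.fuse [nat_lit 3] [nat_lit 0] (.split (.more (.leaf (nat_lit 6) [nat_lit 0, nat_lit 3, nat_lit 1, nat_lit 1, nat_lit 3, nat_lit 4, nat_lit 3, nat_lit 2, nat_lit 3, nat_lit 5, nat_lit 3,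 nat_lit 1, nat_lit 3, nat_lit 6, nat_lit 5, nat_lit 3, nat_lit 1, nat_lit 0, nat_lit 2]) (.more (.leaf (nat_lit 0) [nat_lit 2, nat_lit 0, nat_lit 1, nat_lit 3, nat_lit 1, nat_lit 3, nat_lit 0, nat_lit 4, nat_lit 3, nat_lit 2, nat_lit 4, nat_lit 3, nat_lit 4, nat_lit 6, nat_lit 4, nat_lit 3, nat_lit 1, nat_lit 1, nat_lit 6]) (.more (.leaf (nat_lit 1) [nat_lit 1, nat_lit 0, nat_lit 6]) .one)))))) (.more (.fuse [nat_lit 4] [nat_lit 0] (.fuse [nat_lit 3] [nat_lit 0] (.fuse [nat_lit 0, nat_lit 3, nat_lit 4, nat_lit 4, nat_lit 5, nat_lit 5] [] (.leaf (nat_lit 4) [nat_lit 0, nat_lit 2, nat_lit 0, nat_lit 3, nat_lit 2, nat_lit 2, nat_lit 2, nat_lit 3, nat_lit 4, nat_lit 3, nat_lit 0, nat_lit 1, nat_lit 1, nat_lit 5, nat_lit 3, nat_lit 1, nat_lit 0, nat_lit 3, nat_lit 5, nat_lit 6, nat_lit 5])))) .one)))) .one))))) (.more (.fuse [nat_lit 6] [nat_lit 2, nat_lit 2, nat_lit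 3, nat_lit 3, nat_lit 4] (.fuse [nat_lit 0, nat_lit 0, nat_lit 1, nat_lit 1, nat_lit 2, nat_lit 2, nat_lit 3, nat_lit 4, nat_lit 4, nat_lit 6, nat_lit 7, nat_lit 7] [nat_lit 0, nat_lit 1, nat_lit 1, nat_lit 3] (.split (.more (.split (.more (.split (.more (.fuse [nat_lit 1, nat_lit 1] [] (.leaf (nat_lit 3) [nat_lit 2, nat_lit 5, nat_lit 3, nat_lit 0, nat_lit 2, nat_lit 4, nat_lit 3, nat_lit 0, nat_lit 1, nat_lit 1, nat_lit 3, nat_lit 4, nat_lit 5, nat_lit 3, nat_lit 1, nat_lit 1, nat_lit 5, nat_lit 6, nat_lit 4])) (.more (.fuse [nat_lit 1, nat_lit 1] [] (.leaf (nat_lit 3) [nat_lit 5, nat_lit 3, nat_lit 0, nat_lit 2, nat_lit 4, nat_lit 3, nat_lit 4, nat_lit 3, nat_lit 5, nat_lit 3, nat_lit 0, nat_lit 2, nat_lit 6, nat_lit 4, nat_lit 3, nat_lit 1, nat_lit 0, nat_lit 2, nat_lit 5, nat_lit 6])) (.more (.fuse [nat_lit 1, nat_lit 1] [] (.leaf (nat_lit 5) [nat_lit 0,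 nat_lit 1, nat_lit 3, nat_lit 0, nat_lit 1, nat_lit 4, nat_lit 3, nat_lit 5, nat_lit 3, nat_lit 1, nat_lit 0, nat_lit 2, nat_lit 4, nat_lit 6, nat_lit 4, nat_lit 3, nat_lit 1, nat_lit 0, nat_lit 3, nat_lit 2, nat_lit 4, nat_lit 6])) .one)))) (.more (.split (.more (.fuse [nat_lit 1, nat_lit 1] [] (.leaf (nat_lit 2) [nat_lit 0, nat_lit 3, nat_lit 4, nat_lit 3, nat_lit 4, nat_lit 5, nat_lit 3, nat_lit 1, nat_lit 0, nat_lit 4, nat_lit 5, nat_lit 3, nat_lit 6, nat_lit 4, nat_lit 3, nat_lit 0, nat_lit 1, nat_lit 5])) (.more (.fuse [nat_lit 1, nat_lit 1] [] (.leaf (nat_lit 2) [nat_lit 2, nat_lit 2, nat_lit 2, nat_lit 3, nat_lit 2, nat_lit 2, nat_lit 3, nat_lit 4, nat_lit 3, nat_lit 1, nat_lit 0, nat_lit 3, nat_lit 2, nat_lit 5, nat_lit 3, nat_lit 1, nat_lit 0, nat_lit 3, nat_lit 2, nat_lit 6, nat_lit 4, nat_lit 3])) (.more (.fuse [nat_lit 1, nat_lit 1] [] (.leaf (nat_lit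 5) [nat_lit 0, nat_lit 1, nat_lit 1, nat_lit 0, nat_lit 4, nat_lit 3, nat_lit 4, nat_lit 3, nat_lit 5, nat_lit 3, nat_lit 2, nat_lit 4, nat_lit 6, nat_lit 4, nat_lit 3, nat_lit 1, nat_lit 0, nat_lit 2, nat_lit 6])) .one)))) (.more (.split (.more (.fuse [nat_lit 1, nat_lit 1] [] (.leaf (nat_lit 4) [nat_lit 0, nat_lit 2, nat_lit 2, nat_lit 3, nat_lit 1, nat_lit 3, nat_lit 0, nat_lit 4, nat_lit 3, nat_lit 1, nat_lit 0, nat_lit 5, nat_lit 3, nat_lit 0, nat_lit 2, nat_lit 3, nat_lit 0])) (.more (.fuse [nat_lit 1, nat_lit 1] [] (.leaf (nat_lit 4) [nat_lit 1, nat_lit 0, nat_lit 3, nat_lit 1, nat_lit 0, nat_lit 3, nat_lit 0, nat_lit 4, nat_lit 3, nat_lit 2, nat_lit 3, nat_lit 0, nat_lit 5, nat_lit 3, nat_lit 0, nat_lit 1, nat_lit 1, nat_lit 4, nat_lit 5])) (.more (.fuse [nat_lit 1, nat_lit 1] [] (.leaf (nat_lit 1) [nat_lit 2, nat_lit 0, nat_lit 1, nat_lit 3, nat_lit 0,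 nat_lit 4, nat_lit 3, nat_lit 1, nat_lit 0, nat_lit 4, nat_lit 5, nat_lit 3, nat_lit 1, nat_lit 6, nat_lit 4, nat_lit 3, nat_lit 2, nat_lit 6, nat_lit 5])) .one)))) .one)))) (.more (.split (.more (.split (.more (.fuse [nat_lit 1, nat_lit 1] [] (.leaf (nat_lit 4) [nat_lit 0, nat_lit 1, nat_lit 3, nat_lit 0, nat_lit 4, nat_lit 3, nat_lit 1, nat_lit 3, nat_lit 4, nat_lit 5, nat_lit 3, nat_lit 2, nat_lit 2, nat_lit 2, nat_lit 6, nat_lit 5, nat_lit 0])) (.more (.fuse [nat_lit 1, nat_lit 1] [] (.leaf (nat_lit 4) [nat_lit 4, nat_lit 1, nat_lit 3, nat_lit 4, nat_lit 5, nat_lit 3, nat_lit 0, nat_lit 2, nat_lit 3, nat_lit 5, nat_lit 3, nat_lit 2, nat_lit 6, nat_lit 5, nat_lit 3, nat_lit 0, nat_lit 2, nat_lit 4, nat_lit 6])) (.more (.fuse [nat_lit 1, nat_lit 1] [] (.leaf (nat_lit 2) [nat_lit 1, nat_lit 3, nat_lit 1, nat_lit 0, nat_lit 4, nat_lit 3, nat_lit 1, nat_lit 1,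 nat_lit 4, nat_lit 3, nat_lit 6, nat_lit 5, nat_lit 3, nat_lit 1, nat_lit 0, nat_lit 5])) .one)))) (.more (.split (.more (.fuse [nat_lit 1, nat_lit 1] [] (.leaf (nat_lit 4) [nat_lit 0, nat_lit 1, nat_lit 0, nat_lit 2, nat_lit 4, nat_lit 3, nat_lit 4, nat_lit 3, nat_lit 4, nat_lit 5, nat_lit 3, nat_lit 0, nat_lit 1, nat_lit 4, nat_lit 5, nat_lit 6, nat_lit 5, nat_lit 3, nat_lit 1, nat_lit 3, nat_lit 0])) (.more (.fuse [nat_lit 1, nat_lit 1] [] (.leaf (nat_lit 4) [nat_lit 1, nat_lit 4, nat_lit 3, nat_lit 2, nat_lit 3, nat_lit 0, nat_lit 4, nat_lit 5, nat_lit 3, nat_lit 6, nat_lit 5, nat_lit 3, nat_lit 0, nat_lit 6])) (.more (.fuse [nat_lit 1, nat_lit 1] [] (.leaf (nat_lit 0) [nat_lit 6, nat_lit 2, nat_lit 2, nat_lit 0, nat_lit 3, nat_lit 0, nat_lit 1, nat_lit 3, nat_lit 0, nat_lit 4, nat_lit 3, nat_lit 4, nat_lit 5, nat_lit 3, nat_lit 2, nat_lit 6, nat_lit 4, nat_lit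 3, nat_lit 0])) .one)))) (.more (.split (.more (.fuse [nat_lit 1, nat_lit 1] [] (.leaf (nat_lit 4) [nat_lit 3, nat_lit 0, nat_lit 4, nat_lit 3, nat_lit 5, nat_lit 3, nat_lit 0, nat_lit 2, nat_lit 4, nat_lit 5, nat_lit 3, nat_lit 6, nat_lit 5, nat_lit 3, nat_lit 2, nat_lit 2, nat_lit 2, nat_lit 3, nat_lit 5, nat_lit 2, nat_lit 2])) (.more (.fuse [nat_lit 1, nat_lit 1] [] (.leaf (nat_lit 4) [nat_lit 1, nat_lit 3, nat_lit 2, nat_lit 4, nat_lit 3, nat_lit 0, nat_lit 2, nat_lit 4, nat_lit 3, nat_lit 5, nat_lit 3, nat_lit 1, nat_lit 6, nat_lit 4, nat_lit 3, nat_lit 0, nat_lit 5, nat_lit 6, nat_lit 3, nat_lit 1])) (.more (.fuse [nat_lit 1, nat_lit 1] [] (.leaf (nat_lit 3) [nat_lit 3, nat_lit 0, nat_lit 2, nat_lit 2, nat_lit 3, nat_lit 0, nat_lit 2, nat_lit 5, nat_lit 3, nat_lit 0, nat_lit 2, nat_lit 3, nat_lit 5, nat_lit 4])) .one)))) .one)))) (.more (.split (.more (.split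 (.more (.fuse [nat_lit 1, nat_lit 1] [] (.leaf (nat_lit 4) [nat_lit 0, nat_lit 6, nat_lit 0, nat_lit 1, nat_lit 0, nat_lit 3, nat_lit 4, nat_lit 3, nat_lit 5, nat_lit 3, nat_lit 1, nat_lit 0, nat_lit 4, nat_lit 5, nat_lit 3, nat_lit 6, nat_lit 4, nat_lit 6, nat_lit 2])) (.more (.fuse [nat_lit 1, nat_lit 1] [] (.leaf (nat_lit 4) [nat_lit 5, nat_lit 1, nat_lit 3, nat_lit 2, nat_lit 4, nat_lit 3, nat_lit 2, nat_lit 3, nat_lit 4, nat_lit 5, nat_lit 3, nat_lit 6, nat_lit 4, nat_lit 3, nat_lit 1, nat_lit 1, nat_lit 3, nat_lit 4])) (.more (.fuse [nat_lit 1, nat_lit 1] [] (.leaf (nat_lit 6) [nat_lit 5, nat_lit 3, nat_lit 0, nat_lit 2, nat_lit 3, nat_lit 0, nat_lit 4, nat_lit 3, nat_lit 2, nat_lit 3, nat_lit 0, nat_lit 4, nat_lit 3, nat_lit 2, nat_lit 5, nat_lit 3, nat_lit 2, nat_lit 4, nat_lit 5, nat_lit 6, nat_lit 4])) .one)))) (.more (.split (.more (.fuse [nat_lit 1,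 nat_lit 1] [] (.leaf (nat_lit 5) [nat_lit 1, nat_lit 3, nat_lit 0, nat_lit 2, nat_lit 3, nat_lit 4, nat_lit 3, nat_lit 4, nat_lit 5, nat_lit 3, nat_lit 0, nat_lit 4, nat_lit 6, nat_lit 5, nat_lit 3, nat_lit 2, nat_lit 2, nat_lit 2, nat_lit 3, nat_lit 5])) (.more (.fuse [nat_lit 1, nat_lit 1] [] (.leaf (nat_lit 5) [nat_lit 0, nat_lit 1, nat_lit 0, nat_lit 4, nat_lit 3, nat_lit 2, nat_lit 4, nat_lit 3, nat_lit 4, nat_lit 5, nat_lit 3, nat_lit 2, nat_lit 3, nat_lit 6, nat_lit 4, nat_lit 3, nat_lit 1, nat_lit 6, nat_lit 5, nat_lit 3, nat_lit 1])) (.more (.fuse [nat_lit 1, nat_lit 1] [] (.leaf (nat_lit 4) [nat_lit 1, nat_lit 3, nat_lit 2, nat_lit 2, nat_lit 2, nat_lit 4, nat_lit 3, nat_lit 4, nat_lit 5, nat_lit 3, nat_lit 1, nat_lit 6, nat_lit 4, nat_lit 3, nat_lit 0, nat_lit 1, nat_lit 5, nat_lit 3, nat_lit 0, nat_lit 4, nat_lit 6])) .one)))) (.more (.split (.more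 (.fuse [nat_lit 1, nat_lit 1] [] (.leaf (nat_lit 5) [nat_lit 0, nat_lit 2, nat_lit 2, nat_lit 0, nat_lit 3, nat_lit 0, nat_lit 5, nat_lit 3, nat_lit 0, nat_lit 2, nat_lit 3, nat_lit 5, nat_lit 6, nat_lit 5, nat_lit 3, nat_lit 0, nat_lit 1, nat_lit 1, nat_lit 5])) (.more (.fuse [nat_lit 1, nat_lit 1] [] (.leaf (nat_lit 5) [nat_lit 2, nat_lit 2, nat_lit 3, nat_lit 2, nat_lit 4, nat_lit 3, nat_lit 2, nat_lit 4, nat_lit 5, nat_lit 3, nat_lit 0, nat_lit 2, nat_lit 5, nat_lit 6, nat_lit 5, nat_lit 3, nat_lit 0, nat_lit 2, nat_lit 3, nat_lit 5, nat_lit 6, nat_lit 4])) (.more (.fuse [nat_lit 1, nat_lit 1] [] (.leaf (nat_lit 4) [nat_lit 3, nat_lit 2, nat_lit 2, nat_lit 3, nat_lit 0, nat_lit 1, nat_lit 1, nat_lit 4, nat_lit 3, nat_lit 1, nat_lit 4, nat_lit 3, nat_lit 0, nat_lit 5, nat_lit 3, nat_lit 0, nat_lit 1, nat_lit 5, nat_lit 3, nat_lit 6, nat_lit 4])) .one)))) .one))))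 .one)))))) (.more (.fuse [nat_lit 6] [nat_lit 0, nat_lit 2, nat_lit 2, nat_lit 3, nat_lit 3, nat_lit 4] (.fuse [nat_lit 6, nat_lit 6, nat_lit 7] [nat_lit 0, nat_lit 0, nat_lit 3] (.split (.more (.fuse [nat_lit 4, nat_lit 4] [nat_lit 0, nat_lit 0] (.fuse [nat_lit 3, nat_lit 3] [nat_lit 0, nat_lit 0] (.fuse [nat_lit 1] [] (.leaf (nat_lit 4) [nat_lit 0, nat_lit 2, nat_lit 0, nat_lit 1, nat_lit 3, nat_lit 1, nat_lit 1, nat_lit 3, nat_lit 4, nat_lit 3, nat_lit 1, nat_lit 0, nat_lit 4, nat_lit 3, nat_lit 2, nat_lit 5, nat_lit 3, nat_lit 6, nat_lit 4, nat_lit 5])))) (.more (.fuse [nat_lit 4, nat_lit 4] [nat_lit 0] (.fuse [nat_lit 3, nat_lit 3] [nat_lit 0, nat_lit 0] (.fuse [nat_lit 1] [] (.prune (nat_lit 0) (nat_lit 2) [])))) (.more (.fuse [nat_lit 4, nat_lit 4] [] (.fuse [nat_lit 3, nat_lit 3] [nat_lit 0, nat_lit 0] (.fuse [nat_lit 1] [] (.prune (nat_lit 0) (nat_lit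 1) [])))) .one)))))) .one)))) (.more (.split (.more (.fuse [nat_lit 6] [nat_lit 0, nat_lit 3, nat_lit 4, nat_lit 4] (.fuse [nat_lit 0, nat_lit 0, nat_lit 1, nat_lit 1, nat_lit 2, nat_lit 2, nat_lit 3, nat_lit 4, nat_lit 4, nat_lit 6, nat_lit 7, nat_lit 7] [nat_lit 3] (.fuse [nat_lit 4, nat_lit 4] [nat_lit 0, nat_lit 1, nat_lit 1, nat_lit 2, nat_lit 2] (.prune (nat_lit 3) (nat_lit 2) [nat_lit 0, nat_lit 0, nat_lit 1, nat_lit 2])))) (.more (.fuse [nat_lit 6] [nat_lit 0, nat_lit 0, nat_lit 1, nat_lit 2, nat_lit 2, nat_lit 3, nat_lit 4, nat_lit 4] (.fuse [nat_lit 6, nat_lit 6, nat_lit 7] [nat_lit 0, nat_lit 1, nat_lit 1, nat_lit 3] (.fuse [nat_lit 4, nat_lit 4] [nat_lit 0, nat_lit 0, nat_lit 1] (.prune (nat_lit 3) (nat_lit 1) [nat_lit 0, nat_lit 0, nat_lit 1, nat_lit 1, nat_lit 2])))) (.more (.fuse [nat_lit 6] [nat_lit 0, nat_lit 1, nat_lit 1, nat_lit 2, nat_lit 3,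 nat_lit 4, nat_lit 4] (.split (.more (.fuse [nat_lit 4, nat_lit 4] [nat_lit 0, nat_lit 0, nat_lit 2] (.fuse [nat_lit 4, nat_lit 5] [nat_lit 0, nat_lit 0] (.fuse [nat_lit 2, nat_lit 2] [] (.split (.more (.leaf (nat_lit 2) [nat_lit 3, nat_lit 2, nat_lit 2, nat_lit 3, nat_lit 4, nat_lit 3, nat_lit 2, nat_lit 5, nat_lit 3, nat_lit 1, nat_lit 3, nat_lit 6, nat_lit 4, nat_lit 3, nat_lit 1, nat_lit 0, nat_lit 3, nat_lit 2, nat_lit 4, nat_lit 2]) (.more (.leaf (nat_lit 5) [nat_lit 3, nat_lit 1, nat_lit 3, nat_lit 0, nat_lit 4, nat_lit 3, nat_lit 0, nat_lit 1, nat_lit 5, nat_lit 3, nat_lit 1, nat_lit 0, nat_lit 4, nat_lit 5, nat_lit 6, nat_lit 4, nat_lit 3, nat_lit 5, nat_lit 3, nat_lit 1, nat_lit 6]) (.more (.leaf (nat_lit 4) [nat_lit 4, nat_lit 6, nat_lit 4, nat_lit 3, nat_lit 1, nat_lit 1, nat_lit 3, nat_lit 5, nat_lit 3, nat_lit 1, nat_lit 6, nat_lit 5, nat_lit 3,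 nat_lit 1, nat_lit 0]) .one))))))) (.more (.fuse [nat_lit 4, nat_lit 4] [nat_lit 2] (.fuse [nat_lit 4, nat_lit 5] [nat_lit 0, nat_lit 0] (.fuse [nat_lit 2, nat_lit 2] [nat_lit 0] (.prune (nat_lit 1) (nat_lit 1) [nat_lit 0])))) (.more (.fuse [nat_lit 4, nat_lit 4] [nat_lit 0, nat_lit 2] (.fuse [nat_lit 4, nat_lit 5] [nat_lit 0, nat_lit 0] (.fuse [nat_lit 2, nat_lit 2] [nat_lit 0, nat_lit 0] (.prune (nat_lit 1) (nat_lit 2) [nat_lit 0])))) .one))))) .one)))) .one))))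
noncomputable def covT2 : CT := (.split (.more (.split (.more (.fuse [nat_lit 6, nat_lit 6] [nat_lit 0, nat_lit 1, nat_lit 2] (.fuse [nat_lit 0, nat_lit 0, nat_lit 1, nat_lit 1, nat_lit 2, nat_lit 2, nat_lit 3, nat_lit 4, nat_lit 4, nat_lit 6, nat_lit 7, nat_lit 7] [nat_lit 0, nat_lit 0, nat_lit 1, nat_lit 1, nat_lit 2, nat_lit 2] (.fuse [nat_lit 4, nat_lit 4] [nat_lit 0, nat_lit 2] (.prune (nat_lit 3) (nat_lit 2) [nat_lit 0, nat_lit 0, nat_lit 1])))) (.more (.fuse [nat_lit 6, nat_lit 6] [nat_lit 0, nat_lit 0, nat_lit 2, nat_lit 2] (.fuse [nat_lit 6, nat_lit 6, nat_lit 7] [nat_lit 0, nat_lit 1, nat_lit 2, nat_lit 3, nat_lit 3] (.fuse [nat_lit 4, nat_lit 4] [nat_lit 1, nat_lit 1, nat_lit 2, nat_lit 2] (.prune (nat_lit 3) (nat_lit 1) [nat_lit 2, nat_lit 2])))) (.more (.fuse [nat_lit 6, nat_lit 6] [nat_lit 0, nat_lit 0, nat_lit 1, nat_lit 1] (.split (.more (.fuse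 [nat_lit 4, nat_lit 4] [nat_lit 0, nat_lit 1] (.fuse [nat_lit 4, nat_lit 5] [nat_lit 0, nat_lit 1] (.fuse [nat_lit 2, nat_lit 2] [nat_lit 0] (.prune (nat_lit 1) (nat_lit 2) [nat_lit 0, nat_lit 0])))) (.more (.fuse [nat_lit 4, nat_lit 4] [nat_lit 1] (.fuse [nat_lit 4, nat_lit 5] [nat_lit 0, nat_lit 1] (.fuse [nat_lit 2, nat_lit 2] [nat_lit 0, nat_lit 0] (.prune (nat_lit 1) (nat_lit 1) [nat_lit 0, nat_lit 0])))) (.more (.fuse [nat_lit 4, nat_lit 4] [nat_lit 0, nat_lit 0, nat_lit 1] (.fuse [nat_lit 4, nat_lit 5] [nat_lit 0, nat_lit 1] (.fuse [nat_lit 2, nat_lit 2] [] (.split (.more (.leaf (nat_lit 5) [nat_lit 1, nat_lit 1, nat_lit 3, nat_lit 0, nat_lit 2, nat_lit 4, nat_lit 5, nat_lit 3, nat_lit 0, nat_lit 1, nat_lit 4, nat_lit 5, nat_lit 3, nat_lit 6, nat_lit 4, nat_lit 3, nat_lit 0, nat_lit 1, nat_lit 3, nat_lit 0]) (.more (.leaf (nat_lit 3) [nat_lit 5, nat_lit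 3, nat_lit 4, nat_lit 3, nat_lit 0, nat_lit 2, nat_lit 3, nat_lit 2, nat_lit 4, nat_lit 3, nat_lit 5, nat_lit 3, nat_lit 0, nat_lit 1, nat_lit 5, nat_lit 3, nat_lit 1, nat_lit 6, nat_lit 4]) (.more (.leaf (nat_lit 4) [nat_lit 0, nat_lit 2, nat_lit 3, nat_lit 0, nat_lit 2, nat_lit 3, nat_lit 2, nat_lit 4, nat_lit 3, nat_lit 2, nat_lit 3, nat_lit 0, nat_lit 4, nat_lit 5, nat_lit 3, nat_lit 2, nat_lit 2, nat_lit 2, nat_lit 5]) .one))))))) .one))))) .one)))) (.more (.split (.more (.fuse [nat_lit 6, nat_lit 6] [nat_lit 0, nat_lit 1, nat_lit 1, nat_lit 3, nat_lit 3, nat_lit 4, nat_lit 4] (.fuse [nat_lit 6, nat_lit 6, nat_lit 7] [nat_lit 0, nat_lit 0, nat_lit 1] (.fuse [nat_lit 4] [nat_lit 0, nat_lit 0, nat_lit 1, nat_lit 1, nat_lit 2, nat_lit 2] (.prune (nat_lit 3) (nat_lit 1) [nat_lit 1, nat_lit 2, nat_lit 2])))) (.more (.fuse [nat_lit 6, nat_lit 6] [nat_lit 0, nat_lit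 1, nat_lit 1, nat_lit 2, nat_lit 2, nat_lit 3, nat_lit 3, nat_lit 4, nat_lit 4] (.split (.more (.fuse [nat_lit 4] [nat_lit 0, nat_lit 0, nat_lit 1, nat_lit 2] (.fuse [nat_lit 0, nat_lit 0, nat_lit 4, nat_lit 4, nat_lit 5, nat_lit 5] [nat_lit 0, nat_lit 0, nat_lit 1] (.fuse [nat_lit 2] [nat_lit 0, nat_lit 0] (.prune (nat_lit 1) (nat_lit 2) [nat_lit 0])))) (.more (.fuse [nat_lit 4] [nat_lit 1, nat_lit 2] (.fuse [nat_lit 0, nat_lit 0, nat_lit 4, nat_lit 4, nat_lit 5, nat_lit 5] [nat_lit 1] (.fuse [nat_lit 2] [nat_lit 0] (.split (.more (.leaf (nat_lit 2) [nat_lit 0, nat_lit 2, nat_lit 2, nat_lit 3, nat_lit 0, nat_lit 2, nat_lit 3, nat_lit 5, nat_lit 3, nat_lit 1, nat_lit 0, nat_lit 4, nat_lit 6, nat_lit 4]) (.more (.leaf (nat_lit 4) [nat_lit 0, nat_lit 1, nat_lit 3, nat_lit 0, nat_lit 2, nat_lit 3, nat_lit 0, nat_lit 4, nat_lit 5, nat_lit 3, nat_lit 1]) (.more (.leaf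 (nat_lit 5) [nat_lit 2, nat_lit 2, nat_lit 0, nat_lit 3, nat_lit 1, nat_lit 0, nat_lit 4, nat_lit 3, nat_lit 4, nat_lit 5, nat_lit 3, nat_lit 2, nat_lit 4, nat_lit 6, nat_lit 5, nat_lit 3, nat_lit 2, nat_lit 5]) .one))))))) (.more (.fuse [nat_lit 4] [nat_lit 0, nat_lit 1, nat_lit 2] (.fuse [nat_lit 0, nat_lit 0, nat_lit 4, nat_lit 4, nat_lit 5, nat_lit 5] [nat_lit 0, nat_lit 1] (.fuse [nat_lit 2] [] (.prune (nat_lit 1) (nat_lit 1) [])))) .one))))) (.more (.fuse [nat_lit 6, nat_lit 6] [nat_lit 1, nat_lit 1, nat_lit 2, nat_lit 3, nat_lit 3, nat_lit 4, nat_lit 4] (.fuse [nat_lit 0, nat_lit 0, nat_lit 1, nat_lit 1, nat_lit 2, nat_lit 2, nat_lit 3, nat_lit 4, nat_lit 4, nat_lit 6, nat_lit 7, nat_lit 7] [nat_lit 0, nat_lit 1, nat_lit 3, nat_lit 3] (.fuse [nat_lit 4] [nat_lit 0, nat_lit 0] (.prune (nat_lit 3) (nat_lit 2) [nat_lit 0, nat_lit 0, nat_lit 1, nat_lit 1, nat_lit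 2, nat_lit 2])))) .one)))) (.more (.split (.more (.fuse [nat_lit 6, nat_lit 6] [nat_lit 0, nat_lit 1, nat_lit 2, nat_lit 2, nat_lit 3, nat_lit 3, nat_lit 4] (.split (.more (.fuse [nat_lit 0, nat_lit 0, nat_lit 1, nat_lit 1, nat_lit 2, nat_lit 2, nat_lit 3, nat_lit 4, nat_lit 4, nat_lit 6, nat_lit 7, nat_lit 7] [nat_lit 0, nat_lit 0, nat_lit 2, nat_lit 2] (.fuse [nat_lit 4, nat_lit 4] [nat_lit 0, nat_lit 0] (.fuse [nat_lit 3, nat_lit 3] [nat_lit 0] (.fuse [nat_lit 2] [] (.prune (nat_lit 0) (nat_lit 2) []))))) (.more (.split (.more (.fuse [nat_lit 4, nat_lit 4] [nat_lit 0] (.fuse [nat_lit 3, nat_lit 3] [nat_lit 0, nat_lit 0] (.split (.more (.leaf (nat_lit 1) [nat_lit 1, nat_lit 3, nat_lit 4, nat_lit 3, nat_lit 4, nat_lit 3, nat_lit 5]) (.more (.leaf (nat_lit 0) [nat_lit 3, nat_lit 2, nat_lit 0, nat_lit 4, nat_lit 3, nat_lit 4, nat_lit 5, nat_lit 3, nat_lit 0, nat_lit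 2, nat_lit 3, nat_lit 0, nat_lit 6, nat_lit 4, nat_lit 3, nat_lit 0, nat_lit 1, nat_lit 3]) (.more (.leaf (nat_lit 6) [nat_lit 3, nat_lit 1, nat_lit 0, nat_lit 2, nat_lit 4, nat_lit 3, nat_lit 2, nat_lit 4, nat_lit 3, nat_lit 4, nat_lit 5, nat_lit 3, nat_lit 6, nat_lit 5, nat_lit 3, nat_lit 1, nat_lit 1]) .one)))))) (.more (.fuse [nat_lit 4, nat_lit 4] [] (.fuse [nat_lit 3, nat_lit 3] [nat_lit 0, nat_lit 0] (.fuse [nat_lit 0, nat_lit 3, nat_lit 4, nat_lit 4, nat_lit 5, nat_lit 5] [] (.leaf (nat_lit 4) [nat_lit 1, nat_lit 3, nat_lit 1, nat_lit 4, nat_lit 3, nat_lit 0, nat_lit 1, nat_lit 4, nat_lit 3, nat_lit 4, nat_lit 5, nat_lit 3, nat_lit 0, nat_lit 4, nat_lit 6, nat_lit 4, nat_lit 3, nat_lit 0, nat_lit 1, nat_lit 1, nat_lit 6, nat_lit 4])))) (.more (.fuse [nat_lit 4, nat_lit 4] [nat_lit 0, nat_lit 0] (.fuse [nat_lit 3, nat_lit 3] [nat_lit 0, nat_lit 0] (.fuse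 [nat_lit 3, nat_lit 3, nat_lit 4, nat_lit 5] [] (.leaf (nat_lit 4) [nat_lit 0, nat_lit 2, nat_lit 3, nat_lit 1, nat_lit 3, nat_lit 0, nat_lit 4, nat_lit 3, nat_lit 0, nat_lit 2, nat_lit 4, nat_lit 3, nat_lit 0, nat_lit 5, nat_lit 3, nat_lit 5, nat_lit 6, nat_lit 5, nat_lit 3, nat_lit 2, nat_lit 3, nat_lit 4])))) .one)))) (.more (.fuse [nat_lit 6, nat_lit 6, nat_lit 7] [nat_lit 0, nat_lit 0, nat_lit 1, nat_lit 2, nat_lit 2] (.fuse [nat_lit 4, nat_lit 4] [] (.fuse [nat_lit 3, nat_lit 3] [] (.fuse [nat_lit 2, nat_lit 2] [] (.prune (nat_lit 0) (nat_lit 2) []))))) .one))))) (.more (.fuse [nat_lit 6, nat_lit 6] [nat_lit 0, nat_lit 1, nat_lit 2, nat_lit 2, nat_lit 3, nat_lit 3, nat_lit 4] (.fuse [nat_lit 0, nat_lit 0, nat_lit 1, nat_lit 1, nat_lit 2, nat_lit 2, nat_lit 3, nat_lit 4, nat_lit 4, nat_lit 6, nat_lit 7, nat_lit 7] [nat_lit 1, nat_lit 2, nat_lit 2] (.split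 (.more (.fuse [nat_lit 4] [nat_lit 0] (.fuse [nat_lit 3] [nat_lit 0] (.fuse [nat_lit 1, nat_lit 1] [] (.prune (nat_lit 0) (nat_lit 1) [])))) (.more (.fuse [nat_lit 4] [nat_lit 0, nat_lit 0] (.fuse [nat_lit 3] [nat_lit 0] (.fuse [nat_lit 1, nat_lit 1] [] (.leaf (nat_lit 4) [nat_lit 2, nat_lit 2, nat_lit 2, nat_lit 3, nat_lit 1, nat_lit 1, nat_lit 4, nat_lit 3, nat_lit 0, nat_lit 4, nat_lit 5, nat_lit 3, nat_lit 1, nat_lit 0, nat_lit 2, nat_lit 4, nat_lit 5, nat_lit 6, nat_lit 5, nat_lit 3])))) (.more (.fuse [nat_lit 4] [] (.fuse [nat_lit 3] [nat_lit 0] (.fuse [nat_lit 1, nat_lit 1] [] (.prune (nat_lit 0) (nat_lit 2) [])))) .one)))))) (.more (.fuse [nat_lit 6, nat_lit 6] [nat_lit 0, nat_lit 1, nat_lit 2, nat_lit 2, nat_lit 3, nat_lit 3, nat_lit 4] (.fuse [nat_lit 6, nat_lit 6, nat_lit 7] [nat_lit 0, nat_lit 0, nat_lit 1, nat_lit 1, nat_lit 2, nat_lit 3, nat_lit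 3] (.split (.more (.split (.more (.split (.more (.fuse [nat_lit 1] [] (.leaf (nat_lit 2) [nat_lit 0, nat_lit 1, nat_lit 0, nat_lit 3, nat_lit 2, nat_lit 3, nat_lit 4, nat_lit 5, nat_lit 3, nat_lit 0, nat_lit 2, nat_lit 4, nat_lit 5])) (.more (.fuse [nat_lit 1] [] (.leaf (nat_lit 4) [nat_lit 1, nat_lit 3, nat_lit 4, nat_lit 3, nat_lit 1, nat_lit 4, nat_lit 3, nat_lit 0, nat_lit 5, nat_lit 3, nat_lit 2, nat_lit 2, nat_lit 5, nat_lit 3, nat_lit 6, nat_lit 4, nat_lit 3, nat_lit 2, nat_lit 2, nat_lit 3, nat_lit 4, nat_lit 6])) (.more (.fuse [nat_lit 1] [] (.leaf (nat_lit 4) [nat_lit 0, nat_lit 2, nat_lit 3, nat_lit 0, nat_lit 4, nat_lit 3, nat_lit 0, nat_lit 1, nat_lit 5, nat_lit 3, nat_lit 0, nat_lit 4, nat_lit 5, nat_lit 3, nat_lit 1, nat_lit 6, nat_lit 5])) .one)))) (.more (.split (.more (.fuse [nat_lit 1] [] (.leaf (nat_lit 3) [nat_lit 0, nat_lit 1, nat_lit 0,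 nat_lit 3, nat_lit 2, nat_lit 3, nat_lit 4, nat_lit 5, nat_lit 3, nat_lit 0, nat_lit 2, nat_lit 4, nat_lit 5])) (.more (.fuse [nat_lit 1] [] (.leaf (nat_lit 4) [nat_lit 1, nat_lit 3, nat_lit 1, nat_lit 3, nat_lit 4, nat_lit 3, nat_lit 1, nat_lit 0, nat_lit 5, nat_lit 3, nat_lit 0, nat_lit 5, nat_lit 6, nat_lit 4, nat_lit 3, nat_lit 0, nat_lit 5, nat_lit 0, nat_lit 1, nat_lit 3])) (.more (.fuse [nat_lit 1] [] (.leaf (nat_lit 4) [nat_lit 0, nat_lit 1, nat_lit 0, nat_lit 2, nat_lit 3, nat_lit 1, nat_lit 4, nat_lit 3, nat_lit 2, nat_lit 4, nat_lit 3, nat_lit 5, nat_lit 3, nat_lit 2, nat_lit 6, nat_lit 5, nat_lit 3, nat_lit 0])) .one)))) (.more (.split (.more (.fuse [nat_lit 1] [] (.leaf (nat_lit 0) [nat_lit 3, nat_lit 4, nat_lit 3, nat_lit 0, nat_lit 2, nat_lit 3, nat_lit 2, nat_lit 4, nat_lit 3, nat_lit 1, nat_lit 5, nat_lit 3, nat_lit 1, nat_lit 4, nat_lit 6]))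 (.more (.fuse [nat_lit 1] [] (.leaf (nat_lit 4) [nat_lit 2, nat_lit 3, nat_lit 1, nat_lit 0, nat_lit 3, nat_lit 4, nat_lit 3, nat_lit 0, nat_lit 2, nat_lit 3, nat_lit 0, nat_lit 4, nat_lit 3, nat_lit 1, nat_lit 5, nat_lit 3, nat_lit 2, nat_lit 6, nat_lit 5])) (.more (.fuse [nat_lit 1] [] (.leaf (nat_lit 4) [nat_lit 5, nat_lit 0, nat_lit 1, nat_lit 3, nat_lit 4, nat_lit 3, nat_lit 1, nat_lit 3, nat_lit 0, nat_lit 4, nat_lit 3, nat_lit 5, nat_lit 3, nat_lit 2, nat_lit 5, nat_lit 6, nat_lit 4, nat_lit 3, nat_lit 1, nat_lit 0, nat_lit 3, nat_lit 6])) .one)))) .one)))) (.more (.split (.more (.split (.more (.fuse [nat_lit 1] [] (.leaf (nat_lit 3) [nat_lit 6, nat_lit 2, nat_lit 4, nat_lit 3, nat_lit 1, nat_lit 3, nat_lit 4, nat_lit 5, nat_lit 3, nat_lit 2, nat_lit 2, nat_lit 4, nat_lit 5, nat_lit 6, nat_lit 5, nat_lit 3, nat_lit 1, nat_lit 0])) (.more (.fuse [nat_lit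 1] [] (.leaf (nat_lit 3) [nat_lit 1, nat_lit 1, nat_lit 0, nat_lit 3, nat_lit 1, nat_lit 4, nat_lit 3, nat_lit 0, nat_lit 2, nat_lit 3, nat_lit 0, nat_lit 4, nat_lit 5, nat_lit 3, nat_lit 0, nat_lit 1, nat_lit 3, nat_lit 0, nat_lit 6, nat_lit 4])) (.more (.fuse [nat_lit 1] [] (.leaf (nat_lit 5) [nat_lit 3, nat_lit 2, nat_lit 3, nat_lit 0, nat_lit 2, nat_lit 4, nat_lit 3, nat_lit 2, nat_lit 3, nat_lit 0, nat_lit 4, nat_lit 3, nat_lit 5, nat_lit 3, nat_lit 0, nat_lit 2, nat_lit 4, nat_lit 5, nat_lit 6, nat_lit 4, nat_lit 3, nat_lit 0])) .one)))) (.more (.split (.more (.fuse [nat_lit 1] [] (.leaf (nat_lit 4) [nat_lit 0, nat_lit 1, nat_lit 0, nat_lit 3, nat_lit 0, nat_lit 1, nat_lit 5, nat_lit 3, nat_lit 0, nat_lit 4, nat_lit 6, nat_lit 4, nat_lit 3, nat_lit 2, nat_lit 3, nat_lit 0, nat_lit 2, nat_lit 4, nat_lit 3])) (.more (.fuse [nat_lit 1] [] (.leaf (nat_lit 4)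 [nat_lit 0, nat_lit 2, nat_lit 0, nat_lit 1, nat_lit 3, nat_lit 2, nat_lit 4, nat_lit 3, nat_lit 0, nat_lit 1, nat_lit 3, nat_lit 4, nat_lit 5, nat_lit 3, nat_lit 2, nat_lit 4])) (.more (.fuse [nat_lit 1] [] (.leaf (nat_lit 1) [nat_lit 2, nat_lit 0, nat_lit 3, nat_lit 2, nat_lit 2, nat_lit 2, nat_lit 4, nat_lit 3, nat_lit 1, nat_lit 0, nat_lit 3, nat_lit 4, nat_lit 5, nat_lit 3, nat_lit 0, nat_lit 1, nat_lit 4, nat_lit 6, nat_lit 4])) .one)))) (.more (.split (.more (.fuse [nat_lit 1] [] (.leaf (nat_lit 2) [nat_lit 0, nat_lit 1, nat_lit 0, nat_lit 2, nat_lit 3, nat_lit 1, nat_lit 1, nat_lit 4, nat_lit 3, nat_lit 1, nat_lit 3, nat_lit 4, nat_lit 5, nat_lit 3, nat_lit 0, nat_lit 6, nat_lit 4])) (.more (.fuse [nat_lit 1] [] (.leaf (nat_lit 2) [nat_lit 2, nat_lit 3, nat_lit 0, nat_lit 1, nat_lit 3, nat_lit 0, nat_lit 4, nat_lit 5, nat_lit 6, nat_lit 5, nat_lit 3, nat_lit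 2, nat_lit 3, nat_lit 0, nat_lit 4, nat_lit 3, nat_lit 2])) (.more (.fuse [nat_lit 1] [] (.leaf (nat_lit 5) [nat_lit 2, nat_lit 2, nat_lit 2, nat_lit 3, nat_lit 1, nat_lit 0, nat_lit 2, nat_lit 4, nat_lit 3, nat_lit 0, nat_lit 1, nat_lit 1, nat_lit 3, nat_lit 5, nat_lit 3, nat_lit 1, nat_lit 4, nat_lit 5, nat_lit 6])) .one)))) .one)))) (.more (.split (.more (.split (.more (.fuse [nat_lit 1] [] (.leaf (nat_lit 4) [nat_lit 2, nat_lit 3, nat_lit 2, nat_lit 4, nat_lit 3, nat_lit 1, nat_lit 0, nat_lit 3, nat_lit 0, nat_lit 4, nat_lit 3, nat_lit 1, nat_lit 5, nat_lit 3, nat_lit 1, nat_lit 0, nat_lit 5, nat_lit 3, nat_lit 6, nat_lit 4])) (.more (.fuse [nat_lit 1] [] (.leaf (nat_lit 6) [nat_lit 4, nat_lit 3, nat_lit 4, nat_lit 3, nat_lit 0, nat_lit 2, nat_lit 4, nat_lit 3, nat_lit 2, nat_lit 4, nat_lit 5, nat_lit 3, nat_lit 2, nat_lit 4, nat_lit 6, nat_lit 4, nat_lit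 3, nat_lit 2, nat_lit 3])) (.more (.fuse [nat_lit 1] [] (.leaf (nat_lit 4) [nat_lit 5, nat_lit 1, nat_lit 0, nat_lit 4, nat_lit 3, nat_lit 1, nat_lit 0, nat_lit 3, nat_lit 2, nat_lit 4, nat_lit 3, nat_lit 5, nat_lit 3, nat_lit 0, nat_lit 2, nat_lit 4, nat_lit 5, nat_lit 3, nat_lit 2, nat_lit 6, nat_lit 4])) .one)))) (.more (.split (.more (.fuse [nat_lit 1] [] (.leaf (nat_lit 5) [nat_lit 5, nat_lit 0, nat_lit 1, nat_lit 0, nat_lit 3, nat_lit 0, nat_lit 2, nat_lit 4, nat_lit 3, nat_lit 1, nat_lit 0, nat_lit 4, nat_lit 5, nat_lit 3, nat_lit 4, nat_lit 6, nat_lit 5, nat_lit 3, nat_lit 1, nat_lit 0])) (.more (.fuse [nat_lit 1] [] (.leaf (nat_lit 4) [nat_lit 5, nat_lit 3, nat_lit 5, nat_lit 3, nat_lit 4, nat_lit 3, nat_lit 1, nat_lit 0, nat_lit 3, nat_lit 5, nat_lit 3, nat_lit 4, nat_lit 6, nat_lit 4, nat_lit 3])) (.more (.fuse [nat_lit 1] [] (.leaf (nat_lit 5) [nat_lit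 1, nat_lit 1, nat_lit 3, nat_lit 2, nat_lit 3, nat_lit 0, nat_lit 4, nat_lit 3, nat_lit 1, nat_lit 1, nat_lit 5, nat_lit 3, nat_lit 0, nat_lit 2, nat_lit 6, nat_lit 4, nat_lit 3, nat_lit 0, nat_lit 1, nat_lit 3, nat_lit 6])) .one)))) (.more (.split (.more (.fuse [nat_lit 1] [] (.leaf (nat_lit 5) [nat_lit 0, nat_lit 2, nat_lit 2, nat_lit 3, nat_lit 1, nat_lit 1, nat_lit 4, nat_lit 3, nat_lit 1, nat_lit 3, nat_lit 0, nat_lit 4, nat_lit 3, nat_lit 1, nat_lit 5, nat_lit 3, nat_lit 0, nat_lit 1, nat_lit 1, nat_lit 4, nat_lit 6, nat_lit 5])) (.more (.fuse [nat_lit 1] [] (.leaf (nat_lit 4) [nat_lit 1, nat_lit 1, nat_lit 3, nat_lit 2, nat_lit 2, nat_lit 2, nat_lit 4, nat_lit 3, nat_lit 1, nat_lit 0, nat_lit 3, nat_lit 2, nat_lit 5, nat_lit 3, nat_lit 1, nat_lit 0, nat_lit 3, nat_lit 2, nat_lit 6, nat_lit 4])) (.more (.fuse [nat_lit 1] [] (.leaf (nat_lit 5) [nat_lit 1,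 nat_lit 0, nat_lit 3, nat_lit 1, nat_lit 3, nat_lit 0, nat_lit 4, nat_lit 3, nat_lit 1, nat_lit 0, nat_lit 4, nat_lit 3, nat_lit 2, nat_lit 5, nat_lit 3, nat_lit 6, nat_lit 4, nat_lit 3, nat_lit 2, nat_lit 2, nat_lit 6])) .one)))) .one)))) .one)))))) .one)))) .one))))
noncomputable def c0x_W : List (List ℕ) := [[nat_lit 4, nat_lit 0, nat_lit 1, nat_lit 1, nat_lit 3, nat_lit 1, nat_lit 3, nat_lit 0, nat_lit 4, nat_lit 3, nat_lit 1, nat_lit 0, nat_lit 5, nat_lit 3, nat_lit 2, nat_lit 2, nat_lit 3, nat_lit 6, nat_lit 4, nat_lit 3, nat_lit 1, nat_lit 0, nat_lit 3, nat_lit 5, nat_lit 0]]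
noncomputable def c0x_P : ℕ → ℕ → ℕ := wdsP H16.O73.P c0x_W
noncomputable def c0th_W : List (List ℕ) := [[nat_lit 2, nat_lit 0, nat_lit 1, nat_lit 4, nat_lit 5, nat_lit 3, nat_lit 1, nat_lit 0, nat_lit 2, nat_lit 4, nat_lit 5],
  [nat_lit 1, nat_lit 0, nat_lit 2, nat_lit 3, nat_lit 4, nat_lit 6, nat_lit 4, nat_lit 3, nat_lit 1, nat_lit 0, nat_lit 2],
  [nat_lit 3, nat_lit 0, nat_lit 1, nat_lit 4, nat_lit 5, nat_lit 3, nat_lit 1, nat_lit 0, nat_lit 4, nat_lit 5, nat_lit 3],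
  [nat_lit 3],
  [nat_lit 0, nat_lit 1, nat_lit 1, nat_lit 4, nat_lit 5, nat_lit 3, nat_lit 1, nat_lit 1, nat_lit 5, nat_lit 3, nat_lit 6, nat_lit 4, nat_lit 3, nat_lit 1, nat_lit 1, nat_lit 5, nat_lit 6, nat_lit 0],
  [nat_lit 0, nat_lit 2, nat_lit 2, nat_lit 2, nat_lit 3, nat_lit 4, nat_lit 5, nat_lit 3, nat_lit 0, nat_lit 2, nat_lit 3, nat_lit 5, nat_lit 6, nat_lit 4, nat_lit 3, nat_lit 2, nat_lit 3, nat_lit 0, nat_lit 2],
  [nat_lit 3, nat_lit 2, nat_lit 3, nat_lit 4, nat_lit 5, nat_lit 3, nat_lit 2, nat_lit 4, nat_lit 5, nat_lit 3],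
  [nat_lit 0],
  [nat_lit 1],
  [nat_lit 2],
  [nat_lit 6],
  [nat_lit 0, nat_lit 1, nat_lit 0, nat_lit 3, nat_lit 1, nat_lit 4, nat_lit 5, nat_lit 3, nat_lit 2, nat_lit 2, nat_lit 5, nat_lit 6, nat_lit 4, nat_lit 3, nat_lit 2, nat_lit 3, nat_lit 0, nat_lit 2],
  [nat_lit 4],
  [nat_lit 5],
  [nat_lit 2, nat_lit 3, nat_lit 0, nat_lit 4, nat_lit 3, nat_lit 0, nat_lit 2, nat_lit 3, nat_lit 0, nat_lit 5, nat_lit 3, nat_lit 1, nat_lit 3, nat_lit 6, nat_lit 4, nat_lit 3, nat_lit 1, nat_lit 1, nat_lit 5, nat_lit 6]]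
noncomputable def c0th_P : ℕ → ℕ → ℕ := wdsP H16.O73.P c0th_W
noncomputable def c0tl0Dd : ℕ := nat_lit 0x35e146696f60f48f16f2e9e6f5aa28e6cd73615b0357fcdcc6942410c325fb817c045fe6af0098240c76ea3c50027c53a6b0c52c9c90e2aab24c39c8cd3a68e33f99488ae90006b2ac45ac7e46649edcd1a67e32896f07488ff47820f48523596379d398847122dd8e506ec5355ddae387443931a48ce80f883b3c4136c5fc2b4309950ca68525257127d57863f2fa8b449b430c54f294c9784ad24f123c84e9cc3711b4cc7c5d613b89a04b224a4c094c8a465142131930c7a62e10723ac77a1e10e9013c05851325591f8b6c56c230114468c4c82210074ff653f2370fdc68a2dd2638f6463075629012e095247c17d1c682f04c61c70dc057c48a211104c5406843330d4847015a1c68dbc64a1ed0ef186c0820f62e808dc2b20e706c0e3066630616587b03ba1c00d88bdc4e226209d82e86bc3321918c505942bb0df86c021e0292868a744c22171648ae85562520f506841e40d4234023451a26f0fc060c8762510ed05d018a0e203788cc40c1650ab0f0c3d01d90d683c01880a704c060428e35a0dd86b033c18f06182980f40231a5858c33a18e0b8829412c08817105c026c0fd03c03b84f226a12d85f81f80de060813404421f10808043e41600a884d0164117009871428412504a021422c10802583340ec11508383a81b60cc05784181d20da05e810813e0910740364178033097832815a09005d819024009d04782000e411101f01c420402f01e00b818c02d05402640f604901d008002204600f004008a00f02200d808603501a00700500210090034018000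
noncomputable def c0tl0D (u : ℕ) : ℕ := Nat.land (Nat.shiftRight c0tl0Dd (Nat.mul u (nat_lit 13))) (nat_lit 8191)
noncomputable def c0tl0Pd : ℕ := nat_lit 0x57a3b3367569b8d078d1e3f576133deac447c8d9b2a65b5ab66ea3492775ca5499a3169cd3e5edda64b0ed4396c124b567c34998923c32a434b82b223706533a66eef3d2797b3064bc1269546b9a3d0c7736d0a7052ca13f27459fd286a3a22568de7fb95c8f9a22416673452a95e8088af20efc91425ef415c258d89157549d50089261b5178c3aea0663aa76aa442112c9b42a034d0c7e538d098369e480d0b634ac8e49b4bb062aec9aaf910a9569ad4901630f8a12e9e8bd073171205faa281145f6ed604fa285573d21c3196fa308e3088434874d191bc7a998d42e92f33ea845a3323238ae5d993e9c69a589c49e3b29901386136c3d8e5256194b6492fae626e055ca58af481904c677a2c29e4799d4ad863a1e12946d47f28239362e2ec3e215d0dc7045170fc407c2c4d2705918980a8482f06038f61a958c428098aeb30e6c064495da999d08160ed5072bf541384c1443ba0b4640f05434115b8005825090a445514108eb0b56bb542f080d89c540b084fe9c0c3db6412b005038100f068040c04038080605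
noncomputable def c0tl0P (u : ℕ) : ℕ := Nat.land (Nat.shiftRight c0tl0Pd (Nat.mul u (nat_lit 9))) (nat_lit 511)
noncomputable def c0tl0Qd : ℕ := nat_lit 0x5787944a4d68821daa4d1c2361dbb840e59f045413b9650d32aaab51cdf039c371e8db092b976d3a29ae7e51929818e52ae23d71209eaf26f3a35530ed128850a6b46a73de5ad2aac66ba6194a6d50e77450192ad3cbadf6a34110145184d1b9ec187cca2573639acd80ec8398d6af858a3a09337a922a2744c1b6af1e9245d60c8733b64c2e55c6a0d0546add527853c2279598b3a41c3f0dd2834646d4ca8358a956e9b31a5cba3f2a40afceb5034d4d94af1a31a42fa2f16cf4f313b40390980b39160c7ebbd867f3bbf988336bc9e26c132ad12c6288c89c4856623138ea65bca390d8ecc1e102a7a4a36a687bfe14c517b662a395c87d6cfc873612e5407c8cd92f384e5c70b8033515144f52106f1614319ed11d390fc2c38915084e3d92d205f3e8b4a05348919584d43a0164bd448c9bad56f198f84c52a4cb0e050b7ce4862b2f93a67441a06a592d3508ed64a27c9ea45d15d2a252105444440b0c4483d0f084b8552e8ac6e490b8a47c4a0c8e054302188c5013040280e100a02c1a09018140004008080c26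
noncomputable def c0tl0Q (u : ℕ) : ℕ := Nat.land (Nat.shiftRight c0tl0Qd (Nat.mul u (nat_lit 9))) (nat_lit 511)
noncomputable def c0tl0 : Lev := ⟨351, 15, c0tl0D, c0tl0P, c0tl0Q⟩
noncomputable def c0tl1Dd : ℕ := nat_lit 0x72d94f91456a9db9c36618d78a88537364b24227574513f26e140966a4204146816450d168028263810c62c67f67354a36d31950270b5783012660b808947e2b826524d23522907d19e4c43fa3ee2402341f91ed3ca3be58b3a648746f43f4333f83ec1bd19a0473763df34618e07034530a2fe04d1322aa29e16926e26215114510234323215c13a02f0410ea20e2021501443072a827812e12204c3c30d21ea3ab2a713839325f1d21c61dd1ba10921734b33f0e52df1db1a10e401d17e2af2a32971b71ab0c00b50a909d01115a07e19f1880a809c14d18701c1e306613607a1bf14b1a714011d08407906e0fa11c10507806204e0d60ca1101040e106c0610550f80d50be0b20a60e00540420bd0b104a0a404912f0af11703e03d07603c0c306a05e09f01202505b05200e01800d05004600c06f04506305704402e02201602b01f01402700f00a009008007000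
noncomputable def c0tl1D (u : ℕ) : ℕ := Nat.land (Nat.shiftRight c0tl1Dd (Nat.mul u (nat_lit 12))) (nat_lit 4095)
noncomputable def c0tl1Pd : ℕ := nat_lit 0x8d51e16df91c8648c996372ae8039b3928cdaf389312d1a3454caea5415e67473d6a08cca5ce1bb173b148814800cbe531257ad114e53fa4913428f541dcb30fa89dae624a5da11178bae44959e206a46e25d2426d8934ee73568c418667598c968c468dc81d8a546a2cf83e609a90f439a8ca60500f24110836432a7e71690e988ff8e9fa646d6da313cde7e8000c9ca7bc89ebc6bc1d8b099b25884ea7d4ea260b2738d0d5148af870399ecd05f5c95070287b70d107b5d67831ed166320a3315090c4d01923b1eb23c1b859c03b7b9f42aa37a4ad84a0012f482450c5007e3033cfa5c080ebece40416824346c7a928d2660b844149d1726c3648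
noncomputable def c0tl1P (u : ℕ) : ℕ := Nat.land (Nat.shiftRight c0tl1Pd (Nat.mul u (nat_lit 9))) (nat_lit 511)
noncomputable def c0tl1Qd : ℕ := nat_lit 0xcf3c4400c22d00d590000000994caa5f000000bfc796b8de89003e7cac001a7116479b925291be00577b4600698b79b615ccd72243b50000938ad9db9dda8600ab6b0087df358fbc38340051b4a00000000000dd0058005a8ec6c1000000006c0063001253000027390b23c55e9f0000a9a5859e540000c3a4b0004ece3f29dc64bdd6670000945b000000006fcaa13bd2d0c00072d8732e37596d00217f00004a1e5c00000000000000b2a8000000b3c800000000000000c9840024a6002000650460020000cda2569cd100ae4b760000836682b1ad757d4d000074369ad4af6a26814000000000bb8cc4d31170000098680c007e0931170800000000000000000000000000000000000000ba00785d4f0000970aa3002f881c0000551db919803d2c286e48492b0000cb8d7a321845030f00000000000000000000000000a7771342010d301b072a2541953306000000003a50050e1400610010001fb762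
noncomputable def c0tl1Q (u : ℕ) : ℕ := Nat.land (Nat.shiftRight c0tl1Qd (Nat.mul u (nat_lit 8))) (nat_lit 255)
noncomputable def c0tl1 : Lev := ⟨224, 12, c0tl1D, c0tl1P, c0tl1Q⟩
noncomputable def c0tl2Dd : ℕ := nat_lit 0xc16943570be5ea391ad53b165186f349a07a3547968a688409585c3e0d09c40650c848843b0b050200b078981208038140c00
noncomputable def c0tl2D (u : ℕ) : ℕ := Nat.land (Nat.shiftRight c0tl2Dd (Nat.mul u (nat_lit 9))) (nat_lit 511)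
noncomputable def c0tl2Pd : ℕ := nat_lit 0x205d30e209f2cc509a2a28a144ae42183db42854161f8543d53554bb110d8d6269997196fe8523ce102aa04058bf31be5580d
noncomputable def c0tl2P (u : ℕ) : ℕ := Nat.land (Nat.shiftRight c0tl2Pd (Nat.mul u (nat_lit 9))) (nat_lit 511)
noncomputable def c0tl2Qd : ℕ := nat_lit 0x70000000005800000000000000000000000000000000000003c000000000000000000000000000000000000000000002600002900000000b00000000000800000c01900008000000000000000000000000000002000000000000001d000000000000000000000340000000000a8000010000052b00000000000000000000101501b000000000000a000000000000000000000002800000000000008800000000000000170000000000000090000004400000000000c000000000e0009da0000180008c00009400000000000007c000000000000000001200000000000000502401c01084001302c000000000000000000000006780000000000000000000000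
noncomputable def c0tl2Q (u : ℕ) : ℕ := Nat.land (Nat.shiftRight c0tl2Qd (Nat.mul u (nat_lit 6))) (nat_lit 63)
noncomputable def c0tl2 : Lev := ⟨45, 7, c0tl2D, c0tl2P, c0tl2Q⟩
noncomputable def c0tl3Dd : ℕ := nat_lit 0x20
noncomputable def c0tl3D (u : ℕ) : ℕ := Nat.land (Nat.shiftRight c0tl3Dd (Nat.mul u (nat_lit 3))) (nat_lit 7)
noncomputable def c0tl3Pd : ℕ := nat_lit 0xfc8f
noncomputable def c0tl3P (u : ℕ) : ℕ := Nat.land (Nat.shiftRight c0tl3Pd (Nat.mul u (nat_lit 8))) (nat_lit 255)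
noncomputable def c0tl3Qd : ℕ := nat_lit 0x1000000000000000000000000000000000000000000000000000000000000000
noncomputable def c0tl3Q (u : ℕ) : ℕ := Nat.land (Nat.shiftRight c0tl3Qd (Nat.mul u (nat_lit 1))) (nat_lit 1)
noncomputable def c0tl3 : Lev := ⟨2, 5, c0tl3D, c0tl3P, c0tl3Q⟩
noncomputable def c0tl4Dd : ℕ := nat_lit 0x9e36965103492060c0
noncomputable def c0tl4D (u : ℕ) : ℕ := Nat.land (Nat.shiftRight c0tl4Dd (Nat.mul u (nat_lit 6))) (nat_lit 63)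
noncomputable def c0tl4Pd : ℕ := nat_lit 0x65950e022aa3e614bf31ab05810
noncomputable def c0tl4P (u : ℕ) : ℕ := Nat.land (Nat.shiftRight c0tl4Pd (Nat.mul u (nat_lit 9))) (nat_lit 511)
noncomputable def c0tl4Qd : ℕ := nat_lit 0x70000000000000000000000000000000000000000000000000000000000000000000000000500000000000000006000000000000000000000000000000000000000000000b0000000000040000000000000000002000000000000000000000000000000000000000000000000000000000009000000000000300000000000000a000000000000000000000000000000000000000100000000080000000000000000000000000000000000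
noncomputable def c0tl4Q (u : ℕ) : ℕ := Nat.land (Nat.shiftRight c0tl4Qd (Nat.mul u (nat_lit 4))) (nat_lit 15)
noncomputable def c0tl4 : Lev := ⟨12, 4, c0tl4D, c0tl4P, c0tl4Q⟩
noncomputable def c0tl5Dd : ℕ := nat_lit 0x117312720c40
noncomputable def c0tl5D (u : ℕ) : ℕ := Nat.land (Nat.shiftRight c0tl5Dd (Nat.mul u (nat_lit 5))) (nat_lit 31)
noncomputable def c0tl5Pd : ℕ := nat_lit 0x2c382fd58f931d521422
noncomputable def c0tl5P (u : ℕ) : ℕ := Nat.land (Nat.shiftRight c0tl5Pd (Nat.mul u (nat_lit 9))) (nat_lit 511)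
noncomputable def c0tl5Qd : ℕ := nat_lit 0x20000000000000000000000000000000000000000000000000000000000000000000000000100000000000000004000000000000000000000000000000000000000000000000000000000600000000000000000050000000000000000000000000000000000000000000000000000000000070000000000003000000000000000000000000000000000000000000000000000000800000000000000000000000000000000000000000000
noncomputable def c0tl5Q (u : ℕ) : ℕ := Nat.land (Nat.shiftRight c0tl5Qd (Nat.mul u (nat_lit 4))) (nat_lit 15)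
noncomputable def c0tl5 : Lev := ⟨9, 3, c0tl5D, c0tl5P, c0tl5Q⟩
noncomputable def c0tl6Dd : ℕ := nat_lit 0x24
noncomputable def c0tl6D (u : ℕ) : ℕ := Nat.land (Nat.shiftRight c0tl6Dd (Nat.mul u (nat_lit 2))) (nat_lit 3)
noncomputable def c0tl6Pd : ℕ := nat_lit 0x141b80
noncomputable def c0tl6P (u : ℕ) : ℕ := Nat.land (Nat.shiftRight c0tl6Pd (Nat.mul u (nat_lit 7))) (nat_lit 127)
noncomputable def c0tl6Qd : ℕ := nat_lit 0x20000000000004000000000000000000000000000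
noncomputable def c0tl6Q (u : ℕ) : ℕ := Nat.land (Nat.shiftRight c0tl6Qd (Nat.mul u (nat_lit 2))) (nat_lit 3)
noncomputable def c0tl6 : Lev := ⟨3, 2, c0tl6D, c0tl6P, c0tl6Q⟩
noncomputable def c0tl7Dd : ℕ := nat_lit 0
noncomputable def c0tl7D (u : ℕ) : ℕ := Nat.land (Nat.shiftRight c0tl7Dd (Nat.mul u (nat_lit 1))) (nat_lit 1)
noncomputable def c0tl7Pd : ℕ := nat_lit 0x3d82
noncomputable def c0tl7P (u : ℕ) : ℕ := Nat.land (Nat.shiftRight c0tl7Pd (Nat.mul u (nat_lit 7))) (nat_lit 127)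
noncomputable def c0tl7Qd : ℕ := nat_lit 0x8000000000000000000000000000000
noncomputable def c0tl7Q (u : ℕ) : ℕ := Nat.land (Nat.shiftRight c0tl7Qd (Nat.mul u (nat_lit 1))) (nat_lit 1)
noncomputable def c0tl7 : Lev := ⟨2, 1, c0tl7D, c0tl7P, c0tl7Q⟩
noncomputable def c0ce_W : List (List ℕ) := [[nat_lit 2, nat_lit 0, nat_lit 1, nat_lit 4, nat_lit 5, nat_lit 3, nat_lit 1, nat_lit 0, nat_lit 2, nat_lit 4, nat_lit 5],
  [nat_lit 1, nat_lit 0, nat_lit 2, nat_lit 3, nat_lit 4, nat_lit 6, nat_lit 4, nat_lit 3, nat_lit 1, nat_lit 0, nat_lit 2],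
  [nat_lit 3, nat_lit 0, nat_lit 1, nat_lit 4, nat_lit 3, nat_lit 4, nat_lit 3, nat_lit 4, nat_lit 5, nat_lit 3, nat_lit 6, nat_lit 4, nat_lit 3, nat_lit 5, nat_lit 3, nat_lit 2, nat_lit 0, nat_lit 3],
  [nat_lit 3, nat_lit 0, nat_lit 2, nat_lit 3, nat_lit 4, nat_lit 5, nat_lit 3, nat_lit 5, nat_lit 6, nat_lit 4, nat_lit 3, nat_lit 1, nat_lit 0],
  [nat_lit 0, nat_lit 2, nat_lit 0, nat_lit 3, nat_lit 1, nat_lit 0, nat_lit 3, nat_lit 0, nat_lit 5, nat_lit 3, nat_lit 2, nat_lit 4, nat_lit 5, nat_lit 3, nat_lit 2, nat_lit 6, nat_lit 5, nat_lit 3, nat_lit 1, nat_lit 1, nat_lit 4],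
  [nat_lit 2, nat_lit 4, nat_lit 5, nat_lit 3, nat_lit 1, nat_lit 1, nat_lit 5, nat_lit 3, nat_lit 6, nat_lit 4, nat_lit 3, nat_lit 5, nat_lit 3, nat_lit 2, nat_lit 0, nat_lit 6, nat_lit 1, nat_lit 1, nat_lit 0],
  [nat_lit 2, nat_lit 3, nat_lit 0, nat_lit 4, nat_lit 3, nat_lit 4, nat_lit 5, nat_lit 3, nat_lit 2, nat_lit 3, nat_lit 6, nat_lit 4, nat_lit 3, nat_lit 1, nat_lit 3, nat_lit 0, nat_lit 4, nat_lit 3, nat_lit 5, nat_lit 6, nat_lit 5]]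
noncomputable def c0ce_P : ℕ → ℕ → ℕ := wdsP H16.O73.P c0ce_W
noncomputable def c0cc7Dd : ℕ := nat_lit 0
noncomputable def c0cc7D (u : ℕ) : ℕ := Nat.land (Nat.shiftRight c0cc7Dd (Nat.mul u (nat_lit 1))) (nat_lit 1)
noncomputable def c0cc7Pd : ℕ := nat_lit 0x3d82
noncomputable def c0cc7P (u : ℕ) : ℕ := Nat.land (Nat.shiftRight c0cc7Pd (Nat.mul u (nat_lit 7))) (nat_lit 127)
noncomputable def c0cc7Qd : ℕ := nat_lit 0x8000000000000000000000000000000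
noncomputable def c0cc7Q (u : ℕ) : ℕ := Nat.land (Nat.shiftRight c0cc7Qd (Nat.mul u (nat_lit 1))) (nat_lit 1)
noncomputable def c0cc7 : Lev := ⟨2, 1, c0cc7D, c0cc7P, c0cc7Q⟩
noncomputable def c0tn0Fd : ℕ := nat_lit 0
noncomputable def c0tn0F (u : ℕ) : ℕ := Nat.land (Nat.shiftRight c0tn0Fd (Nat.mul u (nat_lit 1))) (nat_lit 1)
noncomputable def c0tn0 : Nd := ⟨c0tn0F, (nat_lit 2), (nat_lit 1), [], [((nat_lit 0), [])], []⟩
noncomputable def c0cc6Dd : ℕ := nat_lit 0x24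
noncomputable def c0cc6D (u : ℕ) : ℕ := Nat.land (Nat.shiftRight c0cc6Dd (Nat.mul u (nat_lit 2))) (nat_lit 3)
noncomputable def c0cc6Pd : ℕ := nat_lit 0x141b80
noncomputable def c0cc6P (u : ℕ) : ℕ := Nat.land (Nat.shiftRight c0cc6Pd (Nat.mul u (nat_lit 7))) (nat_lit 127)
noncomputable def c0cc6Qd : ℕ := nat_lit 0x20000000000004000000000000000000000000000
noncomputable def c0cc6Q (u : ℕ) : ℕ := Nat.land (Nat.shiftRight c0cc6Qd (Nat.mul u (nat_lit 2))) (nat_lit 3)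
noncomputable def c0cc6 : Lev := ⟨3, 2, c0cc6D, c0cc6P, c0cc6Q⟩
noncomputable def c0tn1Fd : ℕ := nat_lit 0
noncomputable def c0tn1F (u : ℕ) : ℕ := Nat.land (Nat.shiftRight c0tn1Fd (Nat.mul u (nat_lit 1))) (nat_lit 1)
noncomputable def c0tn1 : Nd := ⟨c0tn1F, (nat_lit 2), (nat_lit 2), [], [((nat_lit 0), [])], []⟩
noncomputable def c0cc5Dd : ℕ := nat_lit 0x150
noncomputable def c0cc5D (u : ℕ) : ℕ := Nat.land (Nat.shiftRight c0cc5Dd (Nat.mul u (nat_lit 3))) (nat_lit 7)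
noncomputable def c0cc5Pd : ℕ := nat_lit 0xb3822
noncomputable def c0cc5P (u : ℕ) : ℕ := Nat.land (Nat.shiftRight c0cc5Pd (Nat.mul u (nat_lit 7))) (nat_lit 127)
noncomputable def c0cc5Qd : ℕ := nat_lit 0x100000000000000000000000000000000020000000000000000000000
noncomputable def c0cc5Q (u : ℕ) : ℕ := Nat.land (Nat.shiftRight c0cc5Qd (Nat.mul u (nat_lit 2))) (nat_lit 3)
noncomputable def c0cc5 : Lev := ⟨3, 3, c0cc5D, c0cc5P, c0cc5Q⟩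
noncomputable def c0tn2Fd : ℕ := nat_lit 0x1ef8c8
noncomputable def c0tn2F (u : ℕ) : ℕ := Nat.land (Nat.shiftRight c0tn2Fd (Nat.mul u (nat_lit 3))) (nat_lit 7)
noncomputable def c0tn2 : Nd := ⟨c0tn2F, (nat_lit 3), (nat_lit 3), [[nat_lit 0]], [((nat_lit 0), [])], []⟩
noncomputable def c0cc4Dd : ℕ := nat_lit 0xef6730
noncomputable def c0cc4D (u : ℕ) : ℕ := Nat.land (Nat.shiftRight c0cc4Dd (Nat.mul u (nat_lit 4))) (nat_lit 15)
noncomputable def c0cc4Pd : ℕ := nat_lit 0x2ccb70542210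
noncomputable def c0cc4P (u : ℕ) : ℕ := Nat.land (Nat.shiftRight c0cc4Pd (Nat.mul u (nat_lit 8))) (nat_lit 255)
noncomputable def c0cc4Qd : ℕ := nat_lit 0x800000000000000000000000000000000000000000000000000000000000000000003000000000000000000002000000000000000000000000000005000000040000000000000000000000000
noncomputable def c0cc4Q (u : ℕ) : ℕ := Nat.land (Nat.shiftRight c0cc4Qd (Nat.mul u (nat_lit 3))) (nat_lit 7)
noncomputable def c0cc4 : Lev := ⟨6, 4, c0cc4D, c0cc4P, c0cc4Q⟩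
noncomputable def c0tn3Fd : ℕ := nat_lit 0xb6954100
noncomputable def c0tn3F (u : ℕ) : ℕ := Nat.land (Nat.shiftRight c0tn3Fd (Nat.mul u (nat_lit 4))) (nat_lit 15)
noncomputable def c0tn3 : Nd := ⟨c0tn3F, (nat_lit 4), (nat_lit 4), [[nat_lit 0]], [((nat_lit 0), [])], []⟩
noncomputable def c0cc2Dd : ℕ := nat_lit 0x1db73b6d3a64997118ac304c71c2c68a0d16243880c14200
noncomputable def c0cc2D (u : ℕ) : ℕ := Nat.land (Nat.shiftRight c0cc2Dd (Nat.mul u (nat_lit 7))) (nat_lit 127)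
noncomputable def c0cc2Pd : ℕ := nat_lit 0x40866b164ce9acb55151f88f141c0442a542e93f10079650ae426895760d
noncomputable def c0cc2P (u : ℕ) : ℕ := Nat.land (Nat.shiftRight c0cc2Pd (Nat.mul u (nat_lit 9))) (nat_lit 511)
noncomputable def c0cc2Qd : ℕ := nat_lit 0x2a0000000000000000000000000000000b000000000000000000000000000000000000000000080000000000000000000000011000000000000000000000000000004000000000000000000000000000000a00000000000000000000a80000000000000000004c0b0000000000480000000000000000008000000000000a0000000000000000000000000e00000c0000000000000000000000c00001200000000600000000000c800000000000000000000000000170300f00040034000000000000000000001a38000000000000000000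
noncomputable def c0cc2Q (u : ℕ) : ℕ := Nat.land (Nat.shiftRight c0cc2Qd (Nat.mul u (nat_lit 5))) (nat_lit 31)
noncomputable def c0cc2 : Lev := ⟨27, 5, c0cc2D, c0cc2P, c0cc2Q⟩
noncomputable def c0tn4Fd : ℕ := nat_lit 0xd0300002400480000016002800680000200c04811580016800629c20
noncomputable def c0tn4F (u : ℕ) : ℕ := Nat.land (Nat.shiftRight c0tn4Fd (Nat.mul u (nat_lit 5))) (nat_lit 31)
noncomputable def c0tn4 : Nd := ⟨c0tn4F, (nat_lit 5), (nat_lit 5), [[nat_lit 0]], [((nat_lit 0), [])], []⟩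
noncomputable def c0cc1Dd : ℕ := nat_lit 0x8db5d12c9140
noncomputable def c0cc1D (u : ℕ) : ℕ := Nat.land (Nat.shiftRight c0cc1Dd (Nat.mul u (nat_lit 6))) (nat_lit 63)
noncomputable def c0cc1Pd : ℕ := nat_lit 0x39a1d3b5e73ce5a048
noncomputable def c0cc1P (u : ℕ) : ℕ := Nat.land (Nat.shiftRight c0cc1Pd (Nat.mul u (nat_lit 9))) (nat_lit 511)
noncomputable def c0cc1Qd : ℕ := nat_lit 0x100000000000000000000000000010000000000000000000000000000000000000000000000000000000000000600000000000000001000000000000000000000000000000000000028000000000000000c00000000000000e00000000000000000000000000000000000000000000000000000000000000000000000000000000000000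
noncomputable def c0cc1Q (u : ℕ) : ℕ := Nat.land (Nat.shiftRight c0cc1Qd (Nat.mul u (nat_lit 3))) (nat_lit 7)
noncomputable def c0cc1 : Lev := ⟨8, 6, c0cc1D, c0cc1P, c0cc1Q⟩
noncomputable def c0tn5Fd : ℕ := nat_lit 0x75459a6ce61d6d565401762101379859769d5566d50218dd39541b71389d69c4d27573d371c5223d96994105da6d701e7996cf8548d64985d73db01d85075d8d66182556df6d95217940105dc75475a75b75a69445d71e6db5d569881a58e5d869589b4d655759165b8d469069569b75431b55359745b45154b6d86d851251a59b6176ce65555651a5a36dd75555360a4933dd65b85b2171dc60685665b65b5cc6dc6d53006d6040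
noncomputable def c0tn5F (u : ℕ) : ℕ := Nat.land (Nat.shiftRight c0tn5Fd (Nat.mul u (nat_lit 6))) (nat_lit 63)
noncomputable def c0tn5 : Nd := ⟨c0tn5F, (nat_lit 6), (nat_lit 6), [[nat_lit 0]], [((nat_lit 0), [])], []⟩
noncomputable def c0cc0Dd : ℕ := nat_lit 0xa47c6f615a534c5d5730292f282d221b14121a1c0d150a08070600
noncomputable def c0cc0D (u : ℕ) : ℕ := Nat.land (Nat.shiftRight c0cc0Dd (Nat.mul u (nat_lit 8))) (nat_lit 255)
noncomputable def c0cc0Pd : ℕ := nat_lit 0x39da0739ca76bc87133f8907a61b686c5c10450a2587cc0aa8bf852b0c605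
noncomputable def c0cc0P (u : ℕ) : ℕ := Nat.land (Nat.shiftRight c0cc0Pd (Nat.mul u (nat_lit 9))) (nat_lit 511)
noncomputable def c0cc0Qd : ℕ := nat_lit 0x54000000000005000000000000000000000000000000002e000000000000000000000000000000000000000000000a000000000000c00000000180004800000e000000000000000000000d00000000000000038000000000019000000000000000780002000000000000000000000002000000000000000002c00000000000000000000000000a000000000000000400000000c0000000000000000000080000000c0000800000001200000000011000000000000000000000340000000000000000004c000000b0000000000000000000000000000000000000000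
noncomputable def c0cc0Q (u : ℕ) : ℕ := Nat.land (Nat.shiftRight c0cc0Qd (Nat.mul u (nat_lit 5))) (nat_lit 31)
noncomputable def c0cc0 : Lev := ⟨27, 7, c0cc0D, c0cc0P, c0cc0Q⟩
noncomputable def c0tn6Fd : ℕ := nat_lit 0x6e09dc9807236a36e181c6687db7d86e38a88dd9a37dc02371c42275b7609dc5e2aa976392675b91a89a55802675fa5d5e2a2889c9225588956209a1866722a267966008e69808db8676e466092289d6e47e879c71689b02299d8545805566db4e989999f7dc5c0962898890a61a5f9a29639d159955a7df8e289875b8629e200081f25d01a0197d67e38df49475c9168926e88a489589f89b5d89a970e5a26e26a071161f99b0138635df52366196152200a48069789b02985d6dc02839a01089839f8dd7e702301d81891a4c07e289b4584df71789e8636e265f4a1800a8045d01401a49a8a255f5e664fa15666991611858a5791b5e27e442174898774d6cc8678e17e3040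
noncomputable def c0tn6F (u : ℕ) : ℕ := Nat.land (Nat.shiftRight c0tn6Fd (Nat.mul u (nat_lit 6))) (nat_lit 63)
noncomputable def c0tn6 : Nd := ⟨c0tn6F, (nat_lit 7), (nat_lit 7), [[nat_lit 0]], [((nat_lit 0), [])], []⟩
noncomputable def c1x_W : List (List ℕ) := [[nat_lit 4, nat_lit 3, nat_lit 1, nat_lit 0, nat_lit 3, nat_lit 0, nat_lit 1, nat_lit 4, nat_lit 3, nat_lit 1, nat_lit 4, nat_lit 5, nat_lit 3, nat_lit 1, nat_lit 1]]
noncomputable def c1x_P : ℕ → ℕ → ℕ := wdsP H16.O73.P c1x_W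
noncomputable def c1th_W : List (List ℕ) := [[nat_lit 3, nat_lit 5, nat_lit 1, nat_lit 0, nat_lit 4, nat_lit 3, nat_lit 0, nat_lit 2, nat_lit 4, nat_lit 5, nat_lit 3],
  [nat_lit 1, nat_lit 0, nat_lit 3, nat_lit 2, nat_lit 3, nat_lit 5, nat_lit 6, nat_lit 5, nat_lit 3, nat_lit 1, nat_lit 3, nat_lit 0, nat_lit 2],
  [nat_lit 1, nat_lit 3, nat_lit 4, nat_lit 3, nat_lit 2, nat_lit 3, nat_lit 5, nat_lit 6, nat_lit 5, nat_lit 3, nat_lit 1, nat_lit 3, nat_lit 0, nat_lit 4, nat_lit 3, nat_lit 2],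
  [nat_lit 6, nat_lit 3, nat_lit 4, nat_lit 3, nat_lit 2, nat_lit 3, nat_lit 0, nat_lit 5, nat_lit 3, nat_lit 0, nat_lit 2, nat_lit 3, nat_lit 5, nat_lit 3, nat_lit 2, nat_lit 6],
  [nat_lit 3, nat_lit 6, nat_lit 2, nat_lit 3, nat_lit 1, nat_lit 0, nat_lit 3, nat_lit 4, nat_lit 3, nat_lit 4, nat_lit 5, nat_lit 3, nat_lit 1, nat_lit 1, nat_lit 4, nat_lit 5, nat_lit 6, nat_lit 2],
  [nat_lit 3],
  [nat_lit 6, nat_lit 3, nat_lit 2, nat_lit 4, nat_lit 3, nat_lit 2, nat_lit 2, nat_lit 4, nat_lit 5, nat_lit 3, nat_lit 2, nat_lit 2, nat_lit 2, nat_lit 5, nat_lit 6],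
  [nat_lit 0],
  [nat_lit 1],
  [nat_lit 2],
  [nat_lit 0, nat_lit 1, nat_lit 1, nat_lit 4, nat_lit 5, nat_lit 3, nat_lit 1, nat_lit 0, nat_lit 4, nat_lit 5, nat_lit 6, nat_lit 4, nat_lit 3, nat_lit 0, nat_lit 1, nat_lit 6],
  [nat_lit 4],
  [nat_lit 5],
  [nat_lit 6],
  [nat_lit 2, nat_lit 2, nat_lit 3, nat_lit 0, nat_lit 2, nat_lit 3, nat_lit 4, nat_lit 3, nat_lit 0, nat_lit 2, nat_lit 5, nat_lit 3, nat_lit 0, nat_lit 4, nat_lit 3, nat_lit 6, nat_lit 5, nat_lit 3, nat_lit 2, nat_lit 3, nat_lit 0, nat_lit 2]]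
noncomputable def c1th_P : ℕ → ℕ → ℕ := wdsP H16.O73.P c1th_W
noncomputable def c1tl0Dd : ℕ := nat_lit 0x2db6101115864c4862070f476609017a4b781353f993c824c7bebd41e0a22d0ea069d79ead15251771832bfb57e9fd4e48d705249e6cea04fb07a1a3959ec6221c03588340af48e9944c665e93552294cfa571425994052a52650512f46ea84a41d9e5ca6848106c251ceb64cb05c109c2040e43da1e94cba64e2a1127890073c35b0ca882e64d308975891c3f90bc0324b7058b15181f0076688301101cf2865b30817547d27582c5135c4ce5f22bd95b09543bc1c08eb4dfc5d40969acca244e526b10c86a833718512a482838017602a0c5845e1ec0dc46a633615f8708bfe5f0211104c7742eb053826411419524511b0b684301ce0be455e28313a15688243c81dc8ba81303aa0b414b4a004e22620ab852227312b086841610007892d477007a132113085c290139095446e21910507b439e1c01be0d045d01b11990c8c55825410487383083b61d386c02ea06b1cc0b6055629d14709c02ae2610d786802e805c14e0a344de25211282981fe0f0070813c2e6242119885440c1bc0aa83480801f70d6867858c2a810287a039413703c87d835827b136014428811a077030c4ba1ab0ce05c046004209303f01da0df05a02940d416f02707943ac1c70dc05802a20fb02d86a433404d0be04cc22e16d01f00641d40b2018845418009401103a01b40a20498214026113066021006610407302b809803006b832817809f01e805405e0ac04f023c102020009032010001105c82a809608c01e00b80ae04900f81200a8053022814808804300e006c0460140068030016000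
noncomputable def c1tl0D (u : ℕ) : ℕ := Nat.land (Nat.shiftRight c1tl0Dd (Nat.mul u (nat_lit 13))) (nat_lit 8191)
noncomputable def c1tl0Pd : ℕ := nat_lit 0x496b50f7e4a68ce69e4b6172398cea88d468c220d266fd2a1503a44e5fa84a933a3a9fa3d54ef429b34205493c39608f062bf90e8b7a5062af14c3aeac8376c61c6d85d50d109677a86a6bc7fd2e49095dc794cd7452012a9dacbcda6a0743795c746cadd61143e3ea20af61ace9f3837c1d3958a6cf60a7f8e226806e40d716cea6ad4488a89f2449a6a25c81f0d28dbe50c6b53aa898f51a3da1ce28b9e86d1a6d288f243561a56a6c888d51c3e952152667604665f3389cdcd0aba2a3ebd4c293754abe963c9347b481f59f3070144c2dc520e88e303a975f7227b8f484504611866cb93ac994db9dac5ce64993848300394d5929e32d5e2c4e29afe9c762543190582d9c52e2d204fd365f39c7cb8ec518dc76494cae5683c95a48b46660d521a9472208c0e91c8857a1f2ad7602c69a0e0ac45171887e2061485ac5918920bc2f3856ddc1966150561d1431030240e0518ead1304d1a2ca805a5cb80f09452223f13cc6151186822cd9409c246d1505cae1b192a4200c8902c1c0f048341408030140e040000c0401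
noncomputable def c1tl0P (u : ℕ) : ℕ := Nat.land (Nat.shiftRight c1tl0Pd (Nat.mul u (nat_lit 9))) (nat_lit 511)
noncomputable def c1tl0Qd : ℕ := nat_lit 0x2d4a4ee1f5761ef8414a67c5e8ed0dd42b7e9f5eeb48d52a71479fd656f51914f25cf13939ded5747d4a8cfc5d4ed0c4f5e22ea6a85e8a6acaf31b0eb41b49d32bd19aa2708ce23745a82f36fb417d2669a065b045d83d8f01ae354ba7aaad26314e7d535eb35a44e4a2888dcca8b5b4ec09bce14db59b12f872ba59348f8f64e6c953b0b10b46d626c5b92b5114a7a5c2964a44833e0f248a115d75086b829f3a54d08383b4a2450a791894266367f91cbebf3f2c0ab1c8bc8ccc28833b592657f2491d058042460cb5c36824e86dc5562a335b3a3d0ca021220f938ab4cf2b3ac82225c60989ccab5b3145a979844de52198b75854494169df127a08d5503563499b379e9f13f0837a1cec3f7dbc030c86e39194b960181068c109294a59381053c6d3b98488780a934a63a3facd4c9811201cad9719ecd04250a5898e966265127324b11346434a88ae4e353458cd74a84c86a02012ce82c1c85c4a370d0bc4c340f890ac482a09c70330a07878350b0a84032170643a110603414100702416080281c0c04010040003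
noncomputable def c1tl0Q (u : ℕ) : ℕ := Nat.land (Nat.shiftRight c1tl0Qd (Nat.mul u (nat_lit 9))) (nat_lit 511)
noncomputable def c1tl0 : Lev := ⟨351, 15, c1tl0D, c1tl0P, c1tl0Q⟩
noncomputable def c1tl1Dd : ℕ := nat_lit 0x40159730489d4d07e479844c7f87c16c72cc75373259412f6e56da6cf5b410e5512ec0d01372e14ee2aa2891a35194ed4e246b4555644541fa43e4334bf4b409941d4124320b441c3b038f3fb4513e538e3420c114b0882f54043410ab3f936c32b3201143ee3152920fe3d832a31f2f30b30a83c223a07436a1760dd2a625a0b220335434933e33331d1f83122f120d1e21d71cc0920870712171ec12911e2991e11d61cb1c109107b1ab05b26d2621f62411aa18a1bf1ff1a91941c80510360d11880b103b02b19c17f09b17e17408506f0530481480c603017d17315d03d1470bb05913c10605004517215c11b1100a513b1050f004403a17b0e509a1040ef03915a0e408406e1390da1180e310202e0240ec0d80150cf0ce04e02d0c008102206104d01908006b06003700e06a00d02c00a01700c05403f03505204703402a02900b01e01401d01b010008007000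
noncomputable def c1tl1D (u : ℕ) : ℕ := Nat.land (Nat.shiftRight c1tl1Dd (Nat.mul u (nat_lit 12))) (nat_lit 4095)
noncomputable def c1tl1Pd : ℕ := nat_lit 0x2800f8c3732a9eb0a8806599005c8ccc9031d4087c88342369d140a174b4b5062f55cb752bb21aabac29974638098610412f2e0a29d2cd5185539ac39ce523a81857202587c60817f22dbb5658a0c502750b3c48e32a0aab8534895c3a7f44cc2225c8abcdb64759aa458258d0d0aa602143db92d961d279175f2c1ff3886515488083255b14c3128a771caf2ecbee22529e3c6c97cd01c22078a56492a15363aca690344cc54c4a9f896569ce6c102c27ab4d1a4ab169183b19406df57a523729a0521928a11bb99d47909b950fd6255665573581cb7437bc964c566442e472466d1a8905895416cd078b86334b8b53e094a83c89d52e98cae12de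
noncomputable def c1tl1P (u : ℕ) : ℕ := Nat.land (Nat.shiftRight c1tl1Pd (Nat.mul u (nat_lit 9))) (nat_lit 511)
noncomputable def c1tl1Qd : ℕ := nat_lit 0x630091004100bb249c26aeac0000120ac952680c083f322c166e152053003300000075650000700045ab5a0025038a5b047877024a3400001d1e1819062ba4005d5164357f0d3c740b87c8001389d77aaabd6f1ad801b5076b1409d0ceb7d4719f2849000000001f00d90086000f00002e00be00050000a9db000094600e0038009d798500006900000000004f4010962d17d50050311b00004c27dcad00000073c20062b9d3b2c011c43d83559b7237c1473ebcda82295ebabf6d006697000042b0000000004b00486a3600548f000000ca009e308bcc000000009a00a06c8c0000dd00000000003ba77646000000002a005c230000cb00003ad1b867b67c61b3c68821c5af438e1c7d9390a8b10000000000a35f000084000000007bb40000cd000000cf00000000007ed20000a100000081a5925699984d80952f580000a2008d000000d600000000c70000004457594ec30000000022a6df00390000de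
noncomputable def c1tl1Q (u : ℕ) : ℕ := Nat.land (Nat.shiftRight c1tl1Qd (Nat.mul u (nat_lit 8))) (nat_lit 255)
noncomputable def c1tl1 : Lev := ⟨224, 11, c1tl1D, c1tl1P, c1tl1Q⟩
noncomputable def c1tl2Dd : ℕ := nat_lit 0xb76b5eec534c8c7ed0bb5b4e352e273b8a8333292d756e601824174b383111101644150b1a0d0a090806070500
noncomputable def c1tl2D (u : ℕ) : ℕ := Nat.land (Nat.shiftRight c1tl2Dd (Nat.mul u (nat_lit 8))) (nat_lit 255)
noncomputable def c1tl2Pd : ℕ := nat_lit 0xda5fbe2b2f96002492d31ca1e74710b880f0c6392086e9a1b3b5e95d791a5087a481227ae01e9dd1893283a2826f224e47816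
noncomputable def c1tl2P (u : ℕ) : ℕ := Nat.land (Nat.shiftRight c1tl2Pd (Nat.mul u (nat_lit 9))) (nat_lit 511)
noncomputable def c1tl2Qd : ℕ := nat_lit 0x500000a40000000000000000000000000000000000140000340021080000000000000000000000000000000000000000000000000000000000000000000000000000000000000000000000a2a00001501300000058000000600000000000c00000002c00000000090000000000000000001c000000027ac000000000000000000000000000000000000000000000000000001800000000020000f00000900000088001101a00000000001001d28000001b80010000000048000000000000000000000000000000000000700000000094e0000030000000002c10008c065700000000000000000000000000000001e0000000000007c0000000000000000000980000000000000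
noncomputable def c1tl2Q (u : ℕ) : ℕ := Nat.land (Nat.shiftRight c1tl2Qd (Nat.mul u (nat_lit 6))) (nat_lit 63)
noncomputable def c1tl2 : Lev := ⟨45, 7, c1tl2D, c1tl2P, c1tl2Q⟩
noncomputable def c1tl3Dd : ℕ := nat_lit 0x20
noncomputable def c1tl3D (u : ℕ) : ℕ := Nat.land (Nat.shiftRight c1tl3Dd (Nat.mul u (nat_lit 3))) (nat_lit 7)
noncomputable def c1tl3Pd : ℕ := nat_lit 0xf4c6
noncomputable def c1tl3P (u : ℕ) : ℕ := Nat.land (Nat.shiftRight c1tl3Pd (Nat.mul u (nat_lit 8))) (nat_lit 255)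
noncomputable def c1tl3Qd : ℕ := nat_lit 0x10000000000000000000000000000000000000000000000000000000000000
noncomputable def c1tl3Q (u : ℕ) : ℕ := Nat.land (Nat.shiftRight c1tl3Qd (Nat.mul u (nat_lit 1))) (nat_lit 1)
noncomputable def c1tl3 : Lev := ⟨2, 5, c1tl3D, c1tl3P, c1tl3Q⟩
noncomputable def c1tl4Dd : ℕ := nat_lit 0xde7117b96a31460
noncomputable def c1tl4D (u : ℕ) : ℕ := Nat.land (Nat.shiftRight c1tl4Dd (Nat.mul u (nat_lit 5))) (nat_lit 31)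
noncomputable def c1tl4Pd : ℕ := nat_lit 0x76d6508203c0d87272499e91817
noncomputable def c1tl4P (u : ℕ) : ℕ := Nat.land (Nat.shiftRight c1tl4Pd (Nat.mul u (nat_lit 9))) (nat_lit 511)
noncomputable def c1tl4Qd : ℕ := nat_lit 0xa00000000000000000000000000000000000000000000000000000000000000000000000000000000000000000000000000000000000b000000000000000000000000000000000000000000000000000000000000000000000000000000000000000003000000100000009000000000207000004000000000000000000000000000000000000000000000000000000005006000000000000000000000800000000000000000000000000000000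
noncomputable def c1tl4Q (u : ℕ) : ℕ := Nat.land (Nat.shiftRight c1tl4Qd (Nat.mul u (nat_lit 4))) (nat_lit 15)
noncomputable def c1tl4 : Lev := ⟨12, 4, c1tl4D, c1tl4P, c1tl4Q⟩
noncomputable def c1tl5Dd : ℕ := nat_lit 0xb89754320
noncomputable def c1tl5D (u : ℕ) : ℕ := Nat.land (Nat.shiftRight c1tl5Dd (Nat.mul u (nat_lit 4))) (nat_lit 15)
noncomputable def c1tl5Pd : ℕ := nat_lit 0x15b9f364301247c4cda02
noncomputable def c1tl5P (u : ℕ) : ℕ := Nat.land (Nat.shiftRight c1tl5Pd (Nat.mul u (nat_lit 9))) (nat_lit 511)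
noncomputable def c1tl5Qd : ℕ := nat_lit 0x800000000000000000000000000007000000000000000000000000000000000000000000200000000000000000000000000000000000000000000000000000000060000000000000000000000000000000000000000000000000000000000000000000000000300000000000000000000000000000000010000000000000000000000000000000000000000000000000000000000000000000000000000000000005000004000000000000000000
noncomputable def c1tl5Q (u : ℕ) : ℕ := Nat.land (Nat.shiftRight c1tl5Qd (Nat.mul u (nat_lit 4))) (nat_lit 15)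
noncomputable def c1tl5 : Lev := ⟨9, 3, c1tl5D, c1tl5P, c1tl5Q⟩
noncomputable def c1tl6Dd : ℕ := nat_lit 0x24
noncomputable def c1tl6D (u : ℕ) : ℕ := Nat.land (Nat.shiftRight c1tl6Dd (Nat.mul u (nat_lit 2))) (nat_lit 3)
noncomputable def c1tl6Pd : ℕ := nat_lit 0x12a2403
noncomputable def c1tl6P (u : ℕ) : ℕ := Nat.land (Nat.shiftRight c1tl6Pd (Nat.mul u (nat_lit 9))) (nat_lit 511)
noncomputable def c1tl6Qd : ℕ := nat_lit 0x100000000000000000000000000000000000000000000000000000000000000000000000000000000000000000000000000020000000000000000000000000000000000000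
noncomputable def c1tl6Q (u : ℕ) : ℕ := Nat.land (Nat.shiftRight c1tl6Qd (Nat.mul u (nat_lit 2))) (nat_lit 3)
noncomputable def c1tl6 : Lev := ⟨3, 2, c1tl6D, c1tl6P, c1tl6Q⟩
noncomputable def c1tl7Dd : ℕ := nat_lit 0
noncomputable def c1tl7D (u : ℕ) : ℕ := Nat.land (Nat.shiftRight c1tl7Dd (Nat.mul u (nat_lit 1))) (nat_lit 1)
noncomputable def c1tl7Pd : ℕ := nat_lit 0xc84
noncomputable def c1tl7P (u : ℕ) : ℕ := Nat.land (Nat.shiftRight c1tl7Pd (Nat.mul u (nat_lit 6))) (nat_lit 63)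
noncomputable def c1tl7Qd : ℕ := nat_lit 0x4000000000000
noncomputable def c1tl7Q (u : ℕ) : ℕ := Nat.land (Nat.shiftRight c1tl7Qd (Nat.mul u (nat_lit 1))) (nat_lit 1)
noncomputable def c1tl7 : Lev := ⟨2, 1, c1tl7D, c1tl7P, c1tl7Q⟩
noncomputable def c1ce_W : List (List ℕ) := [[nat_lit 1, nat_lit 3, nat_lit 0, nat_lit 4, nat_lit 5, nat_lit 3, nat_lit 0, nat_lit 4, nat_lit 5, nat_lit 3, nat_lit 2],
  [nat_lit 4, nat_lit 3, nat_lit 1, nat_lit 3, nat_lit 5, nat_lit 6, nat_lit 5, nat_lit 3, nat_lit 2, nat_lit 3, nat_lit 4],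
  [nat_lit 1, nat_lit 0, nat_lit 2, nat_lit 3, nat_lit 5, nat_lit 6, nat_lit 5, nat_lit 3, nat_lit 1, nat_lit 3, nat_lit 0, nat_lit 2],
  [nat_lit 6, nat_lit 0, nat_lit 1, nat_lit 1, nat_lit 3, nat_lit 2, nat_lit 4, nat_lit 3, nat_lit 0, nat_lit 1, nat_lit 1, nat_lit 5, nat_lit 3, nat_lit 0, nat_lit 1, nat_lit 5, nat_lit 6],
  [nat_lit 1, nat_lit 5, nat_lit 3, nat_lit 4, nat_lit 3, nat_lit 2, nat_lit 4, nat_lit 3, nat_lit 0, nat_lit 5, nat_lit 6, nat_lit 5, nat_lit 3, nat_lit 1, nat_lit 3, nat_lit 0, nat_lit 2],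
  [nat_lit 2, nat_lit 0, nat_lit 3, nat_lit 0, nat_lit 1, nat_lit 4, nat_lit 3, nat_lit 0, nat_lit 2, nat_lit 3, nat_lit 0, nat_lit 5, nat_lit 3, nat_lit 1, nat_lit 6, nat_lit 4, nat_lit 3, nat_lit 1, nat_lit 0, nat_lit 3, nat_lit 4],
  [nat_lit 1, nat_lit 3, nat_lit 1, nat_lit 3, nat_lit 4, nat_lit 3, nat_lit 0, nat_lit 5, nat_lit 3, nat_lit 1, nat_lit 4, nat_lit 6, nat_lit 4, nat_lit 3, nat_lit 5, nat_lit 3, nat_lit 4, nat_lit 3],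
  [nat_lit 1, nat_lit 0, nat_lit 2, nat_lit 3, nat_lit 0, nat_lit 5, nat_lit 3, nat_lit 2, nat_lit 3, nat_lit 6, nat_lit 5, nat_lit 3, nat_lit 0, nat_lit 2, nat_lit 3, nat_lit 0],
  [nat_lit 2, nat_lit 3, nat_lit 0, nat_lit 1, nat_lit 4, nat_lit 3, nat_lit 1, nat_lit 0, nat_lit 2, nat_lit 4, nat_lit 5, nat_lit 3, nat_lit 4, nat_lit 5, nat_lit 6, nat_lit 4, nat_lit 3, nat_lit 1, nat_lit 3, nat_lit 0, nat_lit 4]]
noncomputable def c1ce_P : ℕ → ℕ → ℕ := wdsP H16.O73.P c1ce_W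
noncomputable def c1cc7Dd : ℕ := nat_lit 0
noncomputable def c1cc7D (u : ℕ) : ℕ := Nat.land (Nat.shiftRight c1cc7Dd (Nat.mul u (nat_lit 1))) (nat_lit 1)
noncomputable def c1cc7Pd : ℕ := nat_lit 0xc84
noncomputable def c1cc7P (u : ℕ) : ℕ := Nat.land (Nat.shiftRight c1cc7Pd (Nat.mul u (nat_lit 6))) (nat_lit 63)
noncomputable def c1cc7Qd : ℕ := nat_lit 0x4000000000000
noncomputable def c1cc7Q (u : ℕ) : ℕ := Nat.land (Nat.shiftRight c1cc7Qd (Nat.mul u (nat_lit 1))) (nat_lit 1)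
noncomputable def c1cc7 : Lev := ⟨2, 1, c1cc7D, c1cc7P, c1cc7Q⟩
noncomputable def c1tn0Fd : ℕ := nat_lit 0
noncomputable def c1tn0F (u : ℕ) : ℕ := Nat.land (Nat.shiftRight c1tn0Fd (Nat.mul u (nat_lit 1))) (nat_lit 1)
noncomputable def c1tn0 : Nd := ⟨c1tn0F, (nat_lit 2), (nat_lit 1), [], [((nat_lit 0), [])], []⟩
noncomputable def c1cc6Dd : ℕ := nat_lit 0x24
noncomputable def c1cc6D (u : ℕ) : ℕ := Nat.land (Nat.shiftRight c1cc6Dd (Nat.mul u (nat_lit 2))) (nat_lit 3)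
noncomputable def c1cc6Pd : ℕ := nat_lit 0x4489403
noncomputable def c1cc6P (u : ℕ) : ℕ := Nat.land (Nat.shiftRight c1cc6Pd (Nat.mul u (nat_lit 9))) (nat_lit 511)
noncomputable def c1cc6Qd : ℕ := nat_lit 0x200000000000000000000000000000000000000000000000000000000000000000000000000000000000000000000000000010000000000000000000000000000000000000
noncomputable def c1cc6Q (u : ℕ) : ℕ := Nat.land (Nat.shiftRight c1cc6Qd (Nat.mul u (nat_lit 2))) (nat_lit 3)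
noncomputable def c1cc6 : Lev := ⟨3, 2, c1cc6D, c1cc6P, c1cc6Q⟩
noncomputable def c1tn1Fd : ℕ := nat_lit 0
noncomputable def c1tn1F (u : ℕ) : ℕ := Nat.land (Nat.shiftRight c1tn1Fd (Nat.mul u (nat_lit 1))) (nat_lit 1)
noncomputable def c1tn1 : Nd := ⟨c1tn1F, (nat_lit 2), (nat_lit 2), [], [((nat_lit 0), [])], []⟩
noncomputable def c1cc5Dd : ℕ := nat_lit 0xb89754320
noncomputable def c1cc5D (u : ℕ) : ℕ := Nat.land (Nat.shiftRight c1cc5Dd (Nat.mul u (nat_lit 4))) (nat_lit 15)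
noncomputable def c1cc5Pd : ℕ := nat_lit 0x15b9f44d1ed9368602402
noncomputable def c1cc5P (u : ℕ) : ℕ := Nat.land (Nat.shiftRight c1cc5Pd (Nat.mul u (nat_lit 9))) (nat_lit 511)
noncomputable def c1cc5Qd : ℕ := nat_lit 0x800000000000000000000000000007000000000000000000000000000000000000000000600000000000000000000000000000000000000000000000000000000040000000000000000000000000000000000000000000000000000000000000000000000000500000000000000000000000000000000030000000000000000000000000000000000000000000000000000000000000000000000000000000000002000001000000000000000000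
noncomputable def c1cc5Q (u : ℕ) : ℕ := Nat.land (Nat.shiftRight c1cc5Qd (Nat.mul u (nat_lit 4))) (nat_lit 15)
noncomputable def c1cc5 : Lev := ⟨9, 3, c1cc5D, c1cc5P, c1cc5Q⟩
noncomputable def c1tn2Fd : ℕ := nat_lit 0
noncomputable def c1tn2F (u : ℕ) : ℕ := Nat.land (Nat.shiftRight c1tn2Fd (Nat.mul u (nat_lit 1))) (nat_lit 1)
noncomputable def c1tn2 : Nd := ⟨c1tn2F, (nat_lit 3), (nat_lit 3), [], [((nat_lit 0), [])], []⟩
noncomputable def c1cc4Dd : ℕ := nat_lit 0xad55103cb38a1840c0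
noncomputable def c1cc4D (u : ℕ) : ℕ := Nat.land (Nat.shiftRight c1cc4Dd (Nat.mul u (nat_lit 6))) (nat_lit 63)
noncomputable def c1cc4Pd : ℕ := nat_lit 0x1c9c8408476d64f0364624cf417
noncomputable def c1cc4P (u : ℕ) : ℕ := Nat.land (Nat.shiftRight c1cc4Pd (Nat.mul u (nat_lit 9))) (nat_lit 511)
noncomputable def c1cc4Qd : ℕ := nat_lit 0x600000000000000000000000000000000000000000000000000000000000000000000000000000000000000000000000000000000000700000000000000000000000000000000000000000000000000000000000000000000000000000000000000000200000030000000800000000010500000a00000000000000000000000000000000000000000000000000000000b004000000000000000000000900000000000000000000000000000000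
noncomputable def c1cc4Q (u : ℕ) : ℕ := Nat.land (Nat.shiftRight c1cc4Qd (Nat.mul u (nat_lit 4))) (nat_lit 15)
noncomputable def c1cc4 : Lev := ⟨12, 4, c1cc4D, c1cc4P, c1cc4Q⟩
noncomputable def c1tn3Fd : ℕ := nat_lit 0
noncomputable def c1tn3F (u : ℕ) : ℕ := Nat.land (Nat.shiftRight c1tn3Fd (Nat.mul u (nat_lit 1))) (nat_lit 1)
noncomputable def c1tn3 : Nd := ⟨c1tn3F, (nat_lit 4), (nat_lit 4), [], [((nat_lit 0), [])], []⟩
noncomputable def c1cc2Dd : ℕ := nat_lit 0x940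
noncomputable def c1cc2D (u : ℕ) : ℕ := Nat.land (Nat.shiftRight c1cc2Dd (Nat.mul u (nat_lit 4))) (nat_lit 15)
noncomputable def c1cc2Pd : ℕ := nat_lit 0xc6f416
noncomputable def c1cc2P (u : ℕ) : ℕ := Nat.land (Nat.shiftRight c1cc2Pd (Nat.mul u (nat_lit 8))) (nat_lit 255)
noncomputable def c1cc2Qd : ℕ := nat_lit 0x100000000000000000000002000000000000000000000000000000000000000000000000000000000000000000000000000000000000000000000000000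
noncomputable def c1cc2Q (u : ℕ) : ℕ := Nat.land (Nat.shiftRight c1cc2Qd (Nat.mul u (nat_lit 2))) (nat_lit 3)
noncomputable def c1cc2 : Lev := ⟨3, 5, c1cc2D, c1cc2P, c1cc2Q⟩
noncomputable def c1tn4y60_W : List (List ℕ) := [[nat_lit 1, nat_lit 3, nat_lit 1, nat_lit 0, nat_lit 4, nat_lit 3, nat_lit 0, nat_lit 2, nat_lit 4, nat_lit 5, nat_lit 3, nat_lit 0, nat_lit 1, nat_lit 5, nat_lit 3, nat_lit 5, nat_lit 6, nat_lit 5, nat_lit 3, nat_lit 1, nat_lit 0, nat_lit 3, nat_lit 5, nat_lit 2]]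
noncomputable def c1tn4y60_P : ℕ → ℕ → ℕ := wdsP H16.O73.P c1tn4y60_W
noncomputable def c1tr5k_W : List (List ℕ) := [[nat_lit 6, nat_lit 0, nat_lit 3, nat_lit 1, nat_lit 3, nat_lit 0, nat_lit 4, nat_lit 3, nat_lit 0, nat_lit 2, nat_lit 4, nat_lit 3, nat_lit 2, nat_lit 5, nat_lit 3, nat_lit 0, nat_lit 1, nat_lit 5, nat_lit 3, nat_lit 6, nat_lit 2],
  [nat_lit 6, nat_lit 0, nat_lit 2, nat_lit 0, nat_lit 3, nat_lit 1, nat_lit 3, nat_lit 0, nat_lit 4, nat_lit 3, nat_lit 2, nat_lit 3, nat_lit 5, nat_lit 3, nat_lit 1, nat_lit 6, nat_lit 1],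
  [nat_lit 0, nat_lit 1, nat_lit 3, nat_lit 0, nat_lit 2, nat_lit 4, nat_lit 3, nat_lit 4, nat_lit 3, nat_lit 5, nat_lit 3, nat_lit 6, nat_lit 5, nat_lit 3, nat_lit 1, nat_lit 3, nat_lit 0, nat_lit 4, nat_lit 6]]
noncomputable def c1tr5k_P : ℕ → ℕ → ℕ := wdsP H16.O73.P c1tr5k_W
noncomputable def c1tn5y140_W : List (List ℕ) := [[nat_lit 4, nat_lit 5, nat_lit 6, nat_lit 3, nat_lit 1, nat_lit 0, nat_lit 3, nat_lit 4, nat_lit 3, nat_lit 0, nat_lit 2, nat_lit 4, nat_lit 3, nat_lit 5, nat_lit 3, nat_lit 0, nat_lit 4, nat_lit 3, nat_lit 2, nat_lit 6, nat_lit 4, nat_lit 5, nat_lit 2]]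
noncomputable def c1tn5y140_P : ℕ → ℕ → ℕ := wdsP H16.O73.P c1tn5y140_W
noncomputable def c1tr6k_W : List (List ℕ) := [[nat_lit 6, nat_lit 5, nat_lit 1, nat_lit 3, nat_lit 4, nat_lit 3, nat_lit 2, nat_lit 3, nat_lit 0, nat_lit 5, nat_lit 3, nat_lit 2, nat_lit 4, nat_lit 5, nat_lit 3, nat_lit 0, nat_lit 6],
  [nat_lit 1, nat_lit 3, nat_lit 0, nat_lit 1, nat_lit 6, nat_lit 5, nat_lit 3, nat_lit 1, nat_lit 0, nat_lit 5, nat_lit 6, nat_lit 3, nat_lit 2],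
  [nat_lit 6, nat_lit 0, nat_lit 2, nat_lit 2, nat_lit 2, nat_lit 3, nat_lit 1, nat_lit 1, nat_lit 4, nat_lit 3, nat_lit 0, nat_lit 2, nat_lit 5, nat_lit 3, nat_lit 5, nat_lit 3, nat_lit 5, nat_lit 6, nat_lit 2, nat_lit 3],
  [nat_lit 1, nat_lit 0, nat_lit 3, nat_lit 2, nat_lit 3, nat_lit 5, nat_lit 6, nat_lit 5, nat_lit 3, nat_lit 1, nat_lit 3, nat_lit 0, nat_lit 2]]
noncomputable def c1tr6k_P : ℕ → ℕ → ℕ := wdsP H16.O73.P c1tr6k_W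
noncomputable def c1tn6Fd : ℕ := nat_lit 0xad8b8a561
noncomputable def c1tn6F (u : ℕ) : ℕ := Nat.land (Nat.shiftRight c1tn6Fd (Nat.mul u (nat_lit 4))) (nat_lit 15)
noncomputable def c1tn6 : Nd := ⟨c1tn6F, (nat_lit 4), (nat_lit 4), [], [((nat_lit 0), []), ((nat_lit 1), [nat_lit 0])], []⟩
noncomputable def c1tn5Fd : ℕ := nat_lit 0x376785844811
noncomputable def c1tn5F (u : ℕ) : ℕ := Nat.land (Nat.shiftRight c1tn5Fd (Nat.mul u (nat_lit 4))) (nat_lit 15)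
noncomputable def c1tn5 : Nd := ⟨c1tn5F, (nat_lit 3), (nat_lit 3), [], [((nat_lit 0), []), ((nat_lit 1), [nat_lit 0])], [((nat_lit 140), c1tn5y140_W)]⟩
noncomputable def c1tn4y147_W : List (List ℕ) := [[nat_lit 3, nat_lit 4, nat_lit 3, nat_lit 0, nat_lit 2, nat_lit 4, nat_lit 3, nat_lit 5, nat_lit 3, nat_lit 1, nat_lit 4, nat_lit 5, nat_lit 3, nat_lit 1, nat_lit 6, nat_lit 4, nat_lit 3, nat_lit 1, nat_lit 0, nat_lit 3, nat_lit 4]]
noncomputable def c1tn4y147_P : ℕ → ℕ → ℕ := wdsP H16.O73.P c1tn4y147_W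
noncomputable def c1tr7k_W : List (List ℕ) := [[nat_lit 2, nat_lit 3, nat_lit 1, nat_lit 4, nat_lit 3, nat_lit 4, nat_lit 3, nat_lit 5, nat_lit 3, nat_lit 6, nat_lit 5, nat_lit 3, nat_lit 0, nat_lit 2, nat_lit 3, nat_lit 4, nat_lit 6],
  [nat_lit 6, nat_lit 2, nat_lit 3, nat_lit 0, nat_lit 4, nat_lit 3, nat_lit 1, nat_lit 0, nat_lit 4, nat_lit 5, nat_lit 3, nat_lit 6],
  [nat_lit 0, nat_lit 2, nat_lit 2, nat_lit 2, nat_lit 3, nat_lit 2, nat_lit 4, nat_lit 5, nat_lit 3, nat_lit 1, nat_lit 1, nat_lit 4, nat_lit 6, nat_lit 5, nat_lit 3, nat_lit 1]]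
noncomputable def c1tr7k_P : ℕ → ℕ → ℕ := wdsP H16.O73.P c1tr7k_W
noncomputable def c1tn7y147_W : List (List ℕ) := [[nat_lit 4, nat_lit 2, nat_lit 0, nat_lit 3, nat_lit 2, nat_lit 2, nat_lit 4, nat_lit 3, nat_lit 1, nat_lit 5, nat_lit 3, nat_lit 1, nat_lit 0, nat_lit 2, nat_lit 6, nat_lit 5, nat_lit 3, nat_lit 1, nat_lit 0, nat_lit 3, nat_lit 4]]
noncomputable def c1tn7y147_P : ℕ → ℕ → ℕ := wdsP H16.O73.P c1tn7y147_W
noncomputable def c1tr8k_W : List (List ℕ) := [[nat_lit 1, nat_lit 3, nat_lit 4, nat_lit 5, nat_lit 3, nat_lit 2, nat_lit 4, nat_lit 5, nat_lit 6, nat_lit 5, nat_lit 3, nat_lit 1, nat_lit 0, nat_lit 5, nat_lit 3, nat_lit 2, nat_lit 6],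
  [nat_lit 5, nat_lit 0, nat_lit 2, nat_lit 2, nat_lit 4, nat_lit 3, nat_lit 2, nat_lit 4, nat_lit 5, nat_lit 3, nat_lit 0, nat_lit 5, nat_lit 6, nat_lit 4, nat_lit 3, nat_lit 2, nat_lit 3, nat_lit 4, nat_lit 5],
  [nat_lit 1, nat_lit 0, nat_lit 3, nat_lit 2, nat_lit 3, nat_lit 5, nat_lit 6, nat_lit 5, nat_lit 3, nat_lit 1, nat_lit 3, nat_lit 0, nat_lit 2],
  [nat_lit 6, nat_lit 2, nat_lit 2, nat_lit 2, nat_lit 3, nat_lit 0, nat_lit 4, nat_lit 3, nat_lit 0, nat_lit 2, nat_lit 3, nat_lit 2, nat_lit 4, nat_lit 3, nat_lit 4, nat_lit 5, nat_lit 3, nat_lit 2, nat_lit 2, nat_lit 3, nat_lit 5, nat_lit 6]]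
noncomputable def c1tr8k_P : ℕ → ℕ → ℕ := wdsP H16.O73.P c1tr8k_W
noncomputable def c1tn8Fd : ℕ := nat_lit 0x88795ab41
noncomputable def c1tn8F (u : ℕ) : ℕ := Nat.land (Nat.shiftRight c1tn8Fd (Nat.mul u (nat_lit 4))) (nat_lit 15)
noncomputable def c1tn8 : Nd := ⟨c1tn8F, (nat_lit 4), (nat_lit 4), [], [((nat_lit 0), []), ((nat_lit 1), [nat_lit 0])], []⟩
noncomputable def c1tn7Fd : ℕ := nat_lit 0x684a75771431
noncomputable def c1tn7F (u : ℕ) : ℕ := Nat.land (Nat.shiftRight c1tn7Fd (Nat.mul u (nat_lit 4))) (nat_lit 15)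
noncomputable def c1tn7 : Nd := ⟨c1tn7F, (nat_lit 3), (nat_lit 3), [[nat_lit 0]], [((nat_lit 0), [])], [((nat_lit 147), c1tn7y147_W)]⟩
noncomputable def c1tn4Fd : ℕ := nat_lit 0x129350d6bd8cbad326bd80845493b40d7b1457b188314c16ce0709420
noncomputable def c1tn4F (u : ℕ) : ℕ := Nat.land (Nat.shiftRight c1tn4Fd (Nat.mul u (nat_lit 5))) (nat_lit 31)
noncomputable def c1tn4 : Nd := ⟨c1tn4F, (nat_lit 5), (nat_lit 5), [[nat_lit 0]], [((nat_lit 0), []), ((nat_lit 0), [nat_lit 0])], [((nat_lit 60), c1tn4y60_W), ((nat_lit 147), c1tn4y147_W)]⟩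
noncomputable def c1cc0Dd : ℕ := nat_lit 0x6fec1feaa47a9dacc343535fcb86d32580a94724cf681399e4d4c83c140cc3e5231c9a442c114ba551e13cdc461992cda34360e4c82c250ac22211789c1c1f0c03c201506870280b098481208028180e00
noncomputable def c1cc0D (u : ℕ) : ℕ := Nat.land (Nat.shiftRight c1cc0Dd (Nat.mul u (nat_lit 9))) (nat_lit 511)
noncomputable def c1cc0Pd : ℕ := nat_lit 0x57276b2a19d989090d393086cc63c2b441537f1f04eb7740e6bd3c3d22d808320c559ede2e0593d0202b9d1b418a3e1a0938f1cd0e8c24169daf49ed31e4ee534802f304d38d986f134d672ec618647801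
noncomputable def c1cc0P (u : ℕ) : ℕ := Nat.land (Nat.shiftRight c1cc0Pd (Nat.mul u (nat_lit 9))) (nat_lit 511)
noncomputable def c1cc0Qd : ℕ := nat_lit 0xc4000000228000000007000000000001200000000000000000100000009b086002800000300000000c000000000000000000000000000e006c0000000000000151f0000000000200000000000000000009000000dc000000001e000001400440000040a8400000334400000140000000a000000000000000000000001d5200009000000000f000006f802d0000000000000068000000000000011dd000000000003c00000022000096300002c0000000000380000000010985c0000032000415800000000003600bc03b000000034fc0001000000000000000000000108000000002700580000000000000000000000000000017000000000015800000001000190000f40000000000000000000000006a1c0000000039000000000001001a9800000000000000000000000000011800000000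
noncomputable def c1cc0Q (u : ℕ) : ℕ := Nat.land (Nat.shiftRight c1cc0Qd (Nat.mul u (nat_lit 7))) (nat_lit 127)
noncomputable def c1cc0 : Lev := ⟨72, 9, c1cc0D, c1cc0P, c1cc0Q⟩
noncomputable def c1tn9Fd : ℕ := nat_lit 0x2a59f96685f01e89b75cb9675c8228624df90078075d51b99364e74001f01b9224c000000002099ca8001e0277aaae670001b8ac6e458001485988001861c00002150074001e69c00e7dd01e7db7c06d35249118e069a7148a276571e8c002a65886185c7666d88e578001b59955f49b3db81d9957e000d02389e6e086475c00075c8e390000c653000854aa855685798c5a37a275a01c7269a589701902172401f000880758a5881891795b70b95a75695d5e200f0005215985dd7008e801e55d0209998520224ab992900a2389b5c07c00228dd9409207dd00001f8d241b49f76ca0002901d8404d59218d57212a949e71c7002d378051769285b9988654607dda8071b05d040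
noncomputable def c1tn9F (u : ℕ) : ℕ := Nat.land (Nat.shiftRight c1tn9Fd (Nat.mul u (nat_lit 6))) (nat_lit 63)
noncomputable def c1tn9 : Nd := ⟨c1tn9F, (nat_lit 9), (nat_lit 9), [[nat_lit 0]], [((nat_lit 0), []), ((nat_lit 0), [nat_lit 0])], []⟩
noncomputable def c2x_W : List (List ℕ) := [[nat_lit 2, nat_lit 2, nat_lit 2, nat_lit 3, nat_lit 1, nat_lit 4, nat_lit 3, nat_lit 2, nat_lit 3, nat_lit 0, nat_lit 5, nat_lit 3, nat_lit 2, nat_lit 2, nat_lit 6, nat_lit 4, nat_lit 3, nat_lit 1, nat_lit 3, nat_lit 0, nat_lit 6, nat_lit 5, nat_lit 6]]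
noncomputable def c2x_P : ℕ → ℕ → ℕ := wdsP H16.O73.P c2x_W
noncomputable def c2th_W : List (List ℕ) := [[nat_lit 5, nat_lit 0, nat_lit 2, nat_lit 2, nat_lit 3, nat_lit 0, nat_lit 1, nat_lit 3, nat_lit 5, nat_lit 3, nat_lit 2, nat_lit 2, nat_lit 2, nat_lit 3],
  [nat_lit 1, nat_lit 1, nat_lit 4, nat_lit 3, nat_lit 2, nat_lit 2, nat_lit 4],
  [nat_lit 1, nat_lit 0, nat_lit 3, nat_lit 0, nat_lit 4, nat_lit 3, nat_lit 1, nat_lit 0, nat_lit 3, nat_lit 5, nat_lit 3, nat_lit 2, nat_lit 3, nat_lit 0],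
  [nat_lit 5, nat_lit 0, nat_lit 2, nat_lit 3, nat_lit 1, nat_lit 3, nat_lit 0, nat_lit 4, nat_lit 3, nat_lit 1, nat_lit 3, nat_lit 0, nat_lit 4, nat_lit 3, nat_lit 1, nat_lit 5, nat_lit 3, nat_lit 2],
  [nat_lit 0, nat_lit 2, nat_lit 2, nat_lit 0, nat_lit 4, nat_lit 3, nat_lit 0, nat_lit 1, nat_lit 3, nat_lit 4],
  [nat_lit 1, nat_lit 3, nat_lit 2, nat_lit 5, nat_lit 3, nat_lit 1, nat_lit 0, nat_lit 2, nat_lit 3, nat_lit 5],
  [nat_lit 1, nat_lit 3, nat_lit 1, nat_lit 1, nat_lit 4, nat_lit 3, nat_lit 2, nat_lit 2, nat_lit 2, nat_lit 4],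
  [nat_lit 4, nat_lit 2, nat_lit 2, nat_lit 3, nat_lit 0, nat_lit 1, nat_lit 4, nat_lit 3, nat_lit 1, nat_lit 4, nat_lit 3, nat_lit 5, nat_lit 3, nat_lit 0],
  [nat_lit 5, nat_lit 2, nat_lit 2, nat_lit 4, nat_lit 3, nat_lit 1, nat_lit 0, nat_lit 3, nat_lit 0, nat_lit 4, nat_lit 5, nat_lit 3, nat_lit 0, nat_lit 1],
  [nat_lit 0],
  [nat_lit 1],
  [nat_lit 2],
  [nat_lit 3],
  [nat_lit 4],
  [nat_lit 5],
  [nat_lit 0, nat_lit 1, nat_lit 0, nat_lit 3, nat_lit 1, nat_lit 3, nat_lit 4, nat_lit 5, nat_lit 3, nat_lit 5, nat_lit 3, nat_lit 0],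
  [nat_lit 6],
  [nat_lit 0, nat_lit 4, nat_lit 3, nat_lit 0, nat_lit 1, nat_lit 4, nat_lit 3, nat_lit 5, nat_lit 3, nat_lit 1, nat_lit 1, nat_lit 5, nat_lit 3, nat_lit 6, nat_lit 4, nat_lit 3, nat_lit 1, nat_lit 5, nat_lit 6]]
noncomputable def c2th_P : ℕ → ℕ → ℕ := wdsP H16.O73.P c2th_W
noncomputable def c2tl0Dd : ℕ := nat_lit 0x3a99d295226f8d31e7971c3917420234ef086c820613980b35753c65c851555de19a0142ca458d3d31dc2ac040da025d7ae3f2ad3af1c7cd5526e349d1b48b66aa21290705ed2af2f44ee4a864e99380dc4ba44988e616709d22ae137cd346880edae8d66ea8426f26d4ba839617b2a0d3a0460492a088b601812ab285d1f038a4108e6c2986f02fb21e89b0820380981c9442e83391598e9029a144083020881f22410d85aa1d606d97d0aca5e22a09048cce10337f9a0853e24636d939c8d461f1dc09a4c084461b8075038456323495f4a7e1da0e416f0ab2586246158859c1c726d8518ac246f0ec06002dc0a904091744e84f518a09883681912330cdc59815c08801bc1fc3fb1c80df86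4a22c1ef8cd86022840fb05f82b614a0e90fe87ac3c41b58cd45061ae08703681f833d08a01cc0c43e70810cd06322060ce05205c62d115f844c20224c0f986b016c04514d873c2240ef0800a9050024b0cd09044721ce0bb05501dc0dd02588543e21aa0cc879c2ea16404000cc4b62260ea84784282020f806ec33010c011873036219f0a902e40dc12e02787bc35019705c01f823802708505c82c213e09603e00e4109016053c0b411a07b81c40c010809984842780d4038017c20e14d09483901a60c205004181a40c105780e01b20f3060027809008c03502fc15a03604581e804c0cf05f02280f206801d82ac0f006701200a8134077014826410e0760108118050075032018c08801502a0108064019018804406002f01700b402801200c005c02c02000f804c020000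
noncomputable def c2tl0D (u : ℕ) : ℕ := Nat.land (Nat.shiftRight c2tl0Dd (Nat.mul u (nat_lit 13))) (nat_lit 8191)
noncomputable def c2tl0Pd : ℕ := nat_lit 0x351aaf03d3e4e0bfad9b8f24d9b47c969199b2cf8421a0d4f0a584b5a84333b4462ac0345710a7745d65d8c26caf482be1b5111a3a73b618a931027e533793d0530cf0fb4de6dd7e9b432211cb49348f1f2392d175341eaac92611104fb8d8a028e86bad510de774a03038a4d75986f183227d18a320dc94e9ea49fe52279f4e2e05e32abc3178cc6962f913987f40984baa6439fc39f05a55c803a519c2ce6a75360f203160ab693d3a123d4f6e1abb8838e576b190856539d06e4a8d2e02d0a512a98f0c95ac4d68039d3272f79784ddf1931d0d0ea99e47168fa890b464122fc8502a84bae69e57681f99c6774c0dbf0880412912a83032acf2a296518f6349764c1075550cc174c91d58fc0f286275132abc7a7f059795d0251a81e8901289c8c729dc8c1ca49222616e3ac0269a45452c047342845056b71654a3c08828a876554ed416c118ea1880ad2a189b8946214da2cd4abae1a5806899fcc30556a202e9692536bb9606d650f27019b6644e3040b4a03810c3470d4c8c00f2d88a4a482e2e8d403010a40200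
noncomputable def c2tl0P (u : ℕ) : ℕ := Nat.land (Nat.shiftRight c2tl0Pd (Nat.mul u (nat_lit 9))) (nat_lit 511)
noncomputable def c2tl0Qd : ℕ := nat_lit 0x3a5fd3eab89a745361a0622766e918d83e48bd0a2aa72851fe85083dcff32515164ce06dbe5e69f2db2152d39454da24ca7839ccdf53b78461f57a125302939e412572d38d2cd6a9114769e85add48f88a332824a36a6e84250e3685ab02aad28e888920c8686451919a87788a63e7086272b4d9541f18c6190a01cf5c52c0d7f39171dd170897b8980f52a30988ec44c1240350cb2a6f2e83d1abb5e91468628f9223460fda73aa20fa58afa5a33144e02d40ac4d26ceb1001924b6240f60c9d690755c4e3519470716bac940945dc4e905831accdc62953247e1710c64e72549c545e34963caa0608c45a627d9d93cad05508ea7abd7b4352aac34239dd4d62d6eab499e50da0ba55971db597e55a3ccf56814f73f461d4d618518d8220d4b998f40705b60fc2c482f08037193c1a84b7786ea90fa8ae0440839174a10e6e5326a3970c5cd2ce20cc237005ccce954ba2265d0fb72091344724908050a2f0a8bec72682a392b919bdaac10f03e3b013a2d597095326078780616456823389ca444098682a120200c0200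
noncomputable def c2tl0Q (u : ℕ) : ℕ := Nat.land (Nat.shiftRight c2tl0Qd (Nat.mul u (nat_lit 9))) (nat_lit 511)
noncomputable def c2tl0 : Lev := ⟨351, 18, c2tl0D, c2tl0P, c2tl0Q⟩
noncomputable def c2tl1Dd : ℕ := nat_lit 0x9ba84b81b67e3e53c58996dc3f43a578a58e32518779978965150e2f50c36c96b961159c1d21270d854b1c258157121654a1e044c37e0a835e1e544151944a31e30e08732d4993e13c12dd1223aa33b2fc2cc2bc28d27d34a2cb25d2bb29c1fe1841551060f00b206f2b13492ca25c23d0d00c00a22ba29b27b22d21d20d1ee1442811342f926125b08228a1fc0b004f2410a02791cd0d40c409003f0b505324922a21a1eb1cc1bc1ad18e17e0950432390582291ea1da07518d0940481ca0841ab17c16d11e0471aa19a15c0ee0de0ce0130fd02811c0ed0dd15113b0be1890ec0cc13a1210bd09e0170ad07e0fa0e109d0ea0ac08d07d0f90bb09c0420e90a10500320560b909a08107104002205501205404503607902003501003402501600f02401501405e06c04e05c04d06a03d02e05104b02d01e04104a02c01d02103901102901a00e00d00c00b00a009000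
noncomputable def c2tl1D (u : ℕ) : ℕ := Nat.land (Nat.shiftRight c2tl1Dd (Nat.mul u (nat_lit 12))) (nat_lit 4095)
noncomputable def c2tl1Pd : ℕ := nat_lit 0x16491f4a8789952a5a4543e1067754ac9ea47e2aca2a04bb25cb2284b5d8c321c9d1767b1794174e07d95c3cd022c0c20612ac682ab2a41adbd49234a918a12a370e218638a2b40591c290c123200c9c3c43c1cdaf6815296f472b0c5050c582b99c48449fe86d15c811d60b90c50c0165653946fe310de7ecd97094b8b1712cd6af28bc5822af29d5662b44a0ec1c01a620152a79f472962d8253c4e1392868e5059654ea8241c564130e2c82057104d98e4d06055467a2e0dd58442a97d48467e0e5600e296d96d863d2ed1a5aaa56a72335d641cdc2b6011628a262f436167d6fc04cd00a6ce4d25f8ecea261706bd01e6a24ae07eed5e3048090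
noncomputable def c2tl1P (u : ℕ) : ℕ := Nat.land (Nat.shiftRight c2tl1Pd (Nat.mul u (nat_lit 9))) (nat_lit 511)
noncomputable def c2tl1Qd : ℕ := nat_lit 0x240000a14a32003a664d4e363e00567a135f5992acaf902a1d0085000000755b3d00000e120000000000000065003773294fd2aa0000004153de9fc87f0000000f5a00b225006b6a007e0d000044d6481a8c199ec7d596405057b6931614007800cfbbdd00000094000a006cdb000000040081d300000000c900006f21bc17ad00a62f000000c6000000000084b8008974000000ca23a3c500002d00020000000003c1bd830691206d646eb0708b688a277bce285ddc5c0000d07900a8cc0000002643000000cb00d96300000000000000a900d78700979d0000008d005e86341800c0000000000000c22251a50000009500ae081100d415da9b4277b47d101b2b712ed8471eba8fb3a76700cdbed19900000000078800abb7000000000105002c986200c34b7600000000c48e00bf3c58df453830a2551c724c3539000000b900333b5200a40c7cb100549c69b509610b00803f49463100a0829a1f6000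
noncomputable def c2tl1Q (u : ℕ) : ℕ := Nat.land (Nat.shiftRight c2tl1Qd (Nat.mul u (nat_lit 8))) (nat_lit 255)
noncomputable def c2tl1 : Lev := ⟨224, 16, c2tl1D, c2tl1P, c2tl1Q⟩
noncomputable def c2tl2Dd : ℕ := nat_lit 0x16097ac9bd2a5d23a1e6f330c0d235381a0682c339207e6d120c854642d86ca420200b8181a0c84420120c0241e16068200e00
noncomputable def c2tl2D (u : ℕ) : ℕ := Nat.land (Nat.shiftRight c2tl2Dd (Nat.mul u (nat_lit 9))) (nat_lit 511)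
noncomputable def c2tl2Pd : ℕ := nat_lit 0x11199c488f3565a20dc413c0d1b09226505c8937eba4968e40c551b3866298a4839d8d6648b8f36534bd7fcf184ef42570de33
noncomputable def c2tl2P (u : ℕ) : ℕ := Nat.land (Nat.shiftRight c2tl2Pd (Nat.mul u (nat_lit 9))) (nat_lit 511)
noncomputable def c2tl2Qd : ℕ := nat_lit 0x20000000000000000000000000000000000000007800000063c0014000a00acd00000000000000000000000000000b00000000000058002ab000000000000000000000000001c06c000000000000000000010000000068000001d0000000000000002a10000000000000000139c00000000000050000002000000000000000000000000000000000120000000000000000090000000007200000185403000260000034005c000000000002300000000000006500000000000000000000000000000000000000001100000001f640000a400000009000000000000000003a2000000000000000000000000000000000000000000000000000000000000000000000000000000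
noncomputable def c2tl2Q (u : ℕ) : ℕ := Nat.land (Nat.shiftRight c2tl2Qd (Nat.mul u (nat_lit 6))) (nat_lit 63)
noncomputable def c2tl2 : Lev := ⟨45, 9, c2tl2D, c2tl2P, c2tl2Q⟩
noncomputable def c2tl3Dd : ℕ := nat_lit 0x29cc68d57226485011263490f1018280
noncomputable def c2tl3D (u : ℕ) : ℕ := Nat.land (Nat.shiftRight c2tl3Dd (Nat.mul u (nat_lit 7))) (nat_lit 127)
noncomputable def c2tl3Pd : ℕ := nat_lit 0x22533a0ce0dc887eb61171e3c4d51c4c659062247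
noncomputable def c2tl3P (u : ℕ) : ℕ := Nat.land (Nat.shiftRight c2tl3Pd (Nat.mul u (nat_lit 9))) (nat_lit 511)
noncomputable def c2tl3Qd : ℕ := nat_lit 0x1e0000000000e000c0800000000000000000000000002000000000000004420000000000000000000000016000000000000000000000000000000000000000000000a000000000000000180000000000000000000000000000000000000000000000000000000000000000000000000014004800c00000000000000000007000000000003400000000000000000000000000000000000000000400000000000004000000000000000000000000000000000000000000000000000000000000000000000000000000000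
noncomputable def c2tl3Q (u : ℕ) : ℕ := Nat.land (Nat.shiftRight c2tl3Qd (Nat.mul u (nat_lit 5))) (nat_lit 31)
noncomputable def c2tl3 : Lev := ⟨18, 7, c2tl3D, c2tl3P, c2tl3Q⟩
noncomputable def c2tl4Dd : ℕ := nat_lit 0x840
noncomputable def c2tl4D (u : ℕ) : ℕ := Nat.land (Nat.shiftRight c2tl4Dd (Nat.mul u (nat_lit 4))) (nat_lit 15)
noncomputable def c2tl4Pd : ℕ := nat_lit 0x2222533
noncomputable def c2tl4P (u : ℕ) : ℕ := Nat.land (Nat.shiftRight c2tl4Pd (Nat.mul u (nat_lit 9))) (nat_lit 511)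
noncomputable def c2tl4Qd : ℕ := nat_lit 0x100000000000000000000000000000000000000000000000000000000000000000000200000000000000000000000000000000000000000000000000000000000000000000
noncomputable def c2tl4Q (u : ℕ) : ℕ := Nat.land (Nat.shiftRight c2tl4Qd (Nat.mul u (nat_lit 2))) (nat_lit 3)
noncomputable def c2tl4 : Lev := ⟨3, 5, c2tl4D, c2tl4P, c2tl4Q⟩
noncomputable def c2tl5Dd : ℕ := nat_lit 0xc
noncomputable def c2tl5D (u : ℕ) : ℕ := Nat.land (Nat.shiftRight c2tl5Dd (Nat.mul u (nat_lit 2))) (nat_lit 3)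
noncomputable def c2tl5Pd : ℕ := nat_lit 0x22488
noncomputable def c2tl5P (u : ℕ) : ℕ := Nat.land (Nat.shiftRight c2tl5Pd (Nat.mul u (nat_lit 9))) (nat_lit 511)
noncomputable def c2tl5Qd : ℕ := nat_lit 0x400000000000000000000000000000000000000000000000000000000000000000000
noncomputable def c2tl5Q (u : ℕ) : ℕ := Nat.land (Nat.shiftRight c2tl5Qd (Nat.mul u (nat_lit 1))) (nat_lit 1)
noncomputable def c2tl5 : Lev := ⟨2, 4, c2tl5D, c2tl5P, c2tl5Q⟩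
noncomputable def c2tl6Dd : ℕ := nat_lit 8
noncomputable def c2tl6D (u : ℕ) : ℕ := Nat.land (Nat.shiftRight c2tl6Dd (Nat.mul u (nat_lit 2))) (nat_lit 3)
noncomputable def c2tl6Pd : ℕ := nat_lit 0xe492
noncomputable def c2tl6P (u : ℕ) : ℕ := Nat.land (Nat.shiftRight c2tl6Pd (Nat.mul u (nat_lit 8))) (nat_lit 255)
noncomputable def c2tl6Qd : ℕ := nat_lit 0x1000000000000000000000000000000000000000000000000000000000
noncomputable def c2tl6Q (u : ℕ) : ℕ := Nat.land (Nat.shiftRight c2tl6Qd (Nat.mul u (nat_lit 1))) (nat_lit 1)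
noncomputable def c2tl6 : Lev := ⟨2, 3, c2tl6D, c2tl6P, c2tl6Q⟩
noncomputable def c2tl7Dd : ℕ := nat_lit 2
noncomputable def c2tl7D (u : ℕ) : ℕ := Nat.land (Nat.shiftRight c2tl7Dd (Nat.mul u (nat_lit 1))) (nat_lit 1)
noncomputable def c2tl7Pd : ℕ := nat_lit 0x222cb
noncomputable def c2tl7P (u : ℕ) : ℕ := Nat.land (Nat.shiftRight c2tl7Pd (Nat.mul u (nat_lit 9))) (nat_lit 511)
noncomputable def c2tl7Qd : ℕ := nat_lit 0x200000000000000000000000000000000000000000000000000000000000000000000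
noncomputable def c2tl7Q (u : ℕ) : ℕ := Nat.land (Nat.shiftRight c2tl7Qd (Nat.mul u (nat_lit 1))) (nat_lit 1)
noncomputable def c2tl7 : Lev := ⟨2, 2, c2tl7D, c2tl7P, c2tl7Q⟩
noncomputable def c2tl8Dd : ℕ := nat_lit 4
noncomputable def c2tl8D (u : ℕ) : ℕ := Nat.land (Nat.shiftRight c2tl8Dd (Nat.mul u (nat_lit 1))) (nat_lit 1)
noncomputable def c2tl8Pd : ℕ := nat_lit 0x1ca401
noncomputable def c2tl8P (u : ℕ) : ℕ := Nat.land (Nat.shiftRight c2tl8Pd (Nat.mul u (nat_lit 7))) (nat_lit 127)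
noncomputable def c2tl8Qd : ℕ := nat_lit 0x2000000000000000000001000000000000000000000000000000000000
noncomputable def c2tl8Q (u : ℕ) : ℕ := Nat.land (Nat.shiftRight c2tl8Qd (Nat.mul u (nat_lit 2))) (nat_lit 3)
noncomputable def c2tl8 : Lev := ⟨3, 1, c2tl8D, c2tl8P, c2tl8Q⟩
noncomputable def c2ce_W : List (List ℕ) := [[nat_lit 3, nat_lit 5, nat_lit 1, nat_lit 3, nat_lit 0, nat_lit 1, nat_lit 1, nat_lit 3, nat_lit 5, nat_lit 3],
  [nat_lit 2, nat_lit 0, nat_lit 1, nat_lit 3, nat_lit 0, nat_lit 4, nat_lit 3, nat_lit 1, nat_lit 0, nat_lit 3, nat_lit 0, nat_lit 4, nat_lit 3, nat_lit 1, nat_lit 5, nat_lit 3, nat_lit 1, nat_lit 4, nat_lit 5],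
  [nat_lit 0, nat_lit 1, nat_lit 1, nat_lit 0, nat_lit 3, nat_lit 1, nat_lit 4, nat_lit 3, nat_lit 1, nat_lit 0, nat_lit 3, nat_lit 5, nat_lit 3, nat_lit 1, nat_lit 4],
  [nat_lit 3, nat_lit 2, nat_lit 4, nat_lit 3, nat_lit 1, nat_lit 1, nat_lit 5, nat_lit 3, nat_lit 1, nat_lit 4, nat_lit 5, nat_lit 3],
  [nat_lit 2, nat_lit 2, nat_lit 3, nat_lit 2, nat_lit 2, nat_lit 4, nat_lit 3, nat_lit 0, nat_lit 5, nat_lit 3, nat_lit 0, nat_lit 2, nat_lit 4, nat_lit 5, nat_lit 3, nat_lit 6, nat_lit 4, nat_lit 3, nat_lit 1, nat_lit 3],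
  [nat_lit 0, nat_lit 1, nat_lit 1, nat_lit 3, nat_lit 0, nat_lit 1, nat_lit 1, nat_lit 4, nat_lit 3, nat_lit 1, nat_lit 3, nat_lit 5, nat_lit 3, nat_lit 1, nat_lit 0, nat_lit 4, nat_lit 6, nat_lit 5, nat_lit 3, nat_lit 1, nat_lit 3]]
noncomputable def c2ce_P : ℕ → ℕ → ℕ := wdsP H16.O73.P c2ce_W
noncomputable def c2cc8Dd : ℕ := nat_lit 4
noncomputable def c2cc8D (u : ℕ) : ℕ := Nat.land (Nat.shiftRight c2cc8Dd (Nat.mul u (nat_lit 1))) (nat_lit 1)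
noncomputable def c2cc8Pd : ℕ := nat_lit 0x1ca401
noncomputable def c2cc8P (u : ℕ) : ℕ := Nat.land (Nat.shiftRight c2cc8Pd (Nat.mul u (nat_lit 7))) (nat_lit 127)
noncomputable def c2cc8Qd : ℕ := nat_lit 0x2000000000000000000001000000000000000000000000000000000000
noncomputable def c2cc8Q (u : ℕ) : ℕ := Nat.land (Nat.shiftRight c2cc8Qd (Nat.mul u (nat_lit 2))) (nat_lit 3)
noncomputable def c2cc8 : Lev := ⟨3, 1, c2cc8D, c2cc8P, c2cc8Q⟩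
noncomputable def c2tn0Fd : ℕ := nat_lit 0
noncomputable def c2tn0F (u : ℕ) : ℕ := Nat.land (Nat.shiftRight c2tn0Fd (Nat.mul u (nat_lit 1))) (nat_lit 1)
noncomputable def c2tn0 : Nd := ⟨c2tn0F, (nat_lit 2), (nat_lit 1), [], [((nat_lit 0), [])], []⟩
noncomputable def c2cc5Dd : ℕ := nat_lit 2
noncomputable def c2cc5D (u : ℕ) : ℕ := Nat.land (Nat.shiftRight c2cc5Dd (Nat.mul u (nat_lit 1))) (nat_lit 1)
noncomputable def c2cc5Pd : ℕ := nat_lit 0x22488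
noncomputable def c2cc5P (u : ℕ) : ℕ := Nat.land (Nat.shiftRight c2cc5Pd (Nat.mul u (nat_lit 9))) (nat_lit 511)
noncomputable def c2cc5Qd : ℕ := nat_lit 0x400000000000000000000000000000000000000000000000000000000000000000000
noncomputable def c2cc5Q (u : ℕ) : ℕ := Nat.land (Nat.shiftRight c2cc5Qd (Nat.mul u (nat_lit 1))) (nat_lit 1)
noncomputable def c2cc5 : Lev := ⟨2, 2, c2cc5D, c2cc5P, c2cc5Q⟩
noncomputable def c2tn1Fd : ℕ := nat_lit 0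
noncomputable def c2tn1F (u : ℕ) : ℕ := Nat.land (Nat.shiftRight c2tn1Fd (Nat.mul u (nat_lit 1))) (nat_lit 1)
noncomputable def c2tn1 : Nd := ⟨c2tn1F, (nat_lit 2), (nat_lit 2), [], [((nat_lit 0), [])], []⟩
noncomputable def c2cc2Dd : ℕ := nat_lit 0x15e9c7910dfbb6ecd7ab4a84a9f223480f0a285870808180
noncomputable def c2cc2D (u : ℕ) : ℕ := Nat.land (Nat.shiftRight c2cc2Dd (Nat.mul u (nat_lit 7))) (nat_lit 127)
noncomputable def c2cc2Pd : ℕ := nat_lit 0x4448ecb37239fa4c99ce1b0887f92eb9126cba46a525ea49023477b926433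
noncomputable def c2cc2P (u : ℕ) : ℕ := Nat.land (Nat.shiftRight c2cc2Pd (Nat.mul u (nat_lit 9))) (nat_lit 511)
noncomputable def c2cc2Qd : ℕ := nat_lit 0xd0000000000000000000000000000000000000000000120000098400000000000000000000000000000000000000334000000000000000000000782a0000000000000000180000014000002000000000000171000000000000000c00000000000000000e00000000000000000000000000000000000000000000000000001800058000001000000000a00000000000000000000005c00000000000000000000000000000000020000001470000c80000000000000000000012400000000000000000000000000000000000000000000000000000000000000000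
noncomputable def c2cc2Q (u : ℕ) : ℕ := Nat.land (Nat.shiftRight c2cc2Qd (Nat.mul u (nat_lit 5))) (nat_lit 31)
noncomputable def c2cc2 : Lev := ⟨27, 4, c2cc2D, c2cc2P, c2cc2Q⟩
noncomputable def c2tn2Fd : ℕ := nat_lit 0xb0000f700000341300000044c09240978011882a0012a028020
noncomputable def c2tn2F (u : ℕ) : ℕ := Nat.land (Nat.shiftRight c2tn2Fd (Nat.mul u (nat_lit 5))) (nat_lit 31)
noncomputable def c2tn2 : Nd := ⟨c2tn2F, (nat_lit 4), (nat_lit 4), [], [((nat_lit 0), []), ((nat_lit 0), [nat_lit 0])], []⟩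
noncomputable def c2cc0Dd : ℕ := nat_lit 0xb64f735e67ddd9d17dcf2fd732259ab5bea7622e25f0a50dba46fe474991083901c6107c3817d306a49391bc53559b48ecc2d9547680201e89e3a341887a8a2e1585e292818c5c57140f8a238159b03a3f2d15038481605866260c8b440131386828240d8443c150802c300a068480e0e0403c120c030140800
noncomputable def c2cc0D (u : ℕ) : ℕ := Nat.land (Nat.shiftRight c2cc0Dd (Nat.mul u (nat_lit 9))) (nat_lit 511)
noncomputable def c2cc0Pd : ℕ := nat_lit 0x5c02679153d3e4fecc762cd0484100d8f8c27c279dc1937a4c82fe6011134da41a413b35983a15920acb0dc68d1cab6bc773c0fa76165ad3274721bb810ef28f34d8aa6850041ccf314340b39243b5cea945c61bd022d0f0e6d0aec70baae131a628a1a9cf6a851a0afca01731b1918717a2dc9258138f4b800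
noncomputable def c2cc0P (u : ℕ) : ℕ := Nat.land (Nat.shiftRight c2cc0Pd (Nat.mul u (nat_lit 9))) (nat_lit 511)
noncomputable def c2cc0Qd : ℕ := nat_lit 0x104d80000238000000112600000000003a00000000000000000078000009697ae54000002600000004b000000000000000000000000004800cc01a000002200034150000000000150000bc000000000000800000150000000335b000000700d00000165363000004a4a000008a00036008400001400000000000640001c5800064000000000298808d700531c00000000006b0c01d80c4000000062149000120000c00000000a00016a68001440000000000ac0004e000220946000006a000609f84000ca0005d019c03f80000003ae0400ae000000000b00000000016ac0000000c81007c0040000000000080d000000000002a700000520002a8000f811e00021806f78000000000000000000000000065c000000005f00000000002c0018f0000000000000b4000000350000014800001700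
noncomputable def c2cc0Q (u : ℕ) : ℕ := Nat.land (Nat.shiftRight c2cc0Qd (Nat.mul u (nat_lit 7))) (nat_lit 127)
noncomputable def c2cc0 : Lev := ⟨108, 6, c2cc0D, c2cc0P, c2cc0Q⟩
noncomputable def c2tn3Fd : ℕ := nat_lit 0x1d7550006c061058f39e45a6db01b65d01879869a61c00061574000000041801601201301500001a5996c05805806d44df01f01800d01269b00e5d654001b7554806806c001b79664000075e5c088085801649371100069301869571c75865401a00c4180006c054060001778054f5400005576605cf89400000b5550145800004dc59c71c58f0000177216570160000007dc85d51b39671e4d185e01161c59d7594d449e6155c059401300071c48060029b00f8005183590003260006d80005c02400190246d56402005185524dc0003c055400d79b79401a85268e74084069c65735a6980005800004dc7931807534de5d83174994de00c6e07077996da4dd340014399501000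
noncomputable def c2tn3F (u : ℕ) : ℕ := Nat.land (Nat.shiftRight c2tn3Fd (Nat.mul u (nat_lit 6))) (nat_lit 63)
noncomputable def c2tn3 : Nd := ⟨c2tn3F, (nat_lit 6), (nat_lit 6), [], [((nat_lit 0), []), ((nat_lit 0), [nat_lit 0])], []⟩
noncomputable def c3x_W : List (List ℕ) := [[nat_lit 5, nat_lit 0, nat_lit 2, nat_lit 2, nat_lit 3, nat_lit 1, nat_lit 4, nat_lit 3, nat_lit 0, nat_lit 1, nat_lit 3, nat_lit 0, nat_lit 5, nat_lit 3, nat_lit 1, nat_lit 4, nat_lit 5, nat_lit 6, nat_lit 4, nat_lit 3, nat_lit 1, nat_lit 3, nat_lit 4, nat_lit 0]]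
noncomputable def c3x_P : ℕ → ℕ → ℕ := wdsP H16.O73.P c3x_W
noncomputable def c3th_W : List (List ℕ) := [[nat_lit 2, nat_lit 3, nat_lit 0, nat_lit 2, nat_lit 5, nat_lit 3, nat_lit 0, nat_lit 1, nat_lit 3, nat_lit 5, nat_lit 3, nat_lit 1],
  [nat_lit 1, nat_lit 0, nat_lit 4, nat_lit 3, nat_lit 0, nat_lit 2, nat_lit 4],
  [nat_lit 1, nat_lit 1, nat_lit 4, nat_lit 3, nat_lit 2, nat_lit 2, nat_lit 4],
  [nat_lit 2, nat_lit 0, nat_lit 1, nat_lit 3, nat_lit 0, nat_lit 4, nat_lit 3, nat_lit 1, nat_lit 0, nat_lit 3, nat_lit 0, nat_lit 4, nat_lit 3, nat_lit 1, nat_lit 5, nat_lit 3, nat_lit 1, nat_lit 4, nat_lit 5],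
  [nat_lit 0, nat_lit 1, nat_lit 0, nat_lit 3, nat_lit 2, nat_lit 2, nat_lit 5, nat_lit 3, nat_lit 0, nat_lit 2],
  [nat_lit 1, nat_lit 1, nat_lit 3, nat_lit 0, nat_lit 4, nat_lit 3, nat_lit 1, nat_lit 0, nat_lit 5, nat_lit 3, nat_lit 1, nat_lit 0],
  [nat_lit 1, nat_lit 0, nat_lit 5, nat_lit 0, nat_lit 1, nat_lit 3, nat_lit 2, nat_lit 3, nat_lit 4, nat_lit 3, nat_lit 0, nat_lit 1, nat_lit 3, nat_lit 5, nat_lit 3, nat_lit 5, nat_lit 1],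
  [nat_lit 4, nat_lit 3, nat_lit 0, nat_lit 2, nat_lit 3, nat_lit 0, nat_lit 4, nat_lit 3, nat_lit 0, nat_lit 1, nat_lit 3, nat_lit 5, nat_lit 3, nat_lit 4, nat_lit 5],
  [nat_lit 1, nat_lit 3, nat_lit 1, nat_lit 1, nat_lit 3, nat_lit 4, nat_lit 3, nat_lit 1, nat_lit 1, nat_lit 5, nat_lit 3, nat_lit 0, nat_lit 2, nat_lit 3, nat_lit 2],
  [nat_lit 0],
  [nat_lit 1],
  [nat_lit 2],
  [nat_lit 3],
  [nat_lit 4],
  [nat_lit 5],
  [nat_lit 0, nat_lit 1, nat_lit 0, nat_lit 2, nat_lit 3, nat_lit 1, nat_lit 1, nat_lit 4, nat_lit 3, nat_lit 2, nat_lit 4, nat_lit 5, nat_lit 3],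
  [nat_lit 6],
  [nat_lit 0, nat_lit 2, nat_lit 2, nat_lit 4, nat_lit 3, nat_lit 2, nat_lit 2, nat_lit 2, nat_lit 3, nat_lit 5, nat_lit 3, nat_lit 1, nat_lit 0, nat_lit 5, nat_lit 3, nat_lit 2, nat_lit 6, nat_lit 4, nat_lit 3, nat_lit 6, nat_lit 5]]
noncomputable def c3th_P : ℕ → ℕ → ℕ := wdsP H16.O73.P c3th_W
noncomputable def c3tl0Dd : ℕ := nat_lit 0x24f6971493a17b7c1e5cd3c8c73b51d3d29191bc1761a12cf7efbb923a718b61d2e613b8e755ef36e1ce8a6648026812d47bc5eda3211481a150e21b9964abc4ea2008fe0bfe4c61ee8cf0a1b5859e583da8fc3b0262cda05d62c70cbcaf81a555d28413c869a3ee2b2d3c690236715e82048ba44211293c49412a21b349f84d8263220c7e09e14079a14b384a243d2014fe67d93781168eda3721b002f0d085e32cd8914fb07a22c490007b832a110a10d01a7362f1123872868b1c11640ed65e128e1040c505d72e29adcbc049e20785fca4650926991e88ac35c0b69324a5848b179134894a4161bf8af04881491190c509143371550a6070c22e14308280e443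024490305e02741808d646581e607790746240dd2058e3855023e0c80df057221a1ac0cac36019e0b601cc5dc29513907d85fe35717209803c82ed15307000ba02317f0b442882da15b048021c0620b304001dc2420aa03704600fc07506200780d8120889c37a1ab08f09703c019906302d009e0270b200a83ac03e13686a82a42140d003a01440900c7020807a2370d485d025c11c0d8867c32e16a03886343741a80bd856025a0f80cb05a42680e60d385c82ae0d404704401ca13c084034c16009e09083f81d80e40af84a811805f071832016c0f4057027009a0c705a81b01e60d0056822814609101d82680f802904c817810e07a02d01300f204801d01e006c05803b805403002403b00680ac07500880640cc04402a010c064042018810406002602000bc07e02e00b804804001f00a004c020000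
noncomputable def c3tl0D (u : ℕ) : ℕ := Nat.land (Nat.shiftRight c3tl0Dd (Nat.mul u (nat_lit 13))) (nat_lit 8191)
noncomputable def c3tl0Pd : ℕ := nat_lit 0x3e13e52781e91a936b4d57aef9bcee82ec9911144e4a14d884705f1e5b4ff9a0d1cef96cd71b0d31087de3274d260d0418192c86206aa458e78665454c7647935daa5998f91c8b903789836163d68a5e9752dd0354407925150a13ab06f9c5790a836fba5f8cba044a574f50c41fb1e42542506735b113aee9fae1e65137471035588b51a11b5acea9c9ea1991c68255ae5192aacbda27171ecbd51190cd76a539334a58102278a1c2dd9139a991a18175b6628b42c30c287b80d8e24bac44eeaa31f9647598a41f47c7d92992bf502a42ee553b49fc6d864183a1690a5a135b5d98e4c7451c163adc06428ca9923c024813a40410f0d3bd4d295719c8c373e689ed612d05c04bf47174f08c2d8fb14382f1fa020e71982911232ad3dea8505d4b079443fa5514af873ade4aa650ad66b71d30d3624150ecaa5aab102933d0417072c84e12582ad2a166086a5a1215826298e17873631619eae0742012ce5b35d9a86089a6940618c506f253e8280a458c5340e6102068ae600903cacf42d83444250a9c806021488c0200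
noncomputable def c3tl0P (u : ℕ) : ℕ := Nat.land (Nat.shiftRight c3tl0Pd (Nat.mul u (nat_lit 9))) (nat_lit 511)
noncomputable def c3tl0Qd : ℕ := nat_lit 0x429a53e4c18db70d4011dd8614134654fa803942cc58b0848a873a2ce325c71d2ea303799f08872a9399a10ba9d2aad4391d3d5e676b45cf05e80b719cf99c25438893f31d371f37bf122ee74311a8176c2fe201e6cc09d6fe5d95d089f5f239322a34a79243999b30ec8aa2285fb0555ab6815e3136a340c78956735baa3d24b502b2d20d15a0b19494c70ae192ba83c79909060d167f3d1355e5eea9e288f6e9168a04b2b8214d5240968bcdcf6272f07acd5451eaa314b97dbcf22809dce3728ac56c792c0b078356f9514cd551ca6486649d35fea7aeb91ea3f26cdd19365ba68b481ac4465cae93c86b2dd90164cb134289212fb84381da6a2dac836ac3d56a8d2c41ca1609418018d148863bd40b97b8e045357c33d1ae24b30028103ac61844205920742e08834923b19d71e06065c3a4d1d992a87c36459c4314e98d26684635c89ae5d2513c82320ec7229423f9903ec3361cce11b2912c06ca5a8d0104c0102677309d4493a6d3e849a6bd52a700f0f4403c4686070ac148f3b86852430a8803213028100200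
noncomputable def c3tl0Q (u : ℕ) : ℕ := Nat.land (Nat.shiftRight c3tl0Qd (Nat.mul u (nat_lit 9))) (nat_lit 511)
noncomputable def c3tl0 : Lev := ⟨351, 18, c3tl0D, c3tl0P, c3tl0Q⟩
noncomputable def c3tl1Dd : ℕ := nat_lit 0x4453554a483212676b3903801677213406cb6ca67b52d54c08369a68a6c95722a46a962a49c3ce2845da27451b2644423dd32e42208749a4412ee1b552951938236c30d35232c2fd2be39137b4491553da3ba2fc2d229e06f2cc3891052e129d28d1f033926d28c0a52ca2721b024d18427b03f27126b05329a15027a24202f26a1401301200430461100582221ee0d40c401f26921c1fd0f00e00330d005720c1ed1ce1be0a423a1fc22a0b00a01ad0130740160281eb1bc19d13e1d116d15d11e0800181ea19c18c14d0ee1f918211d0de0ce01713c10d0fd1aa16b1420dd0cd0be0ae1121c910c0ec1020dc0bd0ad09d07e15911a1010e10ac0550b210a08d07d0bb0920451090c90ba09108102501505407900f05004003403002402005e01006c04e05c04d05206a03d02e05104204b02d01e04104a02c01d03102202101203902901a00e00d00c00b00a009000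
noncomputable def c3tl1D (u : ℕ) : ℕ := Nat.land (Nat.shiftRight c3tl1Dd (Nat.mul u (nat_lit 12))) (nat_lit 4095)
noncomputable def c3tl1Pd : ℕ := nat_lit 0x368a15c8a7da09f4467f31e1e321799d48ab7e3c6060b5db409e658449256d7908c58d0cad15e34022d1d150105d114bb3fa3d20ac0443b259a155bd25580300a50a2b6503adca95243201c7e7b3704c610c1ac729791c64ff2e3045d181250abdbc718b014c52f0b339c21a39a1913228141c781e0e38162e259ad61531a1ae47a139f28dd5103dd3100a9538b2bb2568d61e51ca28b65a278254e945512190e5059643a285908821602b568e2b209831506e0a4d98ead2a59538544e5a5445c1b1288eab520394c525b1dc24b89c2836e7ac3a7aaa965ea3436167d6fd360266805523b393497e4d3a8985c440d2c03de86a24ae07eed5e3048090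
noncomputable def c3tl1P (u : ℕ) : ℕ := Nat.land (Nat.shiftRight c3tl1Pd (Nat.mul u (nat_lit 9))) (nat_lit 511)
noncomputable def c3tl1Qd : ℕ := nat_lit 0x610000bf455e003d311656303600233a1a662155aab2b31f5b006f000000b46b25000010140000000000000070008490594fc53c0000001160c6937cc3000000155c00bd92008e87004d0f000068d54e1ec01d712ac77a435057cd7b191700d700cfdbd90000009b0009005dce0000000400a26900000000a100007481761b89009a26000000c400000000005fca0082ad000000ae9ed6c100002400020000000003cbb76e06aba47237733b75498add47a9d02264b9630000d16a008ba3000000283f0000009400a0a6000000000000008d00dc7d00af7e000000da0065919c1c0067000000000000ba7f5188000000df0096081300d218c8523e85988f1220b5292cbb4c0bbeb154422e00a527c93800000000079f00d8b6000000000105006d792b0095464100000000d4c200d3355a6248392dde58993353320d000000780077348000970e83ac006c8c4bb80a9d0c00cc40444a2f0086b0a8bca700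
noncomputable def c3tl1Q (u : ℕ) : ℕ := Nat.land (Nat.shiftRight c3tl1Qd (Nat.mul u (nat_lit 8))) (nat_lit 255)
noncomputable def c3tl1 : Lev := ⟨224, 16, c3tl1D, c3tl1P, c3tl1Q⟩
noncomputable def c3tl2Dd : ℕ := nat_lit 0x8f8ca6725dc78b546bb558895f5646672a5e3e215a553d5134225b533b5231180c0f1a19111716120d09080700
noncomputable def c3tl2D (u : ℕ) : ℕ := Nat.land (Nat.shiftRight c3tl2Dd (Nat.mul u (nat_lit 8))) (nat_lit 255)
noncomputable def c3tl2Pd : ℕ := nat_lit 0x83422988eef378d5273c25b2e76d940a491111990d266e9662f5851572234a5417f9b9fa8b8957135383c239b11e9a9308233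
noncomputable def c3tl2P (u : ℕ) : ℕ := Nat.land (Nat.shiftRight c3tl2Pd (Nat.mul u (nat_lit 9))) (nat_lit 511)
noncomputable def c3tl2Qd : ℕ := nat_lit 0xa0000000000000000000000000000000000000004000000248400080000c065b00000000000000000000000000000400000000000050000b7000000000000000000000000003c0340000000000000000000a0000000060000001300000000000000080500000000000000001788000000000001500000058000000000000000000000000000000002a00000000000000000900000000095e00000648030001d00002bb007c00000000000070000000000009ce0000000000000000000000000000000000000000110000000028c0000a4000000004000000000000000099a000000000000000000000000000000000000000000000000000000000000000000000000000000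
noncomputable def c3tl2Q (u : ℕ) : ℕ := Nat.land (Nat.shiftRight c3tl2Qd (Nat.mul u (nat_lit 6))) (nat_lit 63)
noncomputable def c3tl2 : Lev := ⟨45, 9, c3tl2D, c3tl2P, c3tl2Q⟩
noncomputable def c3tl3Dd : ℕ := nat_lit 0x222f46e8d2c4070b931a487101618280
noncomputable def c3tl3D (u : ℕ) : ℕ := Nat.land (Nat.shiftRight c3tl3Dd (Nat.mul u (nat_lit 7))) (nat_lit 127)
noncomputable def c3tl3Pd : ℕ := nat_lit 0x2244c20c79108e373f59738a0a2cf0d888cd48f33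
noncomputable def c3tl3P (u : ℕ) : ℕ := Nat.land (Nat.shiftRight c3tl3Pd (Nat.mul u (nat_lit 9))) (nat_lit 511)
noncomputable def c3tl3Qd : ℕ := nat_lit 0xe00000000008000400000000000000000000000000038000000000000044600000000000000000000000140000000000000000000000000000000000000000000004000000000000000480000000000000000000000000000000000000000000000000000000000000000000000000030003000d00000000000000000005000000000002c0000000000000000000000000000000000000000100000008000001e000000000000000000000000000000000000000000000000000000000000000000000000000000000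
noncomputable def c3tl3Q (u : ℕ) : ℕ := Nat.land (Nat.shiftRight c3tl3Qd (Nat.mul u (nat_lit 5))) (nat_lit 31)
noncomputable def c3tl3 : Lev := ⟨18, 7, c3tl3D, c3tl3P, c3tl3Q⟩
noncomputable def c3tl4Dd : ℕ := nat_lit 0x1e0
noncomputable def c3tl4D (u : ℕ) : ℕ := Nat.land (Nat.shiftRight c3tl4Dd (Nat.mul u (nat_lit 3))) (nat_lit 7)
noncomputable def c3tl4Pd : ℕ := nat_lit 0x32e2247
noncomputable def c3tl4P (u : ℕ) : ℕ := Nat.land (Nat.shiftRight c3tl4Pd (Nat.mul u (nat_lit 9))) (nat_lit 511)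
noncomputable def c3tl4Qd : ℕ := nat_lit 0x40000000000000000000000000000000000800000000000000000000000000000000000000000000000000000000000000000000000000000000000000000000000000000
noncomputable def c3tl4Q (u : ℕ) : ℕ := Nat.land (Nat.shiftRight c3tl4Qd (Nat.mul u (nat_lit 2))) (nat_lit 3)
noncomputable def c3tl4 : Lev := ⟨3, 5, c3tl4D, c3tl4P, c3tl4Q⟩
noncomputable def c3tl5Dd : ℕ := nat_lit 0xc
noncomputable def c3tl5D (u : ℕ) : ℕ := Nat.land (Nat.shiftRight c3tl5Dd (Nat.mul u (nat_lit 2))) (nat_lit 3)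
noncomputable def c3tl5Pd : ℕ := nat_lit 0x22488
noncomputable def c3tl5P (u : ℕ) : ℕ := Nat.land (Nat.shiftRight c3tl5Pd (Nat.mul u (nat_lit 9))) (nat_lit 511)
noncomputable def c3tl5Qd : ℕ := nat_lit 0x400000000000000000000000000000000000000000000000000000000000000000000
noncomputable def c3tl5Q (u : ℕ) : ℕ := Nat.land (Nat.shiftRight c3tl5Qd (Nat.mul u (nat_lit 1))) (nat_lit 1)
noncomputable def c3tl5 : Lev := ⟨2, 4, c3tl5D, c3tl5P, c3tl5Q⟩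
noncomputable def c3tl6Dd : ℕ := nat_lit 8
noncomputable def c3tl6D (u : ℕ) : ℕ := Nat.land (Nat.shiftRight c3tl6Dd (Nat.mul u (nat_lit 2))) (nat_lit 3)
noncomputable def c3tl6Pd : ℕ := nat_lit 0x222cb
noncomputable def c3tl6P (u : ℕ) : ℕ := Nat.land (Nat.shiftRight c3tl6Pd (Nat.mul u (nat_lit 9))) (nat_lit 511)
noncomputable def c3tl6Qd : ℕ := nat_lit 0x200000000000000000000000000000000000000000000000000000000000000000000
noncomputable def c3tl6Q (u : ℕ) : ℕ := Nat.land (Nat.shiftRight c3tl6Qd (Nat.mul u (nat_lit 1))) (nat_lit 1)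
noncomputable def c3tl6 : Lev := ⟨2, 3, c3tl6D, c3tl6P, c3tl6Q⟩
noncomputable def c3tl7Dd : ℕ := nat_lit 2
noncomputable def c3tl7D (u : ℕ) : ℕ := Nat.land (Nat.shiftRight c3tl7Dd (Nat.mul u (nat_lit 1))) (nat_lit 1)
noncomputable def c3tl7Pd : ℕ := nat_lit 0xe492
noncomputable def c3tl7P (u : ℕ) : ℕ := Nat.land (Nat.shiftRight c3tl7Pd (Nat.mul u (nat_lit 8))) (nat_lit 255)
noncomputable def c3tl7Qd : ℕ := nat_lit 0x1000000000000000000000000000000000000000000000000000000000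
noncomputable def c3tl7Q (u : ℕ) : ℕ := Nat.land (Nat.shiftRight c3tl7Qd (Nat.mul u (nat_lit 1))) (nat_lit 1)
noncomputable def c3tl7 : Lev := ⟨2, 2, c3tl7D, c3tl7P, c3tl7Q⟩
noncomputable def c3tl8Dd : ℕ := nat_lit 4
noncomputable def c3tl8D (u : ℕ) : ℕ := Nat.land (Nat.shiftRight c3tl8Dd (Nat.mul u (nat_lit 1))) (nat_lit 1)
noncomputable def c3tl8Pd : ℕ := nat_lit 0x123901
noncomputable def c3tl8P (u : ℕ) : ℕ := Nat.land (Nat.shiftRight c3tl8Pd (Nat.mul u (nat_lit 7))) (nat_lit 127)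
noncomputable def c3tl8Qd : ℕ := nat_lit 0x1000000000000000000002000000000000000000000000000000000000
noncomputable def c3tl8Q (u : ℕ) : ℕ := Nat.land (Nat.shiftRight c3tl8Qd (Nat.mul u (nat_lit 2))) (nat_lit 3)
noncomputable def c3tl8 : Lev := ⟨3, 1, c3tl8D, c3tl8P, c3tl8Q⟩
noncomputable def c3ce_W : List (List ℕ) := [[nat_lit 3, nat_lit 5, nat_lit 1, nat_lit 3, nat_lit 0, nat_lit 1, nat_lit 1, nat_lit 3, nat_lit 5, nat_lit 3],
  [nat_lit 3, nat_lit 1, nat_lit 4, nat_lit 3, nat_lit 1, nat_lit 0, nat_lit 4, nat_lit 5, nat_lit 3, nat_lit 0, nat_lit 1, nat_lit 4, nat_lit 5, nat_lit 3, nat_lit 5, nat_lit 3],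
  [nat_lit 0, nat_lit 5, nat_lit 3, nat_lit 1, nat_lit 0, nat_lit 3, nat_lit 4, nat_lit 3, nat_lit 2, nat_lit 5, nat_lit 3, nat_lit 1, nat_lit 5, nat_lit 2],
  [nat_lit 5, nat_lit 3, nat_lit 2, nat_lit 3, nat_lit 1, nat_lit 0, nat_lit 4, nat_lit 3, nat_lit 1, nat_lit 0, nat_lit 5, nat_lit 3, nat_lit 1, nat_lit 3],
  [nat_lit 2, nat_lit 3, nat_lit 2, nat_lit 3, nat_lit 4, nat_lit 5, nat_lit 3, nat_lit 5, nat_lit 3, nat_lit 6, nat_lit 4, nat_lit 3, nat_lit 0, nat_lit 1, nat_lit 5, nat_lit 3, nat_lit 5, nat_lit 0, nat_lit 2, nat_lit 4],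
  [nat_lit 3, nat_lit 1, nat_lit 0, nat_lit 2, nat_lit 4, nat_lit 3, nat_lit 0, nat_lit 4, nat_lit 5, nat_lit 3, nat_lit 0, nat_lit 2, nat_lit 4, nat_lit 5, nat_lit 3, nat_lit 6, nat_lit 4, nat_lit 3, nat_lit 0, nat_lit 6, nat_lit 5, nat_lit 3]]
noncomputable def c3ce_P : ℕ → ℕ → ℕ := wdsP H16.O73.P c3ce_W
noncomputable def c3cc8Dd : ℕ := nat_lit 4
noncomputable def c3cc8D (u : ℕ) : ℕ := Nat.land (Nat.shiftRight c3cc8Dd (Nat.mul u (nat_lit 1))) (nat_lit 1)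
noncomputable def c3cc8Pd : ℕ := nat_lit 0x1ca401
noncomputable def c3cc8P (u : ℕ) : ℕ := Nat.land (Nat.shiftRight c3cc8Pd (Nat.mul u (nat_lit 7))) (nat_lit 127)
noncomputable def c3cc8Qd : ℕ := nat_lit 0x2000000000000000000001000000000000000000000000000000000000
noncomputable def c3cc8Q (u : ℕ) : ℕ := Nat.land (Nat.shiftRight c3cc8Qd (Nat.mul u (nat_lit 2))) (nat_lit 3)
noncomputable def c3cc8 : Lev := ⟨3, 1, c3cc8D, c3cc8P, c3cc8Q⟩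
noncomputable def c3tn0Fd : ℕ := nat_lit 0
noncomputable def c3tn0F (u : ℕ) : ℕ := Nat.land (Nat.shiftRight c3tn0Fd (Nat.mul u (nat_lit 1))) (nat_lit 1)
noncomputable def c3tn0 : Nd := ⟨c3tn0F, (nat_lit 2), (nat_lit 1), [], [((nat_lit 0), [])], []⟩
noncomputable def c3cc5Dd : ℕ := nat_lit 2
noncomputable def c3cc5D (u : ℕ) : ℕ := Nat.land (Nat.shiftRight c3cc5Dd (Nat.mul u (nat_lit 1))) (nat_lit 1)
noncomputable def c3cc5Pd : ℕ := nat_lit 0x22488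
noncomputable def c3cc5P (u : ℕ) : ℕ := Nat.land (Nat.shiftRight c3cc5Pd (Nat.mul u (nat_lit 9))) (nat_lit 511)
noncomputable def c3cc5Qd : ℕ := nat_lit 0x400000000000000000000000000000000000000000000000000000000000000000000
noncomputable def c3cc5Q (u : ℕ) : ℕ := Nat.land (Nat.shiftRight c3cc5Qd (Nat.mul u (nat_lit 1))) (nat_lit 1)
noncomputable def c3cc5 : Lev := ⟨2, 2, c3cc5D, c3cc5P, c3cc5Q⟩
noncomputable def c3tn1Fd : ℕ := nat_lit 0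
noncomputable def c3tn1F (u : ℕ) : ℕ := Nat.land (Nat.shiftRight c3tn1Fd (Nat.mul u (nat_lit 1))) (nat_lit 1)
noncomputable def c3tn1 : Nd := ⟨c3tn1F, (nat_lit 2), (nat_lit 2), [], [((nat_lit 0), [])], []⟩
noncomputable def c3cc2Dd : ℕ := nat_lit 0x11a1bf6ab57ab4e8cc9f2a78b8d1e386090a2c386080c100
noncomputable def c3cc2D (u : ℕ) : ℕ := Nat.land (Nat.shiftRight c3cc2Dd (Nat.mul u (nat_lit 7))) (nat_lit 127)
noncomputable def c3cc2Pd : ℕ := nat_lit 0x149b2ff25bbc6a4774ccd1081994e0688e5eb91b1113744ab8927eb2c9833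
noncomputable def c3cc2P (u : ℕ) : ℕ := Nat.land (Nat.shiftRight c3cc2Pd (Nat.mul u (nat_lit 9))) (nat_lit 511)
noncomputable def c3cc2Qd : ℕ := nat_lit 0x500000000000000000000000000000000000000000000e0000093c00000000000000000000000000000000000000190000000000000000000000c0060000000000000000b0000002600000a000000000000329000000000000000100000000000000001600000000000000000000000000000000000000000000000000001000030000001100000002000000000000000000000001c000000000000000000000000000000000680000001b8000a0000000000000000000002ad00000000000000000000000000000000000000000000000000000000000000000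
noncomputable def c3cc2Q (u : ℕ) : ℕ := Nat.land (Nat.shiftRight c3cc2Qd (Nat.mul u (nat_lit 5))) (nat_lit 31)
noncomputable def c3cc2 : Lev := ⟨27, 4, c3cc2D, c3cc2P, c3cc2Q⟩
noncomputable def c3tn2Fd : ℕ := nat_lit 0x7b900a0fe00b000000000d0be0605000900f0400d8010
noncomputable def c3tn2F (u : ℕ) : ℕ := Nat.land (Nat.shiftRight c3tn2Fd (Nat.mul u (nat_lit 4))) (nat_lit 15)
noncomputable def c3tn2 : Nd := ⟨c3tn2F, (nat_lit 4), (nat_lit 4), [], [((nat_lit 0), []), ((nat_lit 0), [nat_lit 0])], []⟩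
noncomputable def c3cc0Dd : ℕ := nat_lit 0xcfcda60d162d5f6ce2d835a9939a049e74b84aaca128fc04427cdb60a08f8653b499569d84409f8586f1488ecc439ece63b54118e835511b8d25d2015c5256279445c7e3c14050721107486453016888541b8f86239198c84a161609c42200c86c601a0884c2a1e0a02c300a090341e0e03824100c030140800
noncomputable def c3cc0D (u : ℕ) : ℕ := Nat.land (Nat.shiftRight c3cc0Dd (Nat.mul u (nat_lit 9))) (nat_lit 511)
noncomputable def c3cc0Pd : ℕ := nat_lit 0x20c78127f61bd0df3553428c43950a4cc6824d22d6eb379038d33a7c4ed067876b080b0d0ba791a8470242827c738f8e626a62b67acc7f45002ac2c574e353980662a772234d6a3c3d4f0b9392ec71523d600d9b4ec7cb8cb4d00b1c892481057a30c581319bc51aa141dcb843ba240bf13d646e9d5733d1800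
noncomputable def c3cc0P (u : ℕ) : ℕ := Nat.land (Nat.shiftRight c3cc0Pd (Nat.mul u (nat_lit 9))) (nat_lit 511)
noncomputable def c3cc0Qd : ℕ := nat_lit 0x59b000000300000000f6800000000003f0000000000000000022800001eaaa55140000032000000033000000000000000000000000000901a8026000001500018ba0000000000260001880000000000004c00000ec0000000fd30000066015c00000367a0000000a86000003c000470044000008400000000005c0001c040003c00000000048a00cf380231000000000000cb201680b000000000df380001280018c0000002f800128200016c0000000000bc000460002481b4000001600048a370000d00004400ac05060000008269a80ca000000002a800000000bb8400000013a900740370000000000080e00000000000c98000002f0003580010922c00030000a880000000000000000000000000f00000000001700000000001900966c00000000000158000000348000026800001c80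
noncomputable def c3cc0Q (u : ℕ) : ℕ := Nat.land (Nat.shiftRight c3cc0Qd (Nat.mul u (nat_lit 7))) (nat_lit 127)
noncomputable def c3cc0 : Lev := ⟨108, 6, c3cc0D, c3cc0P, c3cc0Q⟩
noncomputable def c3tn3Fd : ℕ := nat_lit 0x81958000074065288000040061361665b49001569900061360069a45c01e6c071678061e70001401c9180176c06c000078049970c61901f71b44068f4c06c07805da6995dd65601a50001461b55b00054088070061255301600060034e0007da01b00a49b0164d300064081900079d69d5180105402405926006806d67160156154964804005576406000193dc01a5d37007d75dc54056255675b6004985d161b6980000006dc89651b4dc38d74e4c66806da8006563d53000197d461000051201601b79c6db0166880006807db4996006134405000167003405996d948000075c60000000001b00b8d84d930045248000c60f01f02171869b85c54f50039589454074d1c1000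
noncomputable def c3tn3F (u : ℕ) : ℕ := Nat.land (Nat.shiftRight c3tn3Fd (Nat.mul u (nat_lit 6))) (nat_lit 63)
noncomputable def c3tn3 : Nd := ⟨c3tn3F, (nat_lit 6), (nat_lit 6), [], [((nat_lit 0), []), ((nat_lit 0), [nat_lit 0])], []⟩
noncomputable def c4x_W : List (List ℕ) := [[nat_lit 3, nat_lit 0, nat_lit 3, nat_lit 2, nat_lit 2, nat_lit 4, nat_lit 3, nat_lit 0, nat_lit 1, nat_lit 1, nat_lit 4, nat_lit 3, nat_lit 4, nat_lit 5, nat_lit 3, nat_lit 1, nat_lit 1, nat_lit 6, nat_lit 4, nat_lit 3, nat_lit 2, nat_lit 2, nat_lit 6, nat_lit 5]]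
noncomputable def c4x_P : ℕ → ℕ → ℕ := wdsP H16.O73.P c4x_W
noncomputable def c4th_W : List (List ℕ) := [[nat_lit 5, nat_lit 3, nat_lit 0, nat_lit 1, nat_lit 4, nat_lit 5, nat_lit 3, nat_lit 1, nat_lit 0, nat_lit 4, nat_lit 5, nat_lit 3, nat_lit 5],
  [nat_lit 2, nat_lit 2, nat_lit 4, nat_lit 5, nat_lit 3, nat_lit 2, nat_lit 2, nat_lit 4, nat_lit 5],
  [nat_lit 3, nat_lit 4, nat_lit 3, nat_lit 4, nat_lit 3, nat_lit 4],
  [nat_lit 4, nat_lit 0, nat_lit 1, nat_lit 0, nat_lit 2, nat_lit 3, nat_lit 4, nat_lit 3, nat_lit 2, nat_lit 4, nat_lit 5, nat_lit 3, nat_lit 1, nat_lit 0, nat_lit 3, nat_lit 2, nat_lit 2],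
  [nat_lit 4, nat_lit 3, nat_lit 2, nat_lit 0, nat_lit 2, nat_lit 4, nat_lit 3, nat_lit 0, nat_lit 1, nat_lit 3, nat_lit 5, nat_lit 3, nat_lit 2, nat_lit 2, nat_lit 2, nat_lit 4, nat_lit 5, nat_lit 3],
  [nat_lit 6, nat_lit 1, nat_lit 1, nat_lit 4, nat_lit 5, nat_lit 3, nat_lit 1, nat_lit 4, nat_lit 5, nat_lit 3, nat_lit 1, nat_lit 6, nat_lit 5, nat_lit 3, nat_lit 2],
  [nat_lit 1, nat_lit 4, nat_lit 3, nat_lit 2, nat_lit 2, nat_lit 2, nat_lit 5, nat_lit 3, nat_lit 2, nat_lit 2, nat_lit 4, nat_lit 5],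
  [nat_lit 3],
  [nat_lit 0, nat_lit 2, nat_lit 0, nat_lit 3, nat_lit 0, nat_lit 2, nat_lit 4, nat_lit 3, nat_lit 1, nat_lit 0, nat_lit 4, nat_lit 3, nat_lit 4],
  [nat_lit 1, nat_lit 1, nat_lit 0, nat_lit 3, nat_lit 0, nat_lit 4, nat_lit 3, nat_lit 4, nat_lit 5, nat_lit 3, nat_lit 4],
  [nat_lit 0],
  [nat_lit 1],
  [nat_lit 2],
  [nat_lit 4],
  [nat_lit 5],
  [nat_lit 1, nat_lit 0, nat_lit 5, nat_lit 1, nat_lit 4, nat_lit 3, nat_lit 1, nat_lit 3, nat_lit 0, nat_lit 4, nat_lit 5, nat_lit 3],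
  [nat_lit 6],
  [nat_lit 4, nat_lit 3, nat_lit 0, nat_lit 2, nat_lit 5, nat_lit 3, nat_lit 0, nat_lit 4, nat_lit 3, nat_lit 2, nat_lit 6, nat_lit 4, nat_lit 3, nat_lit 5, nat_lit 3, nat_lit 1, nat_lit 0]]
noncomputable def c4th_P : ℕ → ℕ → ℕ := wdsP H16.O73.P c4th_W
noncomputable def c4tl0Dd : ℕ := nat_lit 0x4d4239619d7854144bb2eb086437f1b210386b6431d9dcf1931cb178702e1e6262ef25bf2a957b3755538d9f65dbd30ac2f283a828315aa9e86cea6c86eac125ca370198a8fe244a2d982286e1bbae4d5c037a64c27090288023e61e59820b924fb9cf0bac85a37a3664d7c3693af235814208f5e2a354bf08c313fab6c25e8e646a170839463e12d868ceb661a08e95108286ba290179040276c27e0f78eb46842e913607749730b5978c2b25d12b312d06e49192480d808fc33c23604d4ba056527f848d05e7c326d90d88481921f717c855829a14404941fe52e0940ee08ba4581d31bf4dd65a223d89006bc34c35188b893c33a32d9230a583160a684ec2520db0f312bc8ac1d40588e487001c223c90c86dc2aa14c1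3004e814a082972c8aa19e09303240f63911bf8cac3180472068db48cc3fb16f03cc47c54d21d0df81045292060b304583b31040f105961c00528e1835c47516506704e024d10c033c1023220378c205fc2c91528a4c2403f7137885c38609804182187a62b6149067c3343af14009b84962160c682f473a3791aa8d0c4601df0e686602842d710107c00ba1de150865c4fa11e0ba815c18c06207d011444621108e01302e60e80a804f80c603a0b905a829e13d08401f809613c08c83d807218108c0140050106072034c07c0f4071852c04607c06101441c402708a834414603f06801fc0f402c06001b415c0bf06f81e017c02d04d822415802a04001d80cc097032819004804600b012406e01500d006c09e01800880f402402000f8050020000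
noncomputable def c4tl0D (u : ℕ) : ℕ := Nat.land (Nat.shiftRight c4tl0Dd (Nat.mul u (nat_lit 13))) (nat_lit 8191)
noncomputable def c4tl0Pd : ℕ := nat_lit 0x351e09f4f3e661447c501986c7b9e98470a14a682da9057aa0d562afd9ec0479ccf0dd9dcc996d26c29671378db40884284a99273699b8cde8e788d924349e55da71826a064f48183fdfa8d41c7ca4853ad6dbcb5701e63ccd72106991256431b2c889c5644a388a665a7e2552c86578257256825726a8d0574b11dd2c9a359233173d0ddae8852761ac6813d52cb123ad064e27d1315f21459b893241f1585cfb48201d83a2a45a947c18bd9926883d1d7c71972724cdf80c64ece134920421f752c1e6c76bd66acaa77d69831a19ce616ca2f080f6a82d421ccb97a0d64b49359c83267512b5641d68d44967d598509e51758e63a588314db8740c25250ab283faab4572c0c4cb86d900266d7e3c8cabba94bc78841e8e16c28118466a595008a9e240f048babd31c721e7f4c4e82f1054c004e88874f62ebc3106ea73e5b9aa473f1fa1e54c34d9154e550d170c02f0b560ee0c460546e5b16a2948256717c168950a5c1c2c43025744e148401a0a0e022282aa6d3aba06331848c3b4a9900e0f15812a803010140200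
noncomputable def c4tl0P (u : ℕ) : ℕ := Nat.land (Nat.shiftRight c4tl0Pd (Nat.mul u (nat_lit 9))) (nat_lit 511)
noncomputable def c4tl0Qd : ℕ := nat_lit 0x52822fa8b2a95c32932b4f205229ad1d492e848270d7f3253120613d4f1587553e9b562011095279f9494d399c4c0c2ef97cf9d959352fe02f07c8f69c7d90af532d420c15b14b8d4450a569baa1752424b2a0c1583c3206502a92dcb0a52b9e669e61a0de8fb3b38d764e8f1ea3a6f6836eb557a9b19c49b589ba575d55bc5d2cd43acde6e875a74ef0f9737171135e456808139d32133b57bba915e92cf11f36a289e21559ea918b08583928ef21e5455344a3304b0483607538742199628de45a45c0b26cbdd250b3e2b09ea01ccca74298224c465fae56dccbe1dbda045311384167e98ca5dacfa1cb2382f6b8a8484c1f07e30688dbe244ce2a40118c850d4a254118ae62e80a1259815096b58e1544b9096ec44a03cda0a2b91c1c351328cb2361627cc0847e34870cb41465107b4487246da46bfdaab66f83475357ecd21c721fb4cce69063310c6616ca9352853b758f1f1a3445620038503664269d4505c319796aa25a16d2017230dd2a7f288cc5c8a38968c41a040843230128603c160484004060200c0200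
noncomputable def c4tl0Q (u : ℕ) : ℕ := Nat.land (Nat.shiftRight c4tl0Qd (Nat.mul u (nat_lit 9))) (nat_lit 511)
noncomputable def c4tl0 : Lev := ⟨351, 18, c4tl0D, c4tl0P, c4tl0Q⟩
noncomputable def c4tl1Dd : ℕ := nat_lit 0x28e9989f44e09445b5fc3607ca41192bacc008880eb695da9b4d8eddcb9d10cad9d3da2b3f8a2844b173b84c08007909e76ce59ad07ea5d33a37374280480242a210c2a96d0b0050908fe09008c3016b0704302c8132d446c668ae2162c4249871982b44f09108c3ac6d8362ce51c5d89c17426c370611ee2684587c0da1406387b0d81003d06b0400402884e08216c1e82e0780b40f01103a0e81581c0ae06c2383704e05c0700d01802c05000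
noncomputable def c4tl1D (u : ℕ) : ℕ := Nat.land (Nat.shiftRight c4tl1Dd (Nat.mul u (nat_lit 11))) (nat_lit 2047)
noncomputable def c4tl1Pd : ℕ := nat_lit 0x2b9407bb1223429b1da244342106a13b1d375a5359c36466bf993fdc683998803293a0bd668bdabb5a515e3bb16311e61276b6cc4f4c084e848c6d246f46b4dfa3e7735252813e05068686a87cea8e3c2f9d80c2621488a27312916a567a9a2a35654f1def090360f4f97249df11f36510a49903221ce1d4792c60793736842364b301e7374fb2c8e9874934e09a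
noncomputable def c4tl1P (u : ℕ) : ℕ := Nat.land (Nat.shiftRight c4tl1Pd (Nat.mul u (nat_lit 9))) (nat_lit 511)
noncomputable def c4tl1Qd : ℕ := nat_lit 0x16007da200000b600000000007100000000000000000001a01e2ffc0000026e00006b11df65dc79c04e000000000020d93c00000000002339500009400055000148001d7c800000000000000000000000000000cc02280000101df602f0012000244b0c03500001cc2abc01fca000000003700003b5220169dc28db400056000500c9c0000002b7a014c00ad0dae000000000000000000000000000000000000000a960000c00000f3e9000000c04002c000c12658026e23805a000160001973c802000000003f0084837afd9c800000001903c01b000003c000000000000000000000000000000000000064000000013324b80000a00031e937900011000001bc000003143dd20001100000000000000000000000006e27400a000003080000003e000000000000340000000005c0000000000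
noncomputable def c4tl1Q (u : ℕ) : ℕ := Nat.land (Nat.shiftRight c4tl1Qd (Nat.mul u (nat_lit 7))) (nat_lit 127)
noncomputable def c4tl1 : Lev := ⟨126, 16, c4tl1D, c4tl1P, c4tl1Q⟩
noncomputable def c4tl2Dd : ℕ := nat_lit 0xef6851e529e2f3490a5f2a960807736924c036258fc88351d0b8fe571088c9a27218601c170c878380d09840280a088201200
noncomputable def c4tl2D (u : ℕ) : ℕ := Nat.land (Nat.shiftRight c4tl2Dd (Nat.mul u (nat_lit 9))) (nat_lit 511)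
noncomputable def c4tl2Pd : ℕ := nat_lit 0xa25e9286ce91038e3ed4529a2841d26b74f49f661066e8353064888e421b2a0ee3c0c276933bb9ab8998934e7088654ccdd35
noncomputable def c4tl2P (u : ℕ) : ℕ := Nat.land (Nat.shiftRight c4tl2Pd (Nat.mul u (nat_lit 9))) (nat_lit 511)
noncomputable def c4tl2Qd : ℕ := nat_lit 0x9000000000000000011000000000000000000021000000000340005640000080000000000000000000000000000940000000000000000007000000000000000000000000000000000000000000000000000010000000a0000a00098000000078000000000002418000000001b003000000000000000000ac00000000000000000000000000000000178c002c00070000000020000000030000001400000000400001360000000000001d00f2c00000000000010120000220000000000000000000000000000000000000007c002a00000001500068000000000000002900000000e000000000000000000000027000800000580000000000000000000000000000000000000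
noncomputable def c4tl2Q (u : ℕ) : ℕ := Nat.land (Nat.shiftRight c4tl2Qd (Nat.mul u (nat_lit 6))) (nat_lit 63)
noncomputable def c4tl2 : Lev := ⟨45, 10, c4tl2D, c4tl2P, c4tl2Q⟩
noncomputable def c4tl3Dd : ℕ := nat_lit 0x51356f9df30b34e1c0
noncomputable def c4tl3D (u : ℕ) : ℕ := Nat.land (Nat.shiftRight c4tl3Dd (Nat.mul u (nat_lit 6))) (nat_lit 63)
noncomputable def c4tl3Pd : ℕ := nat_lit 0xae35144365ecdcf46874880941d
noncomputable def c4tl3P (u : ℕ) : ℕ := Nat.land (Nat.shiftRight c4tl3Pd (Nat.mul u (nat_lit 9))) (nat_lit 511)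
noncomputable def c4tl3Qd : ℕ := nat_lit 0xb000000000000000000000000000000000000600000000000000000000000000000000000000000000000000000000000000000000000000000300000000000000000000a00000000000000000000007000000000000000000000000009000000000000000000000000000000000000000500000000000000000400000000000000000000000000000100000000000000000008000000000000000000000200000000000000000000000000000000
noncomputable def c4tl3Q (u : ℕ) : ℕ := Nat.land (Nat.shiftRight c4tl3Qd (Nat.mul u (nat_lit 4))) (nat_lit 15)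
noncomputable def c4tl3 : Lev := ⟨12, 8, c4tl3D, c4tl3P, c4tl3Q⟩
noncomputable def c4tl4Dd : ℕ := nat_lit 0xfc56c214c0
noncomputable def c4tl4D (u : ℕ) : ℕ := Nat.land (Nat.shiftRight c4tl4Dd (Nat.mul u (nat_lit 5))) (nat_lit 31)
noncomputable def c4tl4Pd : ℕ := nat_lit 0x74a88946810350f55c
noncomputable def c4tl4P (u : ℕ) : ℕ := Nat.land (Nat.shiftRight c4tl4Pd (Nat.mul u (nat_lit 9))) (nat_lit 511)
noncomputable def c4tl4Qd : ℕ := nat_lit 0x38000000000000002000000000000000000000000000000000000180000000000000000000000000000040000000000004000000000000000000000140000000000000000000000000000003000000000000000000000000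
noncomputable def c4tl4Q (u : ℕ) : ℕ := Nat.land (Nat.shiftRight c4tl4Qd (Nat.mul u (nat_lit 3))) (nat_lit 7)
noncomputable def c4tl4 : Lev := ⟨8, 7, c4tl4D, c4tl4P, c4tl4Q⟩
noncomputable def c4tl5Dd : ℕ := nat_lit 0x1d8
noncomputable def c4tl5D (u : ℕ) : ℕ := Nat.land (Nat.shiftRight c4tl5Dd (Nat.mul u (nat_lit 3))) (nat_lit 7)
noncomputable def c4tl5Pd : ℕ := nat_lit 0xe9684a
noncomputable def c4tl5P (u : ℕ) : ℕ := Nat.land (Nat.shiftRight c4tl5Pd (Nat.mul u (nat_lit 8))) (nat_lit 255)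
noncomputable def c4tl5Qd : ℕ := nat_lit 0x800000000000000000000000000000000000000000000000000000000000000010000000000000000000000000000000000000000000000000000
noncomputable def c4tl5Q (u : ℕ) : ℕ := Nat.land (Nat.shiftRight c4tl5Qd (Nat.mul u (nat_lit 2))) (nat_lit 3)
noncomputable def c4tl5 : Lev := ⟨3, 4, c4tl5D, c4tl5P, c4tl5Q⟩
noncomputable def c4tl6Dd : ℕ := nat_lit 8
noncomputable def c4tl6D (u : ℕ) : ℕ := Nat.land (Nat.shiftRight c4tl6Dd (Nat.mul u (nat_lit 2))) (nat_lit 3)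
noncomputable def c4tl6Pd : ℕ := nat_lit 0xe9
noncomputable def c4tl6P (u : ℕ) : ℕ := Nat.land (Nat.shiftRight c4tl6Pd (Nat.mul u (nat_lit 4))) (nat_lit 15)
noncomputable def c4tl6Qd : ℕ := nat_lit 0x4000
noncomputable def c4tl6Q (u : ℕ) : ℕ := Nat.land (Nat.shiftRight c4tl6Qd (Nat.mul u (nat_lit 1))) (nat_lit 1)
noncomputable def c4tl6 : Lev := ⟨2, 3, c4tl6D, c4tl6P, c4tl6Q⟩
noncomputable def c4tl7Dd : ℕ := nat_lit 2
noncomputable def c4tl7D (u : ℕ) : ℕ := Nat.land (Nat.shiftRight c4tl7Dd (Nat.mul u (nat_lit 1))) (nat_lit 1)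
noncomputable def c4tl7Pd : ℕ := nat_lit 0x2791e
noncomputable def c4tl7P (u : ℕ) : ℕ := Nat.land (Nat.shiftRight c4tl7Pd (Nat.mul u (nat_lit 9))) (nat_lit 511)
noncomputable def c4tl7Qd : ℕ := nat_lit 0x10000000000000000000000000000000000000000000000000000000000000000000000000000000
noncomputable def c4tl7Q (u : ℕ) : ℕ := Nat.land (Nat.shiftRight c4tl7Qd (Nat.mul u (nat_lit 1))) (nat_lit 1)
noncomputable def c4tl7 : Lev := ⟨2, 2, c4tl7D, c4tl7P, c4tl7Q⟩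
noncomputable def c4tl8Dd : ℕ := nat_lit 0
noncomputable def c4tl8D (u : ℕ) : ℕ := Nat.land (Nat.shiftRight c4tl8Dd (Nat.mul u (nat_lit 1))) (nat_lit 1)
noncomputable def c4tl8Pd : ℕ := nat_lit 0x20f8
noncomputable def c4tl8P (u : ℕ) : ℕ := Nat.land (Nat.shiftRight c4tl8Pd (Nat.mul u (nat_lit 7))) (nat_lit 127)
noncomputable def c4tl8Qd : ℕ := nat_lit 0x20000000000000000
noncomputable def c4tl8Q (u : ℕ) : ℕ := Nat.land (Nat.shiftRight c4tl8Qd (Nat.mul u (nat_lit 1))) (nat_lit 1)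
noncomputable def c4tl8 : Lev := ⟨2, 1, c4tl8D, c4tl8P, c4tl8Q⟩
noncomputable def c4ce_W : List (List ℕ) := [[nat_lit 4, nat_lit 3, nat_lit 2, nat_lit 3, nat_lit 0, nat_lit 4, nat_lit 3, nat_lit 5, nat_lit 3, nat_lit 0, nat_lit 4, nat_lit 3, nat_lit 1, nat_lit 3, nat_lit 4],
  [nat_lit 0, nat_lit 4, nat_lit 5, nat_lit 3, nat_lit 0, nat_lit 4, nat_lit 5, nat_lit 3],
  [nat_lit 0, nat_lit 4, nat_lit 5, nat_lit 3, nat_lit 0, nat_lit 4, nat_lit 5, nat_lit 3],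
  [nat_lit 0, nat_lit 4, nat_lit 5, nat_lit 3, nat_lit 0, nat_lit 4, nat_lit 5, nat_lit 3],
  [nat_lit 0, nat_lit 4, nat_lit 5, nat_lit 3, nat_lit 0, nat_lit 4, nat_lit 5, nat_lit 3],
  [nat_lit 0, nat_lit 1, nat_lit 0, nat_lit 3, nat_lit 0, nat_lit 1, nat_lit 3, nat_lit 0, nat_lit 4, nat_lit 3, nat_lit 5, nat_lit 3, nat_lit 2, nat_lit 2, nat_lit 2],
  [nat_lit 1, nat_lit 0, nat_lit 3, nat_lit 2, nat_lit 2, nat_lit 3, nat_lit 4, nat_lit 3, nat_lit 4, nat_lit 3, nat_lit 5, nat_lit 3, nat_lit 6, nat_lit 5, nat_lit 3, nat_lit 2, nat_lit 2, nat_lit 2, nat_lit 5],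
  [nat_lit 6, nat_lit 2, nat_lit 3, nat_lit 1, nat_lit 3, nat_lit 0, nat_lit 4, nat_lit 3, nat_lit 2, nat_lit 2, nat_lit 2, nat_lit 4, nat_lit 5, nat_lit 6, nat_lit 4, nat_lit 3, nat_lit 1, nat_lit 6],
  [nat_lit 1, nat_lit 1, nat_lit 0, nat_lit 3, nat_lit 4, nat_lit 3, nat_lit 0, nat_lit 1, nat_lit 3, nat_lit 5, nat_lit 3, nat_lit 1, nat_lit 1, nat_lit 5, nat_lit 6, nat_lit 4, nat_lit 3, nat_lit 2, nat_lit 3, nat_lit 5, nat_lit 0]]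
noncomputable def c4ce_P : ℕ → ℕ → ℕ := wdsP H16.O73.P c4ce_W
noncomputable def c4cc6Dd : ℕ := nat_lit 0
noncomputable def c4cc6D (u : ℕ) : ℕ := Nat.land (Nat.shiftRight c4cc6Dd (Nat.mul u (nat_lit 1))) (nat_lit 1)
noncomputable def c4cc6Pd : ℕ := nat_lit 0xe9
noncomputable def c4cc6P (u : ℕ) : ℕ := Nat.land (Nat.shiftRight c4cc6Pd (Nat.mul u (nat_lit 4))) (nat_lit 15)
noncomputable def c4cc6Qd : ℕ := nat_lit 0x4000
noncomputable def c4cc6Q (u : ℕ) : ℕ := Nat.land (Nat.shiftRight c4cc6Qd (Nat.mul u (nat_lit 1))) (nat_lit 1)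
noncomputable def c4cc6 : Lev := ⟨2, 1, c4cc6D, c4cc6P, c4cc6Q⟩
noncomputable def c4tn0Fd : ℕ := nat_lit 0
noncomputable def c4tn0F (u : ℕ) : ℕ := Nat.land (Nat.shiftRight c4tn0Fd (Nat.mul u (nat_lit 1))) (nat_lit 1)
noncomputable def c4tn0 : Nd := ⟨c4tn0F, (nat_lit 2), (nat_lit 1), [], [((nat_lit 0), [])], []⟩
noncomputable def c4cc3Dd : ℕ := nat_lit 0x2975744b1c5040
noncomputable def c4cc3D (u : ℕ) : ℕ := Nat.land (Nat.shiftRight c4cc3Dd (Nat.mul u (nat_lit 6))) (nat_lit 63)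
noncomputable def c4cc3Pd : ℕ := nat_lit 0xa25ecdcd0e925352b81d
noncomputable def c4cc3P (u : ℕ) : ℕ := Nat.land (Nat.shiftRight c4cc3Pd (Nat.mul u (nat_lit 9))) (nat_lit 511)
noncomputable def c4cc3Qd : ℕ := nat_lit 0x1000000000000000000000000000000000000600000000000000000000000000000000000000000000000000000000000000000000000000000400000000000000000000200000000000000000000007000000000000000000000000008000000000000000000000000000000000000000000000000000000000500000000000000000000000000000300000000000000000000000000000000000000000000000000000000000000000000000000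
noncomputable def c4cc3Q (u : ℕ) : ℕ := Nat.land (Nat.shiftRight c4cc3Qd (Nat.mul u (nat_lit 4))) (nat_lit 15)
noncomputable def c4cc3 : Lev := ⟨9, 6, c4cc3D, c4cc3P, c4cc3Q⟩
noncomputable def c4tn1Fd : ℕ := nat_lit 0xd00700100
noncomputable def c4tn1F (u : ℕ) : ℕ := Nat.land (Nat.shiftRight c4tn1Fd (Nat.mul u (nat_lit 4))) (nat_lit 15)
noncomputable def c4tn1 : Nd := ⟨c4tn1F, (nat_lit 6), (nat_lit 6), [], [((nat_lit 0), []), ((nat_lit 0), [nat_lit 0]), ((nat_lit 0), [nat_lit 0, nat_lit 0])], []⟩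
noncomputable def c4cc0Dd : ℕ := nat_lit 0x194d25e2cd53c469ff35ba4c7706e98f409f2fa9dbc5d0bcc237d55575d2c564a14c23d3e963ea812e6b4718908e2429f0e4693095cf4be389a09e3c19968682c1d8fcda2a1588c421a08890301907840361712848120a040180e00
noncomputable def c4cc0D (u : ℕ) : ℕ := Nat.land (Nat.shiftRight c4cc0Dd (Nat.mul u (nat_lit 9))) (nat_lit 511)
noncomputable def c4cc0Pd : ℕ := nat_lit 0x3d34d65713a719fea65d76471dc1939301528c072416b20699113cad8c0dd053074479f07c59a347ccf3bd31db3c8aa8584c504989c05a1c8f18ca60bd05173d6f1061af44d4d598497920d6e270b1bd5c713c5767693280050800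
noncomputable def c4cc0P (u : ℕ) : ℕ := Nat.land (Nat.shiftRight c4cc0Pd (Nat.mul u (nat_lit 9))) (nat_lit 511)
noncomputable def c4cc0Qd : ℕ := nat_lit 0x300000270000000009200000000002a000000000000000000d000000c280b3000000009000000034000000000000000000000000003c00c80460000037000138000000000000a80000000000000000000000000000000000310000014003c00001154c7000003300000009600021005c00000000000000000760000058000110000000007520000940420000000000004d1a01e805e000000025c0000020800070000000130000e4000004c0000000000080003e0001740320000000000011cd4000940003000000075600000010c4001400000000278000000000088000000240000800000000000000000300000000000800000003a0000b0000b681e0000f806c000000000000000000000000001800000000000000000000002200362c000000000000fc000000118000000000000100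
noncomputable def c4cc0Q (u : ℕ) : ℕ := Nat.land (Nat.shiftRight c4cc0Qd (Nat.mul u (nat_lit 7))) (nat_lit 127)
noncomputable def c4cc0 : Lev := ⟨81, 9, c4cc0D, c4cc0P, c4cc0Q⟩
noncomputable def c4tn2Fd : ℕ := nat_lit 0x1c953011029020024890020acf023012ae20120009170290208e38694938970129000184000228d991b01100071b69c6e08000236216a30000200246000223988996006e062c822aaba9c821c80000aed42902a5e28d23e30006970004608d96ab5f48d881b01702002566002b01a6e25c0663869aa06c0a5a5e38998630225d86a1aa06006b56e385b8d9ae0722a9b00fa6502992a5c0032800733a578b402181870081ba61ce0aab899013a998602408eb4da9006648a300002aae56650193ad813a5c0178008008400200110226c081b01b023029a69ad968e5e0aa5b0a86101702102102966149c8a5ca501202aa803a5ad886482b0616d70237092618582a188a241041000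
noncomputable def c4tn2F (u : ℕ) : ℕ := Nat.land (Nat.shiftRight c4tn2Fd (Nat.mul u (nat_lit 6))) (nat_lit 63)
noncomputable def c4tn2 : Nd := ⟨c4tn2F, (nat_lit 9), (nat_lit 9), [], [((nat_lit 0), []), ((nat_lit 0), [nat_lit 0])], []⟩
noncomputable def c5x_W : List (List ℕ) := [[nat_lit 6, nat_lit 1, nat_lit 3, nat_lit 4, nat_lit 3, nat_lit 2, nat_lit 3, nat_lit 0, nat_lit 4, nat_lit 3, nat_lit 5, nat_lit 3, nat_lit 2, nat_lit 5, nat_lit 6, nat_lit 4, nat_lit 3, nat_lit 2, nat_lit 3, nat_lit 4]]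
noncomputable def c5x_P : ℕ → ℕ → ℕ := wdsP H16.O73.P c5x_W
noncomputable def c5th_W : List (List ℕ) := [[nat_lit 2, nat_lit 2, nat_lit 0, nat_lit 3, nat_lit 0, nat_lit 1, nat_lit 1],
  [nat_lit 2, nat_lit 2, nat_lit 0, nat_lit 3, nat_lit 0, nat_lit 1, nat_lit 1],
  [nat_lit 4, nat_lit 5, nat_lit 3, nat_lit 1, nat_lit 0, nat_lit 2, nat_lit 3, nat_lit 5, nat_lit 4],
  [nat_lit 4, nat_lit 3, nat_lit 1, nat_lit 3, nat_lit 4, nat_lit 6, nat_lit 4, nat_lit 3, nat_lit 2, nat_lit 3, nat_lit 4],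
  [nat_lit 6],
  [nat_lit 0, nat_lit 3, nat_lit 1, nat_lit 4, nat_lit 3, nat_lit 1, nat_lit 0, nat_lit 5, nat_lit 3, nat_lit 5, nat_lit 3, nat_lit 1, nat_lit 0, nat_lit 2, nat_lit 6, nat_lit 4, nat_lit 3, nat_lit 1, nat_lit 1, nat_lit 3, nat_lit 4],
  [nat_lit 2, nat_lit 4, nat_lit 6, nat_lit 0, nat_lit 2, nat_lit 5, nat_lit 3, nat_lit 0, nat_lit 2, nat_lit 3, nat_lit 5, nat_lit 3, nat_lit 6, nat_lit 4, nat_lit 3, nat_lit 2, nat_lit 2, nat_lit 5, nat_lit 3, nat_lit 0, nat_lit 6],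
  [nat_lit 0, nat_lit 3, nat_lit 1, nat_lit 0, nat_lit 2, nat_lit 4, nat_lit 3, nat_lit 0, nat_lit 1, nat_lit 5, nat_lit 3, nat_lit 0, nat_lit 1, nat_lit 5, nat_lit 3, nat_lit 1, nat_lit 6, nat_lit 4, nat_lit 3, nat_lit 0, nat_lit 3],
  [nat_lit 2, nat_lit 3, nat_lit 0, nat_lit 1, nat_lit 4, nat_lit 3, nat_lit 2, nat_lit 3, nat_lit 5, nat_lit 3, nat_lit 6, nat_lit 4, nat_lit 3, nat_lit 5, nat_lit 3, nat_lit 1, nat_lit 0, nat_lit 2, nat_lit 5, nat_lit 3],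
  [nat_lit 3],
  [nat_lit 2, nat_lit 2, nat_lit 3, nat_lit 2, nat_lit 2, nat_lit 3, nat_lit 4, nat_lit 3, nat_lit 2, nat_lit 3, nat_lit 5, nat_lit 3, nat_lit 2, nat_lit 6, nat_lit 4, nat_lit 3, nat_lit 5, nat_lit 3, nat_lit 2, nat_lit 6],
  [nat_lit 5, nat_lit 0, nat_lit 2, nat_lit 2, nat_lit 3, nat_lit 1, nat_lit 3, nat_lit 5, nat_lit 3, nat_lit 5, nat_lit 3, nat_lit 1, nat_lit 6, nat_lit 4, nat_lit 3, nat_lit 1, nat_lit 0, nat_lit 2, nat_lit 6],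
  [nat_lit 0],
  [nat_lit 1],
  [nat_lit 2],
  [nat_lit 4],
  [nat_lit 5],
  [nat_lit 1, nat_lit 3, nat_lit 0, nat_lit 4, nat_lit 3, nat_lit 2, nat_lit 2, nat_lit 4, nat_lit 3, nat_lit 5, nat_lit 3, nat_lit 0, nat_lit 2, nat_lit 3, nat_lit 5, nat_lit 6, nat_lit 4, nat_lit 3, nat_lit 2, nat_lit 5]]
noncomputable def c5th_P : ℕ → ℕ → ℕ := wdsP H16.O73.P c5th_W
noncomputable def c5tl0Dd : ℕ := nat_lit 0xba6edd5e2146d5d9c16a231232f38166dc25e0077d70a1725c520655c6c135449d0436cae250e86513b49c38452248cf6b1708ca3f52d08913f8183c2da15c09384542069d3475216cee4f224cea2401be7d04e91ee4ee25912bf9524fb86d009b83c16a4b2e38b9b8492a7ed36791c41de0dd54f2958f4a09a5659e04c7ed724ec27190447ec3ed175089a72721d901413695a514a85d40a9f304432f93569364921a14ba64fc1d596880ec71436f162c9448c12e9147c9f683a26b9ef108663c3d5147890436304a82100e677439f0fb8e8e0725871b90da44d52118c6cd146662468e98612a7e337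91ec7c03ce17297e939464b24611e92503d945516ec6de4441a58ca067c8622cb9614ae654f25f924864e3a21b68bd88ca3260298aec55236c1600ab87bc2de03001047502970170a2841a3b102f813805e5da15c80704e62620f480f005636000e94e0a4c2b81530a54508250016071497432a13088f8342333141893c45801a13885ac5e826011e80a40302fd115887840e2be1560a684be1fa0a3805c54624d10304d422225e11d86b81fe2050f186281b623a0fa07583881b20d6866c2cc0b70c705a82a81e109809003560a50f005d428212f08e83a002221c0a904882201f806b04701ce0930a8842816c1d40e106c021219e0e583dc2100d30c18348288092090043811a0ea04e81ec0dc0b40da022c0f408a03c012c0fc08703601d40b0015025019c08a03401c0110066022010805008403101001680c601f024014404801b02f013002000f0070034018000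
noncomputable def c5tl0D (u : ℕ) : ℕ := Nat.land (Nat.shiftRight c5tl0Dd (Nat.mul u (nat_lit 13))) (nat_lit 8191)
noncomputable def c5tl0Pd : ℕ := nat_lit 0x4b5bf17574a8bf1598964e8c5922556eac86499a27168568e74912b34b02685b6e4b2c450a444dc82a25671da32ca46eaaeac25ced87958b623911025f3da5a00ca545438a06909fb259cb57a192b2bb959812eaf15450923b8541119027f4869ec870d49626b410e0da2e2e4e62686703328734a395d6d54aa9c0f0676314e6b518d1693848390dcaa612ec244f0d22a48fa31a532d71459dc1ddd3261a7a027f7ba4e4157ab47d287a31b4d4cf388a15ceec444c2820071b29026ca839abc9d4d4217d18880a01cda3f1a99e7c5a1892c2443b9456d29d1d690461ec181efc8b2a9bd272f0c878390a8bc22517885982ba792a41a2c091400a9f0d4f94ea35e3015a03009edecc7759a5f4ab522842e4fa6d4e984e1fd72334e22136389b9e3123cdda00f86c1b6b4d9e08d4c3edc900419b87447181d9162d7cca1f158892fc66b977bfdb1386146e848f20a954491253d6b6e96cba021446a81dae680e060121304029401e33008430e94908324b99a383a340a4dd089937bf4a4775e819a879058103e0c219306a20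
noncomputable def c5tl0P (u : ℕ) : ℕ := Nat.land (Nat.shiftRight c5tl0Pd (Nat.mul u (nat_lit 9))) (nat_lit 511)
noncomputable def c5tl0Qd : ℕ := nat_lit 0x2d6666618d2a32446632de6f435419d8b784990d66993b6e909d7bcddb02c7c8e57a5b8f9fa505f6ba7dfc3c09159daf80bb52aebe94cc6bd408bd6836464a53a83539acae14cd6517670611d3accab0ae25eb1127e90d86af97871c14fa1c3dc4b26b26a770e90c31a2501f42c1c98291c48e45679d4651b6221d16551fb5660c039cd0602e60ad944515dc8a0efbaea54b93ca12b05e3d1495c5609632829b4b54c768cfa6d2ea3d083a3bea85e698ed127a212c4167b8c22080d9a8bd638a79ccda0b328a56cf350382590d233eb146c6f3e0d4dc214034968e9302cc20538aa96a4c96737869201c058a90d24cfe74bf51bf1841127c0d7326682adbaa83b32010f1061293d55a4b9e98f20793a02b8822a8e4287807e4b1a63a99c916aca4dc6ff96baaad457b4b9cb24770351882361a0c4020c0ce22e826271be63018686f2a33969369188135210273164021420a49b84b47400908450c4e7cae70d128ea4964f43a00028802a272c1fc322636a291e131220d1a2d4cab50a04038884a231502902063c078eebc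
noncomputable def c5tl0Q (u : ℕ) : ℕ := Nat.land (Nat.shiftRight c5tl0Qd (Nat.mul u (nat_lit 9))) (nat_lit 511)
noncomputable def c5tl0 : Lev := ⟨351, 18, c5tl0D, c5tl0P, c5tl0Q⟩
noncomputable def c5tl1Dd : ℕ := nat_lit 0x5e156b5304ff4a24f44368c643741e9243d63d778339b8c432e39891c6f339587081028324a29c63f88c8741f71f463e6026e41d26b45135a21e657249b16654217319e6751636696186005e84ee4ca18517915a5b84b25701586945643fe54036f35753433f4f814214a4d44bc13713f46836244435632629727313110f11a4fc4cc4a83c03c939c4543b129628a1070ee0fb0e22724301030f74000eb2f41020ec1d70e90dd0cb0c70be0d228827c0bf29d0d10b30a709a2640bb24c0af08e2341d60b008f1ca0b908b1a60a108c07f08a09508007d2681e024407706a05e22006b05f1c80731a406705b19807205c04f05a05018007106505904d1d804703a03b0431b41a80440421900381160410e703502e02f02b0ab02c01f02a0200ce02907b01d0920570a809004a03f03303e05403204802701b03c04503003902601a02401801601702801c00a00b009000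
noncomputable def c5tl1D (u : ℕ) : ℕ := Nat.land (Nat.shiftRight c5tl1Dd (Nat.mul u (nat_lit 12))) (nat_lit 4095)
noncomputable def c5tl1Pd : ℕ := nat_lit 0x8117852b18414d4685a298070ff5f40560cb2200c2a677f206a2e403a9ce02e088e8f0a8944c9274926c4d770d8c1b1ac30791d13f099fb644af68bcf1827974c48b45d9250ea0d591b4e6ec6a30da582c5ca016934a02e16b5390aad192d67335a331229f4b2c24c2701e991a95228a4a3c9d081a56ced06a1a5a09d88ead9e9b81087488daed8837e9c9671241a455733dc8c698e33eb4191e9848e398a8a9c63f2b3cc44c35b220eaca549dddc1613a1ab209900c43c52392347d3d17aeab0234890674971987c76fb1e3f58a5b3703814178f048174445a81e9070eaf654af0db5db0668ccb8952934031b72f3dc185b2b0253c0d5601458b826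
noncomputable def c5tl1P (u : ℕ) : ℕ := Nat.land (Nat.shiftRight c5tl1Pd (Nat.mul u (nat_lit 9))) (nat_lit 511)
noncomputable def c5tl1Qd : ℕ := nat_lit 0x6f594135000400009000c9a1066500007300bc007b9bd720a2000093af0038aa763100009d00009400be88000c128c99081910bf7a0000a39f6a8f3f0023005b000013b7ab02537dbaa60067006bb8000000b0db1c0a000000dfd200d4cb2a002c0000005eac001d4eb30000004568710000a700005f00c8516300006600006d0d00ae1516b5a0009e6189005a8b8a00d0480000009c29004c84a90000d31a00b9369792004b91950000dcd1180077008e0047c0c600007cd900741eb10000820000808330640000bd00336200703a8d1f00004a0042d8797572ca96000086000b6ea8c1460049b2003b00c5002769b600005c0fcc140000000056d600dea40128a58500004f607eda3c00000000bb0000110000555d87cf000032005039572b2dc254d5009a7f002f003eb437c409980052dd004300ad00344d00002e3d1b00177858002444cd000022c36c8126000e21254000c7050007ce030000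
noncomputable def c5tl1Q (u : ℕ) : ℕ := Nat.land (Nat.shiftRight c5tl1Qd (Nat.mul u (nat_lit 8))) (nat_lit 255)
noncomputable def c5tl1 : Lev := ⟨224, 12, c5tl1D, c5tl1P, c5tl1Q⟩
noncomputable def c5tl2Dd : ℕ := nat_lit 0x9864b85b460922b8ac4f7b9397a47498f088781a8cd1287331f8ba9d4a1443211078e0903f168983c1d0a83028090b01c1000
noncomputable def c5tl2D (u : ℕ) : ℕ := Nat.land (Nat.shiftRight c5tl2Dd (Nat.mul u (nat_lit 9))) (nat_lit 511)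
noncomputable def c5tl2Pd : ℕ := nat_lit 0xbf86550a30aaf46c96f939920493963b68387e68274c6586e97cc8e7351090ec4565560a1892bbe708a759952b1f70c99e005
noncomputable def c5tl2P (u : ℕ) : ℕ := Nat.land (Nat.shiftRight c5tl2Pd (Nat.mul u (nat_lit 9))) (nat_lit 511)
noncomputable def c5tl2Qd : ℕ := nat_lit 0x270000000000003aa0000000000000000000000000000000000000008090000000000000000000000000022c000000010000098000000000000000000002b0280000003400000000000000009000000000000012800001c00005000000000c00005c001e00000000000001b0000000000007c0010000000b0000000000000000000000000000f00000000000000000000068000000000014000000000000000800044000000000001c0000000000000008c0000000000013000000195640000580000000018000000000a4000000094002200000001200000000000000000000000000000000000000000002100000000001d00000c000000000000000000000000000000000000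
noncomputable def c5tl2Q (u : ℕ) : ℕ := Nat.land (Nat.shiftRight c5tl2Qd (Nat.mul u (nat_lit 6))) (nat_lit 63)
noncomputable def c5tl2 : Lev := ⟨45, 9, c5tl2D, c5tl2P, c5tl2Q⟩
noncomputable def c5tl3Dd : ℕ := nat_lit 0x8c7e726456484222213b3414132d252317150d0c06050400
noncomputable def c5tl3D (u : ℕ) : ℕ := Nat.land (Nat.shiftRight c5tl3Dd (Nat.mul u (nat_lit 8))) (nat_lit 255)
noncomputable def c5tl3Pd : ℕ := nat_lit 0x92c14fc956ea2a361c39c998e4b68384d4eb624e0315e214e53a48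
noncomputable def c5tl3P (u : ℕ) : ℕ := Nat.land (Nat.shiftRight c5tl3Pd (Nat.mul u (nat_lit 9))) (nat_lit 511)
noncomputable def c5tl3Qd : ℕ := nat_lit 0x10000000000000000000000000000000000000000000000460000000000000000000003ae000000000008800000000000000000000000002c00000000000000000000000000000004000000000001400026000000000000000b000000000068007000000000000000000000000000000000000000000000000200000000280000000000004800000000000005400000000000078000000000240000000000000000000000000000000000000600000000000c0000000000000000000000000000000000000000000001000005000000000000000000000000000000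
noncomputable def c5tl3Q (u : ℕ) : ℕ := Nat.land (Nat.shiftRight c5tl3Qd (Nat.mul u (nat_lit 5))) (nat_lit 31)
noncomputable def c5tl3 : Lev := ⟨24, 7, c5tl3D, c5tl3P, c5tl3Q⟩
noncomputable def c5tl4Dd : ℕ := nat_lit 0x179c18a31060
noncomputable def c5tl4D (u : ℕ) : ℕ := Nat.land (Nat.shiftRight c5tl4Dd (Nat.mul u (nat_lit 5))) (nat_lit 31)
noncomputable def c5tl4Pd : ℕ := nat_lit 0xb33f9406ee038d749200
noncomputable def c5tl4P (u : ℕ) : ℕ := Nat.land (Nat.shiftRight c5tl4Pd (Nat.mul u (nat_lit 9))) (nat_lit 511)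
noncomputable def c5tl4Qd : ℕ := nat_lit 0x20000000000000000000000000000000000000000000000000000000000000000000000000000000000000000000000000000000000000000000000000000400000000000000000000000000000000000000000000800000000000000000000000000000000000000000000000000070000000000000300000000000000000000000000000000600000010000000000000000050000000000000000000000000000000000000000000000000000000
noncomputable def c5tl4Q (u : ℕ) : ℕ := Nat.land (Nat.shiftRight c5tl4Qd (Nat.mul u (nat_lit 4))) (nat_lit 15)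
noncomputable def c5tl4 : Lev := ⟨9, 4, c5tl4D, c5tl4P, c5tl4Q⟩
noncomputable def c5tl5Dd : ℕ := nat_lit 0x965200
noncomputable def c5tl5D (u : ℕ) : ℕ := Nat.land (Nat.shiftRight c5tl5Dd (Nat.mul u (nat_lit 4))) (nat_lit 15)
noncomputable def c5tl5Pd : ℕ := nat_lit 0x1f06f4d3a18141
noncomputable def c5tl5P (u : ℕ) : ℕ := Nat.land (Nat.shiftRight c5tl5Pd (Nat.mul u (nat_lit 9))) (nat_lit 511)
noncomputable def c5tl5Qd : ℕ := nat_lit 0x50000000000020000000000000000000000000000010000000000000000000000000000c0000000000000000000000000000000800000000000000000000000000000000000000000000000000000000000000000000000000000000000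
noncomputable def c5tl5Q (u : ℕ) : ℕ := Nat.land (Nat.shiftRight c5tl5Qd (Nat.mul u (nat_lit 3))) (nat_lit 7)
noncomputable def c5tl5 : Lev := ⟨6, 3, c5tl5D, c5tl5P, c5tl5Q⟩
noncomputable def c5ce_W : List (List ℕ) := [[nat_lit 1, nat_lit 4, nat_lit 3, nat_lit 2, nat_lit 3, nat_lit 4, nat_lit 5, nat_lit 3, nat_lit 2, nat_lit 5, nat_lit 6, nat_lit 4, nat_lit 3, nat_lit 2, nat_lit 3, nat_lit 4],
  [nat_lit 3, nat_lit 1, nat_lit 0, nat_lit 2, nat_lit 3, nat_lit 2, nat_lit 4, nat_lit 6, nat_lit 4, nat_lit 3, nat_lit 0, nat_lit 2, nat_lit 3, nat_lit 0],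
  [nat_lit 3, nat_lit 0, nat_lit 3, nat_lit 1, nat_lit 0, nat_lit 3, nat_lit 0, nat_lit 4, nat_lit 3, nat_lit 0, nat_lit 1, nat_lit 6, nat_lit 4, nat_lit 3, nat_lit 1, nat_lit 0, nat_lit 2, nat_lit 6],
  [nat_lit 0, nat_lit 3, nat_lit 1, nat_lit 3, nat_lit 5, nat_lit 6, nat_lit 5, nat_lit 3, nat_lit 2, nat_lit 3, nat_lit 0, nat_lit 6],
  [nat_lit 6, nat_lit 4, nat_lit 3, nat_lit 1, nat_lit 4, nat_lit 3, nat_lit 0, nat_lit 4, nat_lit 3, nat_lit 1, nat_lit 5, nat_lit 3, nat_lit 1, nat_lit 0, nat_lit 2, nat_lit 6, nat_lit 3],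
  [nat_lit 1, nat_lit 0, nat_lit 3, nat_lit 1, nat_lit 0, nat_lit 4, nat_lit 3, nat_lit 1, nat_lit 0, nat_lit 4, nat_lit 3, nat_lit 4, nat_lit 6, nat_lit 4, nat_lit 3, nat_lit 2, nat_lit 3, nat_lit 4],
  [nat_lit 6, nat_lit 0, nat_lit 1, nat_lit 0, nat_lit 3, nat_lit 1, nat_lit 0, nat_lit 3, nat_lit 4, nat_lit 3, nat_lit 2, nat_lit 2, nat_lit 2, nat_lit 5, nat_lit 3, nat_lit 1, nat_lit 1, nat_lit 5, nat_lit 0, nat_lit 2, nat_lit 6],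
  [nat_lit 4, nat_lit 3, nat_lit 4, nat_lit 3, nat_lit 0, nat_lit 1, nat_lit 1, nat_lit 5, nat_lit 3, nat_lit 2, nat_lit 5, nat_lit 6, nat_lit 4, nat_lit 3, nat_lit 2, nat_lit 3, nat_lit 0, nat_lit 2, nat_lit 4, nat_lit 3, nat_lit 1]]
noncomputable def c5ce_P : ℕ → ℕ → ℕ := wdsP H16.O73.P c5ce_W
noncomputable def c5cc4Dd : ℕ := nat_lit 0xc86423010
noncomputable def c5cc4D (u : ℕ) : ℕ := Nat.land (Nat.shiftRight c5cc4Dd (Nat.mul u (nat_lit 4))) (nat_lit 15)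
noncomputable def c5cc4Pd : ℕ := nat_lit 0x7faeb8092b3389406e00
noncomputable def c5cc4P (u : ℕ) : ℕ := Nat.land (Nat.shiftRight c5cc4Pd (Nat.mul u (nat_lit 9))) (nat_lit 511)
noncomputable def c5cc4Qd : ℕ := nat_lit 0x70000000000000000000000000000000000000000000000000000000000000000000000000000000000000000000000000000000000000000000000000000600000000000000000000000000000000000000000000400000000000000000000000000000000000000000000000000080000000000000300000000000000000000000000000000200000050000000000000000010000000000000000000000000000000000000000000000000000000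
noncomputable def c5cc4Q (u : ℕ) : ℕ := Nat.land (Nat.shiftRight c5cc4Qd (Nat.mul u (nat_lit 4))) (nat_lit 15)
noncomputable def c5cc4 : Lev := ⟨9, 2, c5cc4D, c5cc4P, c5cc4Q⟩
noncomputable def c5tn0Fd : ℕ := nat_lit 0
noncomputable def c5tn0F (u : ℕ) : ℕ := Nat.land (Nat.shiftRight c5tn0Fd (Nat.mul u (nat_lit 1))) (nat_lit 1)
noncomputable def c5tn0 : Nd := ⟨c5tn0F, (nat_lit 2), (nat_lit 2), [], [((nat_lit 0), [])], []⟩
noncomputable def c5cc2Dd : ℕ := nat_lit 0x1dc4dc920860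
noncomputable def c5cc2D (u : ℕ) : ℕ := Nat.land (Nat.shiftRight c5cc2Dd (Nat.mul u (nat_lit 5))) (nat_lit 31)
noncomputable def c5cc2Pd : ℕ := nat_lit 0x87af1ce72e7681213a05
noncomputable def c5cc2P (u : ℕ) : ℕ := Nat.land (Nat.shiftRight c5cc2Pd (Nat.mul u (nat_lit 9))) (nat_lit 511)
noncomputable def c5cc2Qd : ℕ := nat_lit 0x700000000000000000000000000000000000050000000000000000000000000000000000000000000000000000000000000000000000000000000004000000000000000000000030000000000000000000000000000000000000000000000000010000000000000000000008000000000000000000060000000000000000000000000000000000000000002000000000000000000000000000000000000000000000000000000000000000000000000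
noncomputable def c5cc2Q (u : ℕ) : ℕ := Nat.land (Nat.shiftRight c5cc2Qd (Nat.mul u (nat_lit 4))) (nat_lit 15)
noncomputable def c5cc2 : Lev := ⟨9, 5, c5cc2D, c5cc2P, c5cc2Q⟩
noncomputable def c5tn1Fd : ℕ := nat_lit 0x56b9330420e002603ce69001c6619607480e0c60e5b9b344e7354c20
noncomputable def c5tn1F (u : ℕ) : ℕ := Nat.land (Nat.shiftRight c5tn1Fd (Nat.mul u (nat_lit 5))) (nat_lit 31)
noncomputable def c5tn1 : Nd := ⟨c5tn1F, (nat_lit 5), (nat_lit 5), [], [((nat_lit 0), []), ((nat_lit 0), [nat_lit 0]), ((nat_lit 1), [nat_lit 0, nat_lit 0])], []⟩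
noncomputable def c5cc1Dd : ℕ := nat_lit 0xd650
noncomputable def c5cc1D (u : ℕ) : ℕ := Nat.land (Nat.shiftRight c5cc1Dd (Nat.mul u (nat_lit 4))) (nat_lit 15)
noncomputable def c5cc1Pd : ℕ := nat_lit 0x2e30e2826
noncomputable def c5cc1P (u : ℕ) : ℕ := Nat.land (Nat.shiftRight c5cc1Pd (Nat.mul u (nat_lit 9))) (nat_lit 511)
noncomputable def c5cc1Qd : ℕ := nat_lit 0x1000000000000000000000000000000000000000080000000000000000000000000000000000000000000000000030000000000000000000000000000000000000000000000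
noncomputable def c5cc1Q (u : ℕ) : ℕ := Nat.land (Nat.shiftRight c5cc1Qd (Nat.mul u (nat_lit 2))) (nat_lit 3)
noncomputable def c5cc1 : Lev := ⟨4, 7, c5cc1D, c5cc1P, c5cc1Q⟩
noncomputable def c5tn2y122_W : List (List ℕ) := [[nat_lit 3, nat_lit 5, nat_lit 2, nat_lit 3, nat_lit 1, nat_lit 3, nat_lit 0, nat_lit 4, nat_lit 3, nat_lit 0, nat_lit 5, nat_lit 3, nat_lit 2, nat_lit 4, nat_lit 6, nat_lit 4, nat_lit 3, nat_lit 1, nat_lit 0, nat_lit 2]]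
noncomputable def c5tn2y122_P : ℕ → ℕ → ℕ := wdsP H16.O73.P c5tn2y122_W
noncomputable def c5tr3k_W : List (List ℕ) := [[nat_lit 0, nat_lit 2, nat_lit 0, nat_lit 3, nat_lit 0, nat_lit 4, nat_lit 3, nat_lit 0, nat_lit 1, nat_lit 4, nat_lit 3, nat_lit 0, nat_lit 4, nat_lit 5, nat_lit 3, nat_lit 0, nat_lit 6, nat_lit 4, nat_lit 3, nat_lit 0, nat_lit 1, nat_lit 1, nat_lit 6, nat_lit 5, nat_lit 3],
  [nat_lit 6, nat_lit 1, nat_lit 3, nat_lit 1, nat_lit 4, nat_lit 3, nat_lit 1, nat_lit 1, nat_lit 3, nat_lit 5, nat_lit 3, nat_lit 0, nat_lit 1, nat_lit 4, nat_lit 5, nat_lit 3, nat_lit 6, nat_lit 5, nat_lit 3, nat_lit 1, nat_lit 5],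
  [nat_lit 4, nat_lit 0, nat_lit 3, nat_lit 2, nat_lit 2, nat_lit 2, nat_lit 4, nat_lit 3, nat_lit 0, nat_lit 2, nat_lit 5, nat_lit 3, nat_lit 0, nat_lit 2, nat_lit 5, nat_lit 6, nat_lit 4, nat_lit 3, nat_lit 1, nat_lit 5, nat_lit 6, nat_lit 3, nat_lit 5]]
noncomputable def c5tr3k_P : ℕ → ℕ → ℕ := wdsP H16.O73.P c5tr3k_W
noncomputable def c5tn3y5_W : List (List ℕ) := [[nat_lit 1, nat_lit 3, nat_lit 0, nat_lit 1, nat_lit 1, nat_lit 5, nat_lit 3, nat_lit 1, nat_lit 4, nat_lit 6, nat_lit 4, nat_lit 3, nat_lit 2, nat_lit 6, nat_lit 5, nat_lit 3, nat_lit 0, nat_lit 6, nat_lit 4]]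
noncomputable def c5tn3y5_P : ℕ → ℕ → ℕ := wdsP H16.O73.P c5tn3y5_W
noncomputable def c5tr4k_W : List (List ℕ) := [[nat_lit 0, nat_lit 4, nat_lit 6, nat_lit 0, nat_lit 1, nat_lit 0, nat_lit 2, nat_lit 4, nat_lit 3, nat_lit 1, nat_lit 0, nat_lit 4, nat_lit 3, nat_lit 2, nat_lit 4, nat_lit 5, nat_lit 3, nat_lit 2, nat_lit 4, nat_lit 5, nat_lit 3, nat_lit 2, nat_lit 6, nat_lit 4],
  [nat_lit 0, nat_lit 1, nat_lit 3, nat_lit 0, nat_lit 1, nat_lit 5, nat_lit 3, nat_lit 4, nat_lit 6, nat_lit 4, nat_lit 3, nat_lit 2, nat_lit 2, nat_lit 5, nat_lit 3, nat_lit 2]]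
noncomputable def c5tr4k_P : ℕ → ℕ → ℕ := wdsP H16.O73.P c5tr4k_W
noncomputable def c5tn4Fd : ℕ := nat_lit 0x665234481
noncomputable def c5tn4F (u : ℕ) : ℕ := Nat.land (Nat.shiftRight c5tn4Fd (Nat.mul u (nat_lit 4))) (nat_lit 15)
noncomputable def c5tn4 : Nd := ⟨c5tn4F, (nat_lit 2), (nat_lit 2), [], [((nat_lit 0), []), ((nat_lit 0), [nat_lit 0]), ((nat_lit 1), [nat_lit 0, nat_lit 0])], []⟩
noncomputable def c5tn3Fd : ℕ := nat_lit 0x4ac9ffaf7c699aa74c3c997779dab6dbc966836c95c11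
noncomputable def c5tn3F (u : ℕ) : ℕ := Nat.land (Nat.shiftRight c5tn3Fd (Nat.mul u (nat_lit 4))) (nat_lit 15)
noncomputable def c5tn3 : Nd := ⟨c5tn3F, (nat_lit 3), (nat_lit 3), [], [((nat_lit 0), []), ((nat_lit 0), [nat_lit 0])], [((nat_lit 5), c5tn3y5_W)]⟩
noncomputable def c5tn2y254_W : List (List ℕ) := [[nat_lit 1, nat_lit 0, nat_lit 2, nat_lit 4, nat_lit 3, nat_lit 0, nat_lit 5, nat_lit 3, nat_lit 5, nat_lit 6, nat_lit 4, nat_lit 3, nat_lit 2, nat_lit 3, nat_lit 0, nat_lit 4, nat_lit 3, nat_lit 2, nat_lit 5]]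
noncomputable def c5tn2y254_P : ℕ → ℕ → ℕ := wdsP H16.O73.P c5tn2y254_W
noncomputable def c5tr5k_W : List (List ℕ) := [[nat_lit 0, nat_lit 1, nat_lit 1, nat_lit 3, nat_lit 2, nat_lit 3, nat_lit 4, nat_lit 3, nat_lit 1, nat_lit 0, nat_lit 5, nat_lit 3, nat_lit 5, nat_lit 3, nat_lit 2, nat_lit 6, nat_lit 4, nat_lit 3, nat_lit 0, nat_lit 1, nat_lit 3, nat_lit 5, nat_lit 6],
  [nat_lit 0, nat_lit 2, nat_lit 2, nat_lit 3, nat_lit 1, nat_lit 3, nat_lit 4, nat_lit 3, nat_lit 1, nat_lit 0, nat_lit 3, nat_lit 2, nat_lit 5, nat_lit 3, nat_lit 0, nat_lit 1, nat_lit 5, nat_lit 3, nat_lit 1, nat_lit 5, nat_lit 6, nat_lit 4, nat_lit 3, nat_lit 0, nat_lit 6],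
  [nat_lit 0, nat_lit 2, nat_lit 2, nat_lit 3, nat_lit 1, nat_lit 3, nat_lit 4, nat_lit 3, nat_lit 1, nat_lit 0, nat_lit 3, nat_lit 2, nat_lit 5, nat_lit 3, nat_lit 0, nat_lit 1, nat_lit 5, nat_lit 3, nat_lit 1, nat_lit 5, nat_lit 6, nat_lit 4, nat_lit 3, nat_lit 0, nat_lit 6]]
noncomputable def c5tr5k_P : ℕ → ℕ → ℕ := wdsP H16.O73.P c5tr5k_W
noncomputable def c5tn5y5_W : List (List ℕ) := [[nat_lit 2, nat_lit 2, nat_lit 3, nat_lit 0, nat_lit 2, nat_lit 3, nat_lit 2, nat_lit 4, nat_lit 3, nat_lit 0, nat_lit 1, nat_lit 4, nat_lit 5, nat_lit 3, nat_lit 1, nat_lit 5, nat_lit 6, nat_lit 5, nat_lit 3, nat_lit 1, nat_lit 3, nat_lit 0, nat_lit 4, nat_lit 3, nat_lit 1]]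
noncomputable def c5tn5y5_P : ℕ → ℕ → ℕ := wdsP H16.O73.P c5tn5y5_W
noncomputable def c5tr6k_W : List (List ℕ) := [[nat_lit 1, nat_lit 4, nat_lit 3, nat_lit 0, nat_lit 1, nat_lit 1, nat_lit 3, nat_lit 2, nat_lit 4, nat_lit 3, nat_lit 1, nat_lit 0, nat_lit 5, nat_lit 3, nat_lit 2, nat_lit 2, nat_lit 3, nat_lit 6, nat_lit 4, nat_lit 3, nat_lit 1, nat_lit 3, nat_lit 0, nat_lit 3, nat_lit 5],
  [nat_lit 1, nat_lit 0, nat_lit 2, nat_lit 3, nat_lit 4, nat_lit 3, nat_lit 0, nat_lit 1, nat_lit 3, nat_lit 5, nat_lit 3, nat_lit 2, nat_lit 2, nat_lit 3, nat_lit 5, nat_lit 6, nat_lit 4, nat_lit 3, nat_lit 1, nat_lit 0, nat_lit 3, nat_lit 4, nat_lit 3]]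
noncomputable def c5tr6k_P : ℕ → ℕ → ℕ := wdsP H16.O73.P c5tr6k_W
noncomputable def c5tn6Fd : ℕ := nat_lit 0x34ab849
noncomputable def c5tn6F (u : ℕ) : ℕ := Nat.land (Nat.shiftRight c5tn6Fd (Nat.mul u (nat_lit 3))) (nat_lit 7)
noncomputable def c5tn6 : Nd := ⟨c5tn6F, (nat_lit 2), (nat_lit 2), [], [((nat_lit 0), []), ((nat_lit 0), [nat_lit 0])], []⟩
noncomputable def c5tn5Fd : ℕ := nat_lit 0xa4c14f6358479c8d3c1ed6cd89830c63a589824ea6a9ad6aa631b421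
noncomputable def c5tn5F (u : ℕ) : ℕ := Nat.land (Nat.shiftRight c5tn5Fd (Nat.mul u (nat_lit 5))) (nat_lit 31)
noncomputable def c5tn5 : Nd := ⟨c5tn5F, (nat_lit 3), (nat_lit 3), [], [((nat_lit 0), []), ((nat_lit 0), [nat_lit 0])], [((nat_lit 5), c5tn5y5_W)]⟩
noncomputable def c5tn2Fd : ℕ := nat_lit 0x30c41669b6928213528997cb4db6a20516a184f8936206608164544223c961361b6228a26d43a06cc49554f5966db6d381141264d69b3624db65a6167d84e865865866168f8986544d901028e6284185d164d4214413d25916556535911d469b6546d359a6483cf50f6213955996c0260a1a4da3cb40868f4db6d538e4536d249159639658b85b68f2948952151c13d44d30563c76d659150e4985cc50e59861240f49444a501000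
noncomputable def c5tn2F (u : ℕ) : ℕ := Nat.land (Nat.shiftRight c5tn2Fd (Nat.mul u (nat_lit 6))) (nat_lit 63)
noncomputable def c5tn2 : Nd := ⟨c5tn2F, (nat_lit 7), (nat_lit 7), [[nat_lit 0]], [((nat_lit 0), [])], [((nat_lit 122), c5tn2y122_W), ((nat_lit 254), c5tn2y254_W)]⟩
noncomputable def c5cc0Dd : ℕ := nat_lit 0x35b9f5cf38d1c0
noncomputable def c5cc0D (u : ℕ) : ℕ := Nat.land (Nat.shiftRight c5cc0Dd (Nat.mul u (nat_lit 6))) (nat_lit 63)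
noncomputable def c5cc0Pd : ℕ := nat_lit 0xfe3d4086cc32e09a2820
noncomputable def c5cc0P (u : ℕ) : ℕ := Nat.land (Nat.shiftRight c5cc0Pd (Nat.mul u (nat_lit 9))) (nat_lit 511)
noncomputable def c5cc0Qd : ℕ := nat_lit 0x1000000000000000006000800000000000000000000000000000000000000000000000000000000004000000000000000000000000000000000000000000000000000000000000000000000000700000000000000000000000000000300000000000000000000000000000000000005000000000000000200000000000000000000000000000000000000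
noncomputable def c5cc0Q (u : ℕ) : ℕ := Nat.land (Nat.shiftRight c5cc0Qd (Nat.mul u (nat_lit 4))) (nat_lit 15)
noncomputable def c5cc0 : Lev := ⟨9, 8, c5cc0D, c5cc0P, c5cc0Q⟩
noncomputable def c5tn7Fd : ℕ := nat_lit 0x2e7df5de65b9669dd85c7c94907df4e372f95f2007194a676f9a56595d69d79575676d65de5917d14139675659ad7cd9db9485932ad467b5b98076071738002760f54cbc956f7d700dba57d79e799f25c76676775f7e7555bce49f4d652e65575c9a67ed6274596e70177d99d86582957005107e042555099f7d755fbdf9a57567d77d078f4544d65cf8deb145676e646e5de6147576507999dc2d29e79d44d29675092a6b5f4e6a177df7274ef7ce7ce6585184154145dd7df85f65932541d45568d9d501e7df597b9299f4a79e9bdb4d83277d4b4195555f5916d65086196ad61f4169df9597e765a75c5159cb31949674845c75b4a74df6186ef5d344151776061461005f040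
noncomputable def c5tn7F (u : ℕ) : ℕ := Nat.land (Nat.shiftRight c5tn7Fd (Nat.mul u (nat_lit 6))) (nat_lit 63)
noncomputable def c5tn7 : Nd := ⟨c5tn7F, (nat_lit 8), (nat_lit 8), [[nat_lit 0]], [((nat_lit 0), [])], []⟩
noncomputable def c6x_W : List (List ℕ) := [[nat_lit 2, nat_lit 2, nat_lit 3, nat_lit 0, nat_lit 1, nat_lit 4, nat_lit 3, nat_lit 0, nat_lit 1, nat_lit 3, nat_lit 5, nat_lit 3, nat_lit 0, nat_lit 2, nat_lit 3, nat_lit 5, nat_lit 6, nat_lit 4, nat_lit 3, nat_lit 1, nat_lit 0, nat_lit 3, nat_lit 4]]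
noncomputable def c6x_P : ℕ → ℕ → ℕ := wdsP H16.O73.P c6x_W
noncomputable def c6th_W : List (List ℕ) := [[nat_lit 2, nat_lit 2, nat_lit 2, nat_lit 5, nat_lit 3, nat_lit 2, nat_lit 2, nat_lit 2, nat_lit 5],
  [nat_lit 0, nat_lit 4, nat_lit 3, nat_lit 0, nat_lit 2, nat_lit 3, nat_lit 5, nat_lit 3, nat_lit 5, nat_lit 3, nat_lit 1, nat_lit 0, nat_lit 3, nat_lit 4, nat_lit 0],
  [nat_lit 0, nat_lit 3, nat_lit 1, nat_lit 4, nat_lit 3, nat_lit 2, nat_lit 3, nat_lit 0, nat_lit 5, nat_lit 3, nat_lit 0, nat_lit 4, nat_lit 5, nat_lit 3, nat_lit 5],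
  [nat_lit 0, nat_lit 5, nat_lit 4, nat_lit 3, nat_lit 1, nat_lit 0, nat_lit 3, nat_lit 0, nat_lit 4, nat_lit 3, nat_lit 5, nat_lit 3, nat_lit 2, nat_lit 4],
  [nat_lit 1, nat_lit 4, nat_lit 2, nat_lit 3, nat_lit 1, nat_lit 0, nat_lit 4, nat_lit 3, nat_lit 1, nat_lit 5, nat_lit 3, nat_lit 2, nat_lit 2, nat_lit 2],
  [nat_lit 3],
  [nat_lit 0, nat_lit 3, nat_lit 0, nat_lit 2, nat_lit 4, nat_lit 3, nat_lit 2, nat_lit 4, nat_lit 3, nat_lit 0, nat_lit 2, nat_lit 4, nat_lit 5, nat_lit 3, nat_lit 5],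
  [nat_lit 0],
  [nat_lit 1],
  [nat_lit 2],
  [nat_lit 4],
  [nat_lit 5],
  [nat_lit 1, nat_lit 1, nat_lit 0, nat_lit 3, nat_lit 0, nat_lit 1, nat_lit 3, nat_lit 4, nat_lit 5, nat_lit 3, nat_lit 5],
  [nat_lit 6],
  [nat_lit 3, nat_lit 0, nat_lit 1, nat_lit 0, nat_lit 2, nat_lit 3, nat_lit 1, nat_lit 3, nat_lit 0, nat_lit 4, nat_lit 5, nat_lit 3, nat_lit 2, nat_lit 4, nat_lit 6, nat_lit 5, nat_lit 3, nat_lit 5, nat_lit 3, nat_lit 4, nat_lit 1]]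
noncomputable def c6th_P : ℕ → ℕ → ℕ := wdsP H16.O73.P c6th_W
noncomputable def c6tl0Dd : ℕ := nat_lit 0x452662528c3c6484de1b2897d0bacdcb2e1f6e94325b866de7cfc0cdfd0666669afd1ce651b295adadefaad55632e5981af145452939d74b0f50927953ace7e59da668408e2458ea579280b3a489a4111eab2b50fa26d0fa85f5baa141064cda5d09f9cfb0adf51da874efc76f3b01d08e662770f98129492a1c36c9b296e46bb10087fd5f462530380ecdea8b43c51b98bd21c55411b94cdc5a02c7960020a75c3191850de668b33683d89d89563ad9aa0c625d838092f49204810ae1b14ade56031f975ca4846338f1114da656e2af909c83009c2a0828825a4d81f58f34ada5d52988ef875e3b11c10dcc6c80f437f16a06aa33719c94c06322fb07991f48a23da07894bc5602a11c78a481aa3e8069892447033415e829811441310681ac53e1fe03d819871a36f0f001b0a0044e1e410840d438c1b70ba051e4a624b92208f23e519909c44302090e7916c60a2ac13109106da2e711a8ae84e02171040aac3f22e614688d00bc1751d386f86d61af027807467c27d10a816c2903110a50bcc5c81ae16301302722990960a2823616408701202aa14611806b02c621209b84a00661f40f286383560f0077075833815309380901a01c70b7854828613509303b033413409281e007a0ce01885b42480bf08a837014215e06680c004414004180b81b60a003a02440420bd041007c22607306582f010210404f01c81940bb040016013a071032815813608c03181b80c405400701840a605200a806c08e02b0230114026011014811002401002180c804600f00d006401a000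
noncomputable def c6tl0D (u : ℕ) : ℕ := Nat.land (Nat.shiftRight c6tl0Dd (Nat.mul u (nat_lit 13))) (nat_lit 8191)
noncomputable def c6tl0Pd : ℕ := nat_lit 0x505acbf8fca240d5ae2f62b129ac9e7157adb4df1346eb52786f659a126929da64f07aa8478eed9773118479af3d51ce4993159f184b1b122c07839994be3e2799923384c0dd54933e5d8a5a04454cf196c6ea2ef79d09028b4fbf648ff9b4cea4442193496c7609306d595134a913e4219a975a1aca6593d9fd350b4aac1488e30aebae0adf8d345d088750cde504859fd6725671f9908020a76071d479091a8a3abdcec34a9c049549a7269303e1d0b4bea0a2369c6d8a3c8a284076a260efb89ce55adc9d4a86f374831a146a34b24b25e4dc24e9107a2a8e4382b1145c3f8cc5dc2210fa18a66d8619c92c338cc68ae2103805e635a36e00194613dec945e14256a78e5183a977d0f21c95ab45828d787c8506a354b94481c8318174b809938faab5aaed64e9738b04a2232ac5a01e0a88c3411288ec4e12323795cac2b85df8480c0f4530218a70641b9750c50462c059725497d3d047b669aeaab615aa15e2a86830aa5a0802d485c074201e097f0341408508e4b60643974e662029844d4c5801c08b7018080200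
noncomputable def c6tl0P (u : ℕ) : ℕ := Nat.land (Nat.shiftRight c6tl0Pd (Nat.mul u (nat_lit 9))) (nat_lit 511)
noncomputable def c6tl0Qd : ℕ := nat_lit 0x4ddd757a7be200efa81bc532065c262b3f1731de4087cbc190fd5d9d912bf1b44abd1b79bf1e949a1abd65515642ea74c854cd1522178de2ef53cab9ed5aa947db90d922e8d559adcf9a8778b39d2f304b1baaab959d5234a0359c4468f6faa5441a5a98dd2e06a8f194818605e1c415a1ce3d4d671f66c9f89b86312b8a4ed6f1d7538cb0e52bca8cd345ea212a867411a96b0412fa78bc36576b14aa73f9cc5198b6c5725a3ca54cd9822aa653a464e6072cae4a2ac7b2d1846260020a0b6836e964a4071291562442e278ce263c466381d343fc26c087c99ac3a51b1a84c53a4bce07ca2d125aab69cd5a27f883416ce407a49e2fb348b622d86f368bb271650271419eb359ea106a751723a4485212e152a14f46473e8a64742030146260a901c1c088814a3321a6c423048bb8967a3f17a0d0282b251a40768d1350883b49aeb84c3107c722530c249c56c05eecc710e476ec42a658456138907a3524824aa6527151288749940ea641c135003f210c89e6d2f920981f0c86c2c220f0543014030401605018080200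
noncomputable def c6tl0Q (u : ℕ) : ℕ := Nat.land (Nat.shiftRight c6tl0Qd (Nat.mul u (nat_lit 9))) (nat_lit 511)
noncomputable def c6tl0 : Lev := ⟨351, 15, c6tl0D, c6tl0P, c6tl0Q⟩
noncomputable def c6tl1Dd : ℕ := nat_lit 0x83872792982873f1e57651b118a1a266f5ee46b64817c7f15e115351e7550dc4ea4d04a944f5915845103816b96ac57740e40150f34d0c25f651b4f43cc4cd4a64183d840b09b08e3be4173a43570c50743232d639646329525632244942f4223953553480542a105a2d409f0862c709d07727b2543c704d32008505f27a2132f92922061ba1ad1932df05e05c27921f2ab15f14531e0522782371f81d21b81ab12b04f26a1ea1c41502a92030f714304404021c1d017613602d2021420331f51cf1c21a818117513512811b10e14120d1a71741671010201400261e61d901301903702b1bf18b1180ff0350db16402813d0da01e01c0c108207501d01101b0a70d806805b08d0e20b109908c07f0730660980650410970710590ae09608907006305804c0a106f05704b00c08707a05604a04902703200d02502401801703902201602c02101f01200b00a008007000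
noncomputable def c6tl1D (u : ℕ) : ℕ := Nat.land (Nat.shiftRight c6tl1Dd (Nat.mul u (nat_lit 12))) (nat_lit 4095)
noncomputable def c6tl1Pd : ℕ := nat_lit 0x2c2e7b14aa395f40187340a3046f4fa151928431d603aeaa8c6bc43c3dfc2c81cba9d31a330d485da5b5c9f22a198936f42bce56c97461244c40812e590463a4fc1f5963a1805534a86cb707aac2414648807045165aab94007635341aed4518420f21e920512bac04e5b005ba86742f7b41465012d2b0f6ab0f170105f70c2174fca7d224a6b11a4294a332cb1e2542c0a85ae0333468b5aa65442c3b34812389ca91a86347123ec9c180733a3b1a0894c2e296099cda456e1545cea0d02d66b08b8acacdf592e0e2721c9814e3c5daa425241289ce6374a48d043f04c9a1b1383486ad2f64d2500a8569f8b27d2f2bd9a1544ca9c4b11c36d687f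
noncomputable def c6tl1P (u : ℕ) : ℕ := Nat.land (Nat.shiftRight c6tl1Pd (Nat.mul u (nat_lit 9))) (nat_lit 511)
noncomputable def c6tl1Qd : ℕ := nat_lit 0xcb000058a48300159bdba04f56006bc18e57bb65126a4cbf5900b7000000a6d2dd00007db200000000000000c00014c2816284060000001a69241eb81600000045510044d000339400dc18000097c6d719ceded19a6e9c177ad4c3ab788000c5006c4ad90000007b00b40088610000008c00cd3800000000da0000056f5c30d3003b02000000ba00000000005ad600460900000013a9a38f0000be003f00000000c8276daa2e7fb19301352f04340a920f7674ca2610290000bd64007e9100000050b5000000b0009f1f00000066000000af008b0700c7a20000001d0011000e0c0075000000000000a7212c2d0000003d00684e53003e5b6398c9b68a2a700bbc729d770d5fb3313a604200d5cfb94900000000ae8600a83c00000000ac1c00872854002b032000000000794d007c395dc4325e408522ad234b67950000007300969e3700484155080082254389a5478d0036991b719000df52cca1d800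
noncomputable def c6tl1Q (u : ℕ) : ℕ := Nat.land (Nat.shiftRight c6tl1Qd (Nat.mul u (nat_lit 8))) (nat_lit 255)
noncomputable def c6tl1 : Lev := ⟨224, 13, c6tl1D, c6tl1P, c6tl1Q⟩
noncomputable def c6tl2Dd : ℕ := nat_lit 0x979282808f6f74c49abb8c7ea6623c8a304d357c342e672d5227221b201f19141812110f150e210d0b0a060500
noncomputable def c6tl2D (u : ℕ) : ℕ := Nat.land (Nat.shiftRight c6tl2Dd (Nat.mul u (nat_lit 8))) (nat_lit 255)
noncomputable def c6tl2Pd : ℕ := nat_lit 0x9e67b9d346f98308f9183c24d3a8d9e4546d412234dc6da762118a3e3d579073b101dddcf945b318135744817f1e7c2988219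
noncomputable def c6tl2P (u : ℕ) : ℕ := Nat.land (Nat.shiftRight c6tl2Pd (Nat.mul u (nat_lit 9))) (nat_lit 511)
noncomputable def c6tl2Qd : ℕ := nat_lit 0x1200000000000000000000000000000000000000000070000001f40000000020000002700000000000000000000000600400000002400078000000000000000000000000000000000000000030300000000000000d017000007a80000640000000000018000000000680000ac000a00000000054002600914000000000000000000000000000000000000200000000002c8400290000000008800000008002c0000000016440000000025013023380000000000a0000000000000000000000000000000000000000000000000000000000000001b00004001400000000001d00000000000000000000000000000000f000000000000000000000000000000000000000000000000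
noncomputable def c6tl2Q (u : ℕ) : ℕ := Nat.land (Nat.shiftRight c6tl2Qd (Nat.mul u (nat_lit 6))) (nat_lit 63)
noncomputable def c6tl2 : Lev := ⟨45, 7, c6tl2D, c6tl2P, c6tl2Q⟩
noncomputable def c6tl3Dd : ℕ := nat_lit 0x20
noncomputable def c6tl3D (u : ℕ) : ℕ := Nat.land (Nat.shiftRight c6tl3Dd (Nat.mul u (nat_lit 3))) (nat_lit 7)
noncomputable def c6tl3Pd : ℕ := nat_lit 0xe3ee
noncomputable def c6tl3P (u : ℕ) : ℕ := Nat.land (Nat.shiftRight c6tl3Pd (Nat.mul u (nat_lit 8))) (nat_lit 255)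
noncomputable def c6tl3Qd : ℕ := nat_lit 0x800000000000000000000000000000000000000000000000000000000
noncomputable def c6tl3Q (u : ℕ) : ℕ := Nat.land (Nat.shiftRight c6tl3Qd (Nat.mul u (nat_lit 1))) (nat_lit 1)
noncomputable def c6tl3 : Lev := ⟨2, 5, c6tl3D, c6tl3P, c6tl3Q⟩
noncomputable def c6tl4Dd : ℕ := nat_lit 0xadb5d32cc2471440c0
noncomputable def c6tl4D (u : ℕ) : ℕ := Nat.land (Nat.shiftRight c6tl4Dd (Nat.mul u (nat_lit 6))) (nat_lit 63)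
noncomputable def c6tl4Pd : ℕ := nat_lit 0x1b30a3c7a224f1168d3bb4e2a20
noncomputable def c6tl4P (u : ℕ) : ℕ := Nat.land (Nat.shiftRight c6tl4Pd (Nat.mul u (nat_lit 9))) (nat_lit 511)
noncomputable def c6tl4Qd : ℕ := nat_lit 0x60000000000000000000000000000090000000010000000000000000000000000000000000000000000000000000000000000000020000000000000000a0000000000000000000000000000000000000000000000000000405000000000000000080030000000000000000000000000000000000000000000000000070000000000000b000000000000000000000000000000000000000000000000000000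
noncomputable def c6tl4Q (u : ℕ) : ℕ := Nat.land (Nat.shiftRight c6tl4Qd (Nat.mul u (nat_lit 4))) (nat_lit 15)
noncomputable def c6tl4 : Lev := ⟨12, 4, c6tl4D, c6tl4P, c6tl4Q⟩
noncomputable def c6tl5Dd : ℕ := nat_lit 0xb89754320
noncomputable def c6tl5D (u : ℕ) : ℕ := Nat.land (Nat.shiftRight c6tl5Dd (Nat.mul u (nat_lit 4))) (nat_lit 15)
noncomputable def c6tl5Pd : ℕ := nat_lit 0xc67a2d57159392301c16
noncomputable def c6tl5P (u : ℕ) : ℕ := Nat.land (Nat.shiftRight c6tl5Pd (Nat.mul u (nat_lit 9))) (nat_lit 511)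
noncomputable def c6tl5Qd : ℕ := nat_lit 0x4000000000000000000000000000000000000000000000000000000000000000000000000000000000000000000000000000070000000000000000000000000000000000000000000008000000000000050060000000000000000000000000000000000000000200000000000000000000000003000000000000000000000000000000000000000000000000000000000000000000000000000000000000000000000000000100000000000000
noncomputable def c6tl5Q (u : ℕ) : ℕ := Nat.land (Nat.shiftRight c6tl5Qd (Nat.mul u (nat_lit 4))) (nat_lit 15)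
noncomputable def c6tl5 : Lev := ⟨9, 3, c6tl5D, c6tl5P, c6tl5Q⟩
noncomputable def c6tl6Dd : ℕ := nat_lit 0x24
noncomputable def c6tl6D (u : ℕ) : ℕ := Nat.land (Nat.shiftRight c6tl6Dd (Nat.mul u (nat_lit 2))) (nat_lit 3)
noncomputable def c6tl6Pd : ℕ := nat_lit 0x2e69e02
noncomputable def c6tl6P (u : ℕ) : ℕ := Nat.land (Nat.shiftRight c6tl6Pd (Nat.mul u (nat_lit 9))) (nat_lit 511)
noncomputable def c6tl6Qd : ℕ := nat_lit 0x400000000000000000000000000000000000000000000000000000000000000000000000000800000000000000000000000000000000000000000000000000000000000000000000000000000000000000000000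
noncomputable def c6tl6Q (u : ℕ) : ℕ := Nat.land (Nat.shiftRight c6tl6Qd (Nat.mul u (nat_lit 2))) (nat_lit 3)
noncomputable def c6tl6 : Lev := ⟨3, 2, c6tl6D, c6tl6P, c6tl6Q⟩
noncomputable def c6tl7Dd : ℕ := nat_lit 0
noncomputable def c6tl7D (u : ℕ) : ℕ := Nat.land (Nat.shiftRight c6tl7Dd (Nat.mul u (nat_lit 1))) (nat_lit 1)
noncomputable def c6tl7Pd : ℕ := nat_lit 0xb701
noncomputable def c6tl7P (u : ℕ) : ℕ := Nat.land (Nat.shiftRight c6tl7Pd (Nat.mul u (nat_lit 8))) (nat_lit 255)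
noncomputable def c6tl7Qd : ℕ := nat_lit 0x8000000000000000000000000000000000000000000000
noncomputable def c6tl7Q (u : ℕ) : ℕ := Nat.land (Nat.shiftRight c6tl7Qd (Nat.mul u (nat_lit 1))) (nat_lit 1)
noncomputable def c6tl7 : Lev := ⟨2, 1, c6tl7D, c6tl7P, c6tl7Q⟩
noncomputable def c6ce_W : List (List ℕ) := [[nat_lit 2, nat_lit 2, nat_lit 2, nat_lit 5, nat_lit 3, nat_lit 2, nat_lit 2, nat_lit 2, nat_lit 5],
  [nat_lit 0, nat_lit 3, nat_lit 1, nat_lit 4, nat_lit 3, nat_lit 2, nat_lit 4, nat_lit 3, nat_lit 0],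
  [nat_lit 2, nat_lit 0, nat_lit 3, nat_lit 0, nat_lit 2, nat_lit 4, nat_lit 5, nat_lit 3, nat_lit 2, nat_lit 2, nat_lit 4, nat_lit 5],
  [nat_lit 3, nat_lit 1, nat_lit 0, nat_lit 3, nat_lit 2, nat_lit 4, nat_lit 3, nat_lit 1, nat_lit 0, nat_lit 5, nat_lit 3, nat_lit 1, nat_lit 4, nat_lit 5, nat_lit 3],
  [nat_lit 5, nat_lit 1, nat_lit 1, nat_lit 4, nat_lit 3, nat_lit 1, nat_lit 0, nat_lit 3, nat_lit 0, nat_lit 4, nat_lit 5, nat_lit 3, nat_lit 2, nat_lit 2, nat_lit 2],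
  [nat_lit 1, nat_lit 3, nat_lit 0, nat_lit 1, nat_lit 1, nat_lit 4, nat_lit 3, nat_lit 2, nat_lit 3, nat_lit 0, nat_lit 2, nat_lit 4, nat_lit 3, nat_lit 2],
  [nat_lit 6, nat_lit 0, nat_lit 1, nat_lit 1, nat_lit 0, nat_lit 3, nat_lit 5, nat_lit 3, nat_lit 1, nat_lit 0, nat_lit 2, nat_lit 5, nat_lit 3, nat_lit 1],
  [nat_lit 2, nat_lit 2, nat_lit 2, nat_lit 3, nat_lit 0, nat_lit 2, nat_lit 3, nat_lit 4, nat_lit 3, nat_lit 4, nat_lit 5, nat_lit 3, nat_lit 0, nat_lit 2, nat_lit 3, nat_lit 6, nat_lit 4, nat_lit 3, nat_lit 1, nat_lit 6, nat_lit 5, nat_lit 3]]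
noncomputable def c6ce_P : ℕ → ℕ → ℕ := wdsP H16.O73.P c6ce_W
noncomputable def c6cc7Dd : ℕ := nat_lit 0
noncomputable def c6cc7D (u : ℕ) : ℕ := Nat.land (Nat.shiftRight c6cc7Dd (Nat.mul u (nat_lit 1))) (nat_lit 1)
noncomputable def c6cc7Pd : ℕ := nat_lit 0xb701
noncomputable def c6cc7P (u : ℕ) : ℕ := Nat.land (Nat.shiftRight c6cc7Pd (Nat.mul u (nat_lit 8))) (nat_lit 255)
noncomputable def c6cc7Qd : ℕ := nat_lit 0x8000000000000000000000000000000000000000000000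
noncomputable def c6cc7Q (u : ℕ) : ℕ := Nat.land (Nat.shiftRight c6cc7Qd (Nat.mul u (nat_lit 1))) (nat_lit 1)
noncomputable def c6cc7 : Lev := ⟨2, 1, c6cc7D, c6cc7P, c6cc7Q⟩
noncomputable def c6tn0Fd : ℕ := nat_lit 0
noncomputable def c6tn0F (u : ℕ) : ℕ := Nat.land (Nat.shiftRight c6tn0Fd (Nat.mul u (nat_lit 1))) (nat_lit 1)
noncomputable def c6tn0 : Nd := ⟨c6tn0F, (nat_lit 2), (nat_lit 1), [], [((nat_lit 0), [])], []⟩
noncomputable def c6cc6Dd : ℕ := nat_lit 0x24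
noncomputable def c6cc6D (u : ℕ) : ℕ := Nat.land (Nat.shiftRight c6cc6Dd (Nat.mul u (nat_lit 2))) (nat_lit 3)
noncomputable def c6cc6Pd : ℕ := nat_lit 0x53d7202
noncomputable def c6cc6P (u : ℕ) : ℕ := Nat.land (Nat.shiftRight c6cc6Pd (Nat.mul u (nat_lit 9))) (nat_lit 511)
noncomputable def c6cc6Qd : ℕ := nat_lit 0x800000000000000000000000000000000000000000000000000000000000000000000000000400000000000000000000000000000000000000000000000000000000000000000000000000000000000000000000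
noncomputable def c6cc6Q (u : ℕ) : ℕ := Nat.land (Nat.shiftRight c6cc6Qd (Nat.mul u (nat_lit 2))) (nat_lit 3)
noncomputable def c6cc6 : Lev := ⟨3, 2, c6cc6D, c6cc6P, c6cc6Q⟩
noncomputable def c6tn1Fd : ℕ := nat_lit 0
noncomputable def c6tn1F (u : ℕ) : ℕ := Nat.land (Nat.shiftRight c6tn1Fd (Nat.mul u (nat_lit 1))) (nat_lit 1)
noncomputable def c6tn1 : Nd := ⟨c6tn1F, (nat_lit 2), (nat_lit 2), [], [((nat_lit 0), [])], []⟩
noncomputable def c6cc5Dd : ℕ := nat_lit 0x150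
noncomputable def c6cc5D (u : ℕ) : ℕ := Nat.land (Nat.shiftRight c6cc5Dd (Nat.mul u (nat_lit 3))) (nat_lit 7)
noncomputable def c6cc5Pd : ℕ := nat_lit 0xf4c616
noncomputable def c6cc5P (u : ℕ) : ℕ := Nat.land (Nat.shiftRight c6cc5Pd (Nat.mul u (nat_lit 8))) (nat_lit 255)
noncomputable def c6cc5Qd : ℕ := nat_lit 0x200000000000000000000001000000000000000000000000000000000000000000000000000000000000000000000000000000000000000000000000000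
noncomputable def c6cc5Q (u : ℕ) : ℕ := Nat.land (Nat.shiftRight c6cc5Qd (Nat.mul u (nat_lit 2))) (nat_lit 3)
noncomputable def c6cc5 : Lev := ⟨3, 3, c6cc5D, c6cc5P, c6cc5Q⟩
noncomputable def c6tn2Fd : ℕ := nat_lit 0x7648310
noncomputable def c6tn2F (u : ℕ) : ℕ := Nat.land (Nat.shiftRight c6tn2Fd (Nat.mul u (nat_lit 4))) (nat_lit 15)
noncomputable def c6tn2 : Nd := ⟨c6tn2F, (nat_lit 3), (nat_lit 3), [[nat_lit 0]], [((nat_lit 0), [])], []⟩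
noncomputable def c6cc4Dd : ℕ := nat_lit 0xba7630
noncomputable def c6cc4D (u : ℕ) : ℕ := Nat.land (Nat.shiftRight c6cc4Dd (Nat.mul u (nat_lit 4))) (nat_lit 15)
noncomputable def c6cc4Pd : ℕ := nat_lit 0x6cc23d2363c20
noncomputable def c6cc4P (u : ℕ) : ℕ := Nat.land (Nat.shiftRight c6cc4Pd (Nat.mul u (nat_lit 9))) (nat_lit 511)
noncomputable def c6cc4Qd : ℕ := nat_lit 0x400000000000000000000000000000000000000000000000000000000000000000001000000000000000000000000000000000000000100000000000000c0000000000000000000000000000000000000000000000000140000000000000000000000000000000000000000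
noncomputable def c6cc4Q (u : ℕ) : ℕ := Nat.land (Nat.shiftRight c6cc4Qd (Nat.mul u (nat_lit 3))) (nat_lit 7)
noncomputable def c6cc4 : Lev := ⟨6, 4, c6cc4D, c6cc4P, c6cc4Q⟩
noncomputable def c6tn3Fd : ℕ := nat_lit 0x59609410
noncomputable def c6tn3F (u : ℕ) : ℕ := Nat.land (Nat.shiftRight c6tn3Fd (Nat.mul u (nat_lit 4))) (nat_lit 15)
noncomputable def c6tn3 : Nd := ⟨c6tn3F, (nat_lit 4), (nat_lit 4), [[nat_lit 0]], [((nat_lit 0), [])], []⟩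
noncomputable def c6cc2Dd : ℕ := nat_lit 0x16543e44f531d786cb305478c10222878b12384070c10280
noncomputable def c6cc2D (u : ℕ) : ℕ := Nat.land (Nat.shiftRight c6cc2Dd (Nat.mul u (nat_lit 7))) (nat_lit 127)
noncomputable def c6cc2Pd : ℕ := nat_lit 0x1e9c6c07c3323c20531e26b1849a7a82ee62ba06c841f309347c98234de19
noncomputable def c6cc2P (u : ℕ) : ℕ := Nat.land (Nat.shiftRight c6cc2Pd (Nat.mul u (nat_lit 9))) (nat_lit 511)
noncomputable def c6cc2Qd : ℕ := nat_lit 0x1a00000000000002200000300000000000000000000054000001000000000000000000000000000000000000000170000000000030000000a00000c8000000000000000000000000001600000001600181800000000000000000000000000000004c000000003800014000000078000000400000000008000000000406812000000000008000000000000000000000000000000000000000000000000000000000001c00000000240000000000000000000000000140000000000000000000000000000000000000000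
noncomputable def c6cc2Q (u : ℕ) : ℕ := Nat.land (Nat.shiftRight c6cc2Qd (Nat.mul u (nat_lit 5))) (nat_lit 31)
noncomputable def c6cc2 : Lev := ⟨27, 6, c6cc2D, c6cc2P, c6cc2Q⟩
noncomputable def c6tn4Fd : ℕ := nat_lit 0x738000000000160434003340950000031f101c0e080000516000020
noncomputable def c6tn4F (u : ℕ) : ℕ := Nat.land (Nat.shiftRight c6tn4Fd (Nat.mul u (nat_lit 5))) (nat_lit 31)
noncomputable def c6tn4 : Nd := ⟨c6tn4F, (nat_lit 6), (nat_lit 6), [[nat_lit 0]], [((nat_lit 0), [])], []⟩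
noncomputable def c6cc0Dd : ℕ := nat_lit 0x9b561e6c52faf8ae9c3f0fcd86436994b8632e96caa6a311389a433489cd0590f8d8b03b170b06a171d0c854311288c601d1406c2c140a86840190703416090401c0c00
noncomputable def c6cc0D (u : ℕ) : ℕ := Nat.land (Nat.shiftRight c6cc0Dd (Nat.mul u (nat_lit 9))) (nat_lit 511)
noncomputable def c6cc0Pd : ℕ := nat_lit 0x59c60f4933c1fc2c717188282ee4f315d036420f86ef861170d2a19ab19987c7a47a60505316aba9a8a0f6a627248261ae041241808d37d315cde7f4e95a625b8640200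
noncomputable def c6cc0P (u : ℕ) : ℕ := Nat.land (Nat.shiftRight c6cc0Pd (Nat.mul u (nat_lit 9))) (nat_lit 511)
noncomputable def c6cc0Qd : ℕ := nat_lit 0x64000000000000054000000000a000000000000000c400000000060000008c000001d00000000000000000000000001e00000003a00001700000000044000000000000000000000700000002800001f00000003000000002d000000cc0010008000000000000000000000000021000000022b8002700d0000000000000c0000ec000000914000000001b00000090002f000018000000000e0000e00030000000000002b00f000d80020039037000000000d002c000000094000000000400000002601a00000000000001c0000000004c000000000000002a580000000a6c000000000000000000000500000000032000000000080035000000000000000000480000000000040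
noncomputable def c6cc0Q (u : ℕ) : ℕ := Nat.land (Nat.shiftRight c6cc0Qd (Nat.mul u (nat_lit 6))) (nat_lit 63)
noncomputable def c6cc0 : Lev := ⟨60, 8, c6cc0D, c6cc0P, c6cc0Q⟩
noncomputable def c6tn5y38_W : List (List ℕ) := [[nat_lit 3, nat_lit 4, nat_lit 3, nat_lit 0, nat_lit 2, nat_lit 4, nat_lit 3, nat_lit 4, nat_lit 6, nat_lit 4, nat_lit 3, nat_lit 1, nat_lit 0, nat_lit 3, nat_lit 4]]
noncomputable def c6tn5y38_P : ℕ → ℕ → ℕ := wdsP H16.O73.P c6tn5y38_W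
noncomputable def c6tr6k_W : List (List ℕ) := [[nat_lit 2, nat_lit 2, nat_lit 2, nat_lit 3, nat_lit 0, nat_lit 1, nat_lit 4, nat_lit 3, nat_lit 1, nat_lit 0, nat_lit 5, nat_lit 3, nat_lit 1, nat_lit 4, nat_lit 5],
  [nat_lit 5, nat_lit 0, nat_lit 3, nat_lit 2, nat_lit 2, nat_lit 2, nat_lit 3, nat_lit 4, nat_lit 3, nat_lit 1, nat_lit 0, nat_lit 4, nat_lit 5, nat_lit 3, nat_lit 0, nat_lit 2, nat_lit 3, nat_lit 0, nat_lit 4],
  [nat_lit 2, nat_lit 2, nat_lit 3, nat_lit 2, nat_lit 2, nat_lit 4, nat_lit 3, nat_lit 0, nat_lit 4, nat_lit 5, nat_lit 3, nat_lit 2, nat_lit 2, nat_lit 2, nat_lit 4, nat_lit 5, nat_lit 3]]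
noncomputable def c6tr6k_P : ℕ → ℕ → ℕ := wdsP H16.O73.P c6tr6k_W
noncomputable def c6tn6Fd : ℕ := nat_lit 0x63a5695a5aa5218d638ec6312b5a96c4a1ac4a5833952e419c4830c1
noncomputable def c6tn6F (u : ℕ) : ℕ := Nat.land (Nat.shiftRight c6tn6Fd (Nat.mul u (nat_lit 5))) (nat_lit 31)
noncomputable def c6tn6 : Nd := ⟨c6tn6F, (nat_lit 3), (nat_lit 3), [[nat_lit 0]], [((nat_lit 0), [])], []⟩
noncomputable def c6tn5Fd : ℕ := nat_lit 0x85269d561ba64a601e8577910106a23805e20184e10007c041102001d5626a278078085e64069779e0000118c081574f5d86e60136df81f9a679e7e299e5d88595688287db0127e65a00147957e679d7dc9556e1a4f0247196de01c99e59a7000228a359879651d59e0119a066601285788068079a6d869402079e02141892085202001902000055b01a6947d17950202d266172599069889aaa089400f0247210007d57a26406e181a94071f35e85c75d75e6607d265879a7597e06933936d985341f4985908206da4582d795258c0108c001c95180954068a6286e47226ca5c025c59001a75b3695a069001e7c06ea9404e670001ab1d0145d62124000680408696c08c1000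
noncomputable def c6tn5F (u : ℕ) : ℕ := Nat.land (Nat.shiftRight c6tn5Fd (Nat.mul u (nat_lit 6))) (nat_lit 63)
noncomputable def c6tn5 : Nd := ⟨c6tn5F, (nat_lit 8), (nat_lit 8), [[nat_lit 0]], [((nat_lit 0), []), ((nat_lit 0), [nat_lit 0]), ((nat_lit 1), [nat_lit 0, nat_lit 0])], [((nat_lit 38), c6tn5y38_W)]⟩
noncomputable def y_W : List (List ℕ) := [[nat_lit 5, nat_lit 0, nat_lit 2, nat_lit 2, nat_lit 3, nat_lit 1, nat_lit 4, nat_lit 3, nat_lit 0, nat_lit 1, nat_lit 3, nat_lit 0, nat_lit 5, nat_lit 3, nat_lit 1, nat_lit 4, nat_lit 5, nat_lit 6, nat_lit 4, nat_lit 3, nat_lit 1, nat_lit 3, nat_lit 4, nat_lit 0]]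
noncomputable def y_P : ℕ → ℕ → ℕ := wdsP H16.O73.P y_W
noncomputable def c2tr4k_W : List (List ℕ) := [[nat_lit 0, nat_lit 1, nat_lit 1, nat_lit 0, nat_lit 3, nat_lit 1, nat_lit 0, nat_lit 4, nat_lit 3, nat_lit 2, nat_lit 5, nat_lit 3, nat_lit 2, nat_lit 2, nat_lit 5, nat_lit 6, nat_lit 4, nat_lit 3, nat_lit 1, nat_lit 3, nat_lit 0, nat_lit 4, nat_lit 3, nat_lit 2, nat_lit 6],
  [nat_lit 2, nat_lit 2, nat_lit 3, nat_lit 0, nat_lit 2, nat_lit 4, nat_lit 3, nat_lit 2, nat_lit 5, nat_lit 3, nat_lit 2, nat_lit 3, nat_lit 6, nat_lit 4, nat_lit 3, nat_lit 0, nat_lit 1, nat_lit 6, nat_lit 5, nat_lit 3, nat_lit 4, nat_lit 6, nat_lit 4, nat_lit 3],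
  [nat_lit 6, nat_lit 4, nat_lit 3, nat_lit 0, nat_lit 1, nat_lit 3, nat_lit 5, nat_lit 3, nat_lit 1, nat_lit 0, nat_lit 3, nat_lit 6, nat_lit 5, nat_lit 3, nat_lit 0, nat_lit 1, nat_lit 3, nat_lit 0]]
noncomputable def c2tr4k_P : ℕ → ℕ → ℕ := wdsP H16.O73.P c2tr4k_W
noncomputable def c2tn4y0_W : List (List ℕ) := [[nat_lit 6, nat_lit 3, nat_lit 1, nat_lit 3, nat_lit 4, nat_lit 3, nat_lit 1, nat_lit 0, nat_lit 3, nat_lit 0, nat_lit 5, nat_lit 3, nat_lit 5, nat_lit 3, nat_lit 2, nat_lit 6, nat_lit 4, nat_lit 3, nat_lit 5, nat_lit 3, nat_lit 1, nat_lit 5, nat_lit 6]]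
noncomputable def c2tn4y0_P : ℕ → ℕ → ℕ := wdsP H16.O73.P c2tn4y0_W
noncomputable def c2tr5k_W : List (List ℕ) := [[nat_lit 1, nat_lit 0, nat_lit 3, nat_lit 2, nat_lit 3, nat_lit 4, nat_lit 3, nat_lit 2, nat_lit 5, nat_lit 3, nat_lit 0, nat_lit 2, nat_lit 3, nat_lit 0, nat_lit 5],
  [nat_lit 1, nat_lit 0, nat_lit 3, nat_lit 0, nat_lit 1, nat_lit 4, nat_lit 3, nat_lit 2, nat_lit 4, nat_lit 3, nat_lit 0, nat_lit 2, nat_lit 4, nat_lit 5, nat_lit 3, nat_lit 0, nat_lit 2, nat_lit 3, nat_lit 5, nat_lit 3],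
  [nat_lit 1, nat_lit 1, nat_lit 3, nat_lit 0, nat_lit 2, nat_lit 3, nat_lit 0, nat_lit 4, nat_lit 3, nat_lit 2, nat_lit 3, nat_lit 5, nat_lit 3, nat_lit 0, nat_lit 2, nat_lit 3, nat_lit 2]]
noncomputable def c2tr5k_P : ℕ → ℕ → ℕ := wdsP H16.O73.P c2tr5k_W
noncomputable def c2tn5y51_W : List (List ℕ) := [[nat_lit 0, nat_lit 1, nat_lit 4, nat_lit 3, nat_lit 1, nat_lit 0, nat_lit 3, nat_lit 0, nat_lit 4, nat_lit 3, nat_lit 1, nat_lit 5, nat_lit 3, nat_lit 2, nat_lit 4, nat_lit 5, nat_lit 6, nat_lit 4, nat_lit 3, nat_lit 1, nat_lit 3, nat_lit 0, nat_lit 4]]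
noncomputable def c2tn5y51_P : ℕ → ℕ → ℕ := wdsP H16.O73.P c2tn5y51_W
noncomputable def c2tr6k_W : List (List ℕ) := [[nat_lit 5, nat_lit 2, nat_lit 0, nat_lit 1, nat_lit 3, nat_lit 2, nat_lit 4, nat_lit 3, nat_lit 0, nat_lit 1, nat_lit 4, nat_lit 3, nat_lit 5, nat_lit 3, nat_lit 1, nat_lit 4, nat_lit 5, nat_lit 3],
  [nat_lit 4, nat_lit 3, nat_lit 1, nat_lit 4, nat_lit 3, nat_lit 0, nat_lit 2, nat_lit 3, nat_lit 4, nat_lit 5, nat_lit 3, nat_lit 1, nat_lit 4, nat_lit 5, nat_lit 3, nat_lit 4, nat_lit 3]]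
noncomputable def c2tr6k_P : ℕ → ℕ → ℕ := wdsP H16.O73.P c2tr6k_W
noncomputable def c2tn6y136_W : List (List ℕ) := [[nat_lit 0, nat_lit 1, nat_lit 4, nat_lit 3, nat_lit 1, nat_lit 0, nat_lit 3, nat_lit 0, nat_lit 4, nat_lit 3, nat_lit 1, nat_lit 5, nat_lit 3, nat_lit 2, nat_lit 4, nat_lit 5, nat_lit 6, nat_lit 4, nat_lit 3, nat_lit 1, nat_lit 3, nat_lit 0, nat_lit 4]]
noncomputable def c2tn6y136_P : ℕ → ℕ → ℕ := wdsP H16.O73.P c2tn6y136_W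
noncomputable def c2tr7k_W : List (List ℕ) := [[nat_lit 3, nat_lit 2, nat_lit 5, nat_lit 3, nat_lit 0, nat_lit 1, nat_lit 1, nat_lit 3, nat_lit 5, nat_lit 3],
  [nat_lit 3, nat_lit 2, nat_lit 5, nat_lit 3, nat_lit 0, nat_lit 1, nat_lit 1, nat_lit 3, nat_lit 5, nat_lit 3]]
noncomputable def c2tr7k_P : ℕ → ℕ → ℕ := wdsP H16.O73.P c2tr7k_W
noncomputable def c2tn7Fd : ℕ := nat_lit 0x111
noncomputable def c2tn7F (u : ℕ) : ℕ := Nat.land (Nat.shiftRight c2tn7Fd (Nat.mul u (nat_lit 3))) (nat_lit 7)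
noncomputable def c2tn7 : Nd := ⟨c2tn7F, (nat_lit 2), (nat_lit 2), [], [((nat_lit 0), []), ((nat_lit 1), [nat_lit 0])], []⟩
noncomputable def c2tn6Fd : ℕ := nat_lit 0xd
noncomputable def c2tn6F (u : ℕ) : ℕ := Nat.land (Nat.shiftRight c2tn6Fd (Nat.mul u (nat_lit 2))) (nat_lit 3)
noncomputable def c2tn6 : Nd := ⟨c2tn6F, (nat_lit 2), (nat_lit 2), [], [((nat_lit 0), []), ((nat_lit 0), [nat_lit 0]), ((nat_lit 0), [nat_lit 0, nat_lit 0])], [((nat_lit 136), c2tn6y136_W)]⟩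
noncomputable def c2tn5Fd : ℕ := nat_lit 0x98a99b69988998acb7c46548d66d99ae676a3c5793a11
noncomputable def c2tn5F (u : ℕ) : ℕ := Nat.land (Nat.shiftRight c2tn5Fd (Nat.mul u (nat_lit 4))) (nat_lit 15)
noncomputable def c2tn5 : Nd := ⟨c2tn5F, (nat_lit 3), (nat_lit 3), [], [((nat_lit 0), []), ((nat_lit 0), [nat_lit 0]), ((nat_lit 0), [nat_lit 0, nat_lit 0])], [((nat_lit 51), c2tn5y51_W)]⟩
noncomputable def c2tn4Fd : ℕ := nat_lit 0x39748b96da32343c94f9ada96c5f31a5f28b92ea52266b1f15b914a2a0b6b5ec7b64fa3a8f919d46a9f174e277362e1ca917bd745d28c73e2ba458cbc5e67c4cf7b672648b46d20d7d60a9c5f29c19272d9263d90745ed6a98fb31efa45d19c9898c591725ee7462f4260e93e3372232625c9649eb2c1d149e128c22aa32548ca285c1ec8ba4e95213bd1b08b19751e8693a91a358993cc463d4e6cd747d1ac7adf243a1354e0a6b2576464c8ae295c20c8ca946c1518422f6b6ae641346c5646a131bda2f7b5b48c66e9d2529c18d7463185d57939ca5c2e7605a1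
noncomputable def c2tn4F (u : ℕ) : ℕ := Nat.land (Nat.shiftRight c2tn4Fd (Nat.mul u (nat_lit 5))) (nat_lit 31)
noncomputable def c2tn4 : Nd := ⟨c2tn4F, (nat_lit 3), (nat_lit 3), [], [((nat_lit 0), []), ((nat_lit 0), [nat_lit 0])], [((nat_lit 0), c2tn4y0_W)]⟩
noncomputable def z_W : List (List ℕ) := [[nat_lit 5, nat_lit 0, nat_lit 2, nat_lit 2, nat_lit 3, nat_lit 1, nat_lit 4, nat_lit 3, nat_lit 0, nat_lit 1, nat_lit 3, nat_lit 0, nat_lit 5, nat_lit 3, nat_lit 1, nat_lit 4, nat_lit 5, nat_lit 6, nat_lit 4, nat_lit 3, nat_lit 1, nat_lit 3, nat_lit 4, nat_lit 0, nat_lit 5, nat_lit 0, nat_lit 2, nat_lit 2, nat_lit 3, nat_lit 1, nat_lit 4, nat_lit 3, nat_lit 0, nat_lit 1, nat_lit 3, nat_lit 0, nat_lit 5, nat_lit 3, nat_lit 1, nat_lit 4, nat_lit 5, nat_lit 6, nat_lit 4, nat_lit 3, nat_lit 1, nat_lit 3, nat_lit 4, nat_lit 0]]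
noncomputable def z_P : ℕ → ℕ → ℕ := wdsP H16.O73.P z_W
noncomputable def c2tr8k_W : List (List ℕ) := [[nat_lit 4, nat_lit 6, nat_lit 2, nat_lit 3, nat_lit 1, nat_lit 3, nat_lit 0, nat_lit 4, nat_lit 3, nat_lit 0, nat_lit 1, nat_lit 3, nat_lit 5, nat_lit 3, nat_lit 2, nat_lit 6, nat_lit 4, nat_lit 3, nat_lit 0, nat_lit 6, nat_lit 4, nat_lit 3, nat_lit 4],
  [nat_lit 5, nat_lit 6, nat_lit 0, nat_lit 1, nat_lit 3, nat_lit 2, nat_lit 3, nat_lit 0, nat_lit 2, nat_lit 5, nat_lit 3, nat_lit 1, nat_lit 4, nat_lit 6, nat_lit 5, nat_lit 3, nat_lit 0, nat_lit 1, nat_lit 1, nat_lit 5],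
  [nat_lit 1, nat_lit 0, nat_lit 3, nat_lit 1, nat_lit 0, nat_lit 4, nat_lit 3, nat_lit 1, nat_lit 0, nat_lit 4, nat_lit 3, nat_lit 2, nat_lit 5, nat_lit 3, nat_lit 2, nat_lit 2, nat_lit 4, nat_lit 5, nat_lit 6, nat_lit 4, nat_lit 3, nat_lit 1, nat_lit 6]]
noncomputable def c2tr8k_P : ℕ → ℕ → ℕ := wdsP H16.O73.P c2tr8k_W
noncomputable def c2tn8y0_W : List (List ℕ) := [[nat_lit 0, nat_lit 2, nat_lit 0, nat_lit 4, nat_lit 3, nat_lit 0, nat_lit 2, nat_lit 3, nat_lit 2, nat_lit 4, nat_lit 3, nat_lit 5, nat_lit 3, nat_lit 1, nat_lit 0, nat_lit 4, nat_lit 5, nat_lit 6, nat_lit 4, nat_lit 3, nat_lit 2, nat_lit 3, nat_lit 1, nat_lit 0, nat_lit 4]]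
noncomputable def c2tn8y0_P : ℕ → ℕ → ℕ := wdsP H16.O73.P c2tn8y0_W
noncomputable def c2tr9k_W : List (List ℕ) := [[nat_lit 1, nat_lit 1, nat_lit 3, nat_lit 0, nat_lit 2, nat_lit 3, nat_lit 4, nat_lit 3, nat_lit 2, nat_lit 3, nat_lit 0, nat_lit 4, nat_lit 3, nat_lit 5, nat_lit 3, nat_lit 1, nat_lit 3, nat_lit 0, nat_lit 1],
  [nat_lit 5, nat_lit 4, nat_lit 2, nat_lit 2, nat_lit 3, nat_lit 1, nat_lit 0, nat_lit 3, nat_lit 2, nat_lit 4, nat_lit 3, nat_lit 0, nat_lit 5, nat_lit 3, nat_lit 5, nat_lit 3, nat_lit 5],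
  [nat_lit 0, nat_lit 1, nat_lit 1, nat_lit 3, nat_lit 1, nat_lit 4, nat_lit 3, nat_lit 0, nat_lit 4, nat_lit 5, nat_lit 3, nat_lit 5, nat_lit 3, nat_lit 1, nat_lit 4, nat_lit 5, nat_lit 0]]
noncomputable def c2tr9k_P : ℕ → ℕ → ℕ := wdsP H16.O73.P c2tr9k_W
noncomputable def c2tn9y111_W : List (List ℕ) := [[nat_lit 0, nat_lit 1, nat_lit 4, nat_lit 3, nat_lit 1, nat_lit 0, nat_lit 3, nat_lit 0, nat_lit 4, nat_lit 3, nat_lit 1, nat_lit 5, nat_lit 3, nat_lit 2, nat_lit 4, nat_lit 5, nat_lit 6, nat_lit 4, nat_lit 3, nat_lit 1, nat_lit 3, nat_lit 0, nat_lit 4]]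
noncomputable def c2tn9y111_P : ℕ → ℕ → ℕ := wdsP H16.O73.P c2tn9y111_W
noncomputable def c2tr10k_W : List (List ℕ) := [[],
  [nat_lit 3, nat_lit 0, nat_lit 1, nat_lit 1, nat_lit 4, nat_lit 3, nat_lit 2, nat_lit 3, nat_lit 0, nat_lit 5, nat_lit 3, nat_lit 1, nat_lit 4, nat_lit 5, nat_lit 3, nat_lit 1, nat_lit 4, nat_lit 5]]
noncomputable def c2tr10k_P : ℕ → ℕ → ℕ := wdsP H16.O73.P c2tr10k_W
noncomputable def c2tn10y136_W : List (List ℕ) := [[nat_lit 0, nat_lit 1, nat_lit 4, nat_lit 3, nat_lit 1, nat_lit 0, nat_lit 3, nat_lit 0, nat_lit 4, nat_lit 3, nat_lit 1, nat_lit 5, nat_lit 3, nat_lit 2, nat_lit 4, nat_lit 5, nat_lit 6, nat_lit 4, nat_lit 3, nat_lit 1, nat_lit 3, nat_lit 0, nat_lit 4]]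
noncomputable def c2tn10y136_P : ℕ → ℕ → ℕ := wdsP H16.O73.P c2tn10y136_W
noncomputable def c2tr11k_W : List (List ℕ) := [[],
  [nat_lit 0, nat_lit 2, nat_lit 2, nat_lit 3, nat_lit 2, nat_lit 2, nat_lit 2, nat_lit 3, nat_lit 5, nat_lit 3, nat_lit 2, nat_lit 3, nat_lit 0, nat_lit 5]]
noncomputable def c2tr11k_P : ℕ → ℕ → ℕ := wdsP H16.O73.P c2tr11k_W
noncomputable def c2tn11Fd : ℕ := nat_lit 0xe9
noncomputable def c2tn11F (u : ℕ) : ℕ := Nat.land (Nat.shiftRight c2tn11Fd (Nat.mul u (nat_lit 3))) (nat_lit 7)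
noncomputable def c2tn11 : Nd := ⟨c2tn11F, (nat_lit 2), (nat_lit 2), [], [((nat_lit 0), []), ((nat_lit 1), [nat_lit 0])], []⟩
noncomputable def c2tn10Fd : ℕ := nat_lit 0xd
noncomputable def c2tn10F (u : ℕ) : ℕ := Nat.land (Nat.shiftRight c2tn10Fd (Nat.mul u (nat_lit 2))) (nat_lit 3)
noncomputable def c2tn10 : Nd := ⟨c2tn10F, (nat_lit 2), (nat_lit 2), [], [((nat_lit 0), []), ((nat_lit 0), [nat_lit 0]), ((nat_lit 0), [nat_lit 0, nat_lit 0])], [((nat_lit 136), c2tn10y136_W)]⟩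
noncomputable def c2tn9Fd : ℕ := nat_lit 0x92a8ee3ad4c8b56a490e75b88a2a0ea699a66ad66438c652d4342021
noncomputable def c2tn9F (u : ℕ) : ℕ := Nat.land (Nat.shiftRight c2tn9Fd (Nat.mul u (nat_lit 5))) (nat_lit 31)
noncomputable def c2tn9 : Nd := ⟨c2tn9F, (nat_lit 3), (nat_lit 3), [], [((nat_lit 0), []), ((nat_lit 0), [nat_lit 0]), ((nat_lit 0), [nat_lit 0, nat_lit 0])], [((nat_lit 111), c2tn9y111_W)]⟩
noncomputable def c2tn8Fd : ℕ := nat_lit 0x322b63e7154a1093a4fa39916bdaf931ae93d70749cd8c1c78cd9284e316ca319ca4f6ba2a9b20e63cef82a1165194239901c1ca9ba6a8b1b3840cb735aa84e0851ad1531908460a7d0b48cded2adf0631338c1cf8a9af93210ab20f7b9cf5b61263e2d4c28d62a2983ded6b9b6651307b1d38c9f0641ac8468f835ea63dae74e508914f9be0ea3e135be0c6c1734c271a0e6e4bdb35b9f37b62b8b62963daa83a7179dac6b2687ce2f52e1453e308c5f174d2c4d22f654e934e10a4e6e7b0eea358863db143e0d7c6088d10f81a098ace98c5d06a5a65a9d0585a1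
noncomputable def c2tn8F (u : ℕ) : ℕ := Nat.land (Nat.shiftRight c2tn8Fd (Nat.mul u (nat_lit 5))) (nat_lit 31)
noncomputable def c2tn8 : Nd := ⟨c2tn8F, (nat_lit 3), (nat_lit 3), [], [((nat_lit 0), []), ((nat_lit 0), [nat_lit 0])], [((nat_lit 0), c2tn8y0_W)]⟩

theorem md_b : ltAll 351 H16.O73.B = 0 ∧ 4585351680 ≠ 0 := by decide +kernel
theorem st_lt : allL (ltAll 7) st_W = true := by decide +kernel
theorem s_r_a : allZ2 (resEnt st_P sP sE sI (nat_lit 351) (nat_lit 324)) (nat_lit 9) (nat_lit 324) = true := by decide +kernel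
theorem s_b : neL H16.O73.B (sB.map sE) = 0 ∧ ltAll 324 sB = 0 := by decide +kernel
theorem s_p : allZ2 (pcEnt sP (nat_lit 3) sB sC) 9 9 = true := by decide +kernel
theorem s_e : allL (ltAll 9) se = true := by decide +kernel
theorem sl0_e_0 : allZ (dent sl0 (wdsP sP se) (nat_lit 324)) (nat_lit 0) (nat_lit 80) = true := by decide +kernel
theorem sl0_h : 0 < sl0.n ∧ 0 < sl0.K ∧ sl0.Pt 0 < 324 ∧ sl0.Q (sl0.Pt 0) = 0 := by decide +kernel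
theorem sl1_e_0 : allZ (dent sl1 (wdsP sP se) (nat_lit 324)) (nat_lit 0) (nat_lit 8) = true := by decide +kernel
theorem sl1_h : 0 < sl1.n ∧ 0 < sl1.K ∧ sl1.Pt 0 < 324 ∧ sl1.Q (sl1.Pt 0) = 0 := by decide +kernel
theorem sl2_e_0 : allZ (dent sl2 (wdsP sP se) (nat_lit 324)) (nat_lit 0) (nat_lit 2) = true := by decide +kernel
theorem sl2_h : 0 < sl2.n ∧ 0 < sl2.K ∧ sl2.Pt 0 < 324 ∧ sl2.Q (sl2.Pt 0) = 0 := by decide +kernel
theorem sl3_e_0 : allZ (dent sl3 (wdsP sP se) (nat_lit 324)) (nat_lit 0) (nat_lit 2) = true := by decide +kernel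
theorem sl3_h : 0 < sl3.n ∧ 0 < sl3.K ∧ sl3.Pt 0 < 324 ∧ sl3.Q (sl3.Pt 0) = 0 := by decide +kernel
theorem sl4_e_0 : allZ (dent sl4 (wdsP sP se) (nat_lit 324)) (nat_lit 0) (nat_lit 2) = true := by decide +kernel
theorem sl4_h : 0 < sl4.n ∧ 0 < sl4.K ∧ sl4.Pt 0 < 324 ∧ sl4.Q (sl4.Pt 0) = 0 := by decide +kernel
theorem s_f4 : (Nat.ble sl4.K 13 && Nat.ble (topK []) sl4.K && fixLetters (wdsP sP se) (topK []) (sl4.Pt 0)) = true := by decide +kernel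
theorem s_f3 : (Nat.ble sl3.K 13 && Nat.ble (topK [sl4]) sl3.K && fixLetters (wdsP sP se) (topK [sl4]) (sl3.Pt 0)) = true := by decide +kernel
theorem s_f2 : (Nat.ble sl2.K 13 && Nat.ble (topK [sl3, sl4]) sl2.K && fixLetters (wdsP sP se) (topK [sl3, sl4]) (sl2.Pt 0)) = true := by decide +kernel
theorem s_f1 : (Nat.ble sl1.K 13 && Nat.ble (topK [sl2, sl3, sl4]) sl1.K && fixLetters (wdsP sP se) (topK [sl2, sl3, sl4]) (sl1.Pt 0)) = true := by decide +kernel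
theorem s_f0 : (Nat.ble sl0.K 13 && Nat.ble (topK [sl1, sl2, sl3, sl4]) sl0.K && fixLetters (wdsP sP se) (topK [sl1, sl2, sl3, sl4]) (sl0.Pt 0)) = true := by decide +kernel
theorem s_c : chainCard [sl0, sl1, sl2, sl3, sl4] = 3 ^ 9 ∧ ¬ 3 ^ (9 + 1) ∣ 4585351680 := by decide +kernel
theorem covr_lt : allL (ltAll 7) covr_W = true := by decide +kernel
theorem cov_c0 : (Nat.ble 8 9 && Nat.beq (ltAll 9 []) 0 && Nat.beq (covT0.chk H16.O73.P sP covr_P sE 7 9 3 3 7 sB 8 [] 0) 0) = true := by decide +kernel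
theorem cov_c1 : (Nat.ble 8 9 && Nat.beq (ltAll 9 [nat_lit 8]) 0 && Nat.beq (covT1.chk H16.O73.P sP covr_P sE 7 9 3 3 7 sB 8 [nat_lit 8] 0) 0) = true := by decide +kernel
theorem cov_c2 : (Nat.ble 8 9 && Nat.beq (ltAll 9 [nat_lit 8, nat_lit 8]) 0 && Nat.beq (covT2.chk H16.O73.P sP covr_P sE 7 9 3 3 7 sB 8 [nat_lit 8, nat_lit 8] 0) 0) = true := by decide +kernel
theorem p0_k : fixL covr_P 7 H16.O73.B (List.replicate 3 0) = 0 := by decide +kernel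
theorem n0_k : 0 < 351 ∧ ltAll 7 (List.replicate 1 0) = 0 ∧ ltAll 7 [] = 0 ∧ apW covr_P (List.replicate 1 0) 0 ≠ apW covr_P [] 0 := by decide +kernel
theorem c0x_lt : allL (ltAll 7) c0x_W = true := by decide +kernel
theorem c0th_lt : allL (ltAll 7) c0th_W = true := by decide +kernel
theorem c0tl0_e_0 : allZ (dent c0tl0 c0th_P (nat_lit 351)) (nat_lit 0) (nat_lit 350) = true := by decide +kernel
theorem c0tl0_h : 0 < c0tl0.n ∧ 0 < c0tl0.K ∧ c0tl0.Pt 0 < 351 ∧ c0tl0.Q (c0tl0.Pt 0) = 0 := by decide +kernel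
theorem c0tl1_e_0 : allZ (dent c0tl1 c0th_P (nat_lit 351)) (nat_lit 0) (nat_lit 223) = true := by decide +kernel
theorem c0tl1_h : 0 < c0tl1.n ∧ 0 < c0tl1.K ∧ c0tl1.Pt 0 < 351 ∧ c0tl1.Q (c0tl1.Pt 0) = 0 := by decide +kernel
theorem c0tl2_e_0 : allZ (dent c0tl2 c0th_P (nat_lit 351)) (nat_lit 0) (nat_lit 44) = true := by decide +kernel
theorem c0tl2_h : 0 < c0tl2.n ∧ 0 < c0tl2.K ∧ c0tl2.Pt 0 < 351 ∧ c0tl2.Q (c0tl2.Pt 0) = 0 := by decide +kernel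
theorem c0tl3_e_0 : allZ (dent c0tl3 c0th_P (nat_lit 351)) (nat_lit 0) (nat_lit 1) = true := by decide +kernel
theorem c0tl3_h : 0 < c0tl3.n ∧ 0 < c0tl3.K ∧ c0tl3.Pt 0 < 351 ∧ c0tl3.Q (c0tl3.Pt 0) = 0 := by decide +kernel
theorem c0tl4_e_0 : allZ (dent c0tl4 c0th_P (nat_lit 351)) (nat_lit 0) (nat_lit 11) = true := by decide +kernel
theorem c0tl4_h : 0 < c0tl4.n ∧ 0 < c0tl4.K ∧ c0tl4.Pt 0 < 351 ∧ c0tl4.Q (c0tl4.Pt 0) = 0 := by decide +kernel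
theorem c0tl5_e_0 : allZ (dent c0tl5 c0th_P (nat_lit 351)) (nat_lit 0) (nat_lit 8) = true := by decide +kernel
theorem c0tl5_h : 0 < c0tl5.n ∧ 0 < c0tl5.K ∧ c0tl5.Pt 0 < 351 ∧ c0tl5.Q (c0tl5.Pt 0) = 0 := by decide +kernel
theorem c0tl6_e_0 : allZ (dent c0tl6 c0th_P (nat_lit 351)) (nat_lit 0) (nat_lit 2) = true := by decide +kernel
theorem c0tl6_h : 0 < c0tl6.n ∧ 0 < c0tl6.K ∧ c0tl6.Pt 0 < 351 ∧ c0tl6.Q (c0tl6.Pt 0) = 0 := by decide +kernel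
theorem c0tl7_e_0 : allZ (dent c0tl7 c0th_P (nat_lit 351)) (nat_lit 0) (nat_lit 1) = true := by decide +kernel
theorem c0tl7_h : 0 < c0tl7.n ∧ 0 < c0tl7.K ∧ c0tl7.Pt 0 < 351 ∧ c0tl7.Q (c0tl7.Pt 0) = 0 := by decide +kernel
theorem c0t_f7 : (Nat.ble c0tl7.K 15 && Nat.ble (topK []) c0tl7.K && fixLetters c0th_P (topK []) (c0tl7.Pt 0)) = true := by decide +kernel
theorem c0t_f6 : (Nat.ble c0tl6.K 15 && Nat.ble (topK [c0tl7]) c0tl6.K && fixLetters c0th_P (topK [c0tl7]) (c0tl6.Pt 0)) = true := by decide +kernel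
theorem c0t_f5 : (Nat.ble c0tl5.K 15 && Nat.ble (topK [c0tl6, c0tl7]) c0tl5.K && fixLetters c0th_P (topK [c0tl6, c0tl7]) (c0tl5.Pt 0)) = true := by decide +kernel
theorem c0t_f4 : (Nat.ble c0tl4.K 15 && Nat.ble (topK [c0tl5, c0tl6, c0tl7]) c0tl4.K && fixLetters c0th_P (topK [c0tl5, c0tl6, c0tl7]) (c0tl4.Pt 0)) = true := by decide +kernel
theorem c0t_f3 : (Nat.ble c0tl3.K 15 && Nat.ble (topK [c0tl4, c0tl5, c0tl6, c0tl7]) c0tl3.K && fixLetters c0th_P (topK [c0tl4, c0tl5, c0tl6, c0tl7]) (c0tl3.Pt 0)) = true := by decide +kernel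
theorem c0t_f2 : (Nat.ble c0tl2.K 15 && Nat.ble (topK [c0tl3, c0tl4, c0tl5, c0tl6, c0tl7]) c0tl2.K && fixLetters c0th_P (topK [c0tl3, c0tl4, c0tl5, c0tl6, c0tl7]) (c0tl2.Pt 0)) = true := by decide +kernel
theorem c0t_f1 : (Nat.ble c0tl1.K 15 && Nat.ble (topK [c0tl2, c0tl3, c0tl4, c0tl5, c0tl6, c0tl7]) c0tl1.K && fixLetters c0th_P (topK [c0tl2, c0tl3, c0tl4, c0tl5, c0tl6, c0tl7]) (c0tl1.Pt 0)) = true := by decide +kernel
theorem c0t_f0 : (Nat.ble c0tl0.K 15 && Nat.ble (topK [c0tl1, c0tl2, c0tl3, c0tl4, c0tl5, c0tl6, c0tl7]) c0tl0.K && fixLetters c0th_P (topK [c0tl1, c0tl2, c0tl3, c0tl4, c0tl5, c0tl6, c0tl7]) (c0tl0.Pt 0)) = true := by decide +kernel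
theorem c0t_c : chainCard [c0tl0, c0tl1, c0tl2, c0tl3, c0tl4, c0tl5, c0tl6, c0tl7] = 4585351680 := by decide +kernel
theorem c0ce_lt : allL (ltAll 7) c0ce_W = true := by decide +kernel
theorem c0cc7_e_0 : allZ (dent c0cc7 c0ce_P (nat_lit 351)) (nat_lit 0) (nat_lit 1) = true := by decide +kernel
theorem c0cc7_h : 0 < c0cc7.n ∧ 0 < c0cc7.K ∧ c0cc7.Pt 0 < 351 ∧ c0cc7.Q (c0cc7.Pt 0) = 0 := by decide +kernel
theorem c0tn0_0 : (Nat.ble c0tl7.K 15 && Nat.beq (ltAll 351 [c0tl6.Pt 0, c0tl5.Pt 0, c0tl4.Pt 0, c0tl3.Pt 0, c0tl2.Pt 0, c0tl1.Pt 0, c0tl0.Pt 0]) 0 && kChk c0ce_P c0x_P c0tn0.Kn 1 H16.O73.B [c0tl6.Pt 0, c0tl5.Pt 0, c0tl4.Pt 0, c0tl3.Pt 0, c0tl2.Pt 0, c0tl1.Pt 0, c0tl0.Pt 0] && allL (ltAll 1) c0tn0.pre && planOK c0th_P c0x_P 1 (c0tl7.Pt 0) c0tn0.plan [c0tl7]) = true := by decide +kernel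
theorem c0tn0_1_0 : allZ (c0tn0.ent H16.O73.P c0th_P c0x_P c0x_P c0ce_P (nat_lit 7) (nat_lit 1) H16.O73.B c0tl7 [] (memO c0cc7)) (nat_lit 0) (nat_lit 2) = true := by decide +kernel
theorem c0c_f7 : (Nat.ble c0cc7.K 7 && Nat.ble (topK []) c0cc7.K && Nat.beq (c0cc7.Pt 0) (c0tl7.Pt 0) && Nat.beq (ltAll 351 [c0tl6.Pt 0, c0tl5.Pt 0, c0tl4.Pt 0, c0tl3.Pt 0, c0tl2.Pt 0, c0tl1.Pt 0, c0tl0.Pt 0]) 0 && kChk c0ce_P c0x_P c0cc7.K 1 H16.O73.B [c0tl6.Pt 0, c0tl5.Pt 0, c0tl4.Pt 0, c0tl3.Pt 0, c0tl2.Pt 0, c0tl1.Pt 0, c0tl0.Pt 0]) = true := by decide +kernel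
theorem c0cc6_e_0 : allZ (dent c0cc6 c0ce_P (nat_lit 351)) (nat_lit 0) (nat_lit 2) = true := by decide +kernel
theorem c0cc6_h : 0 < c0cc6.n ∧ 0 < c0cc6.K ∧ c0cc6.Pt 0 < 351 ∧ c0cc6.Q (c0cc6.Pt 0) = 0 := by decide +kernel
theorem c0tn1_0 : (Nat.ble c0tl6.K 15 && Nat.beq (ltAll 351 [c0tl5.Pt 0, c0tl4.Pt 0, c0tl3.Pt 0, c0tl2.Pt 0, c0tl1.Pt 0, c0tl0.Pt 0]) 0 && kChk c0ce_P c0x_P c0tn1.Kn 1 H16.O73.B [c0tl5.Pt 0, c0tl4.Pt 0, c0tl3.Pt 0, c0tl2.Pt 0, c0tl1.Pt 0, c0tl0.Pt 0] && allL (ltAll 1) c0tn1.pre && planOK c0th_P c0x_P 1 (c0tl6.Pt 0) c0tn1.plan [c0tl6, c0tl7]) = true := by decide +kernel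
theorem c0tn1_1_0 : allZ (c0tn1.ent H16.O73.P c0th_P c0x_P c0x_P c0ce_P (nat_lit 7) (nat_lit 1) H16.O73.B c0tl6 [c0tl7] (memO c0cc6)) (nat_lit 0) (nat_lit 3) = true := by decide +kernel
theorem c0c_f6 : (Nat.ble c0cc6.K 7 && Nat.ble (topK [c0cc7]) c0cc6.K && Nat.beq (c0cc6.Pt 0) (c0tl6.Pt 0) && Nat.beq (ltAll 351 [c0tl5.Pt 0, c0tl4.Pt 0, c0tl3.Pt 0, c0tl2.Pt 0, c0tl1.Pt 0, c0tl0.Pt 0]) 0 && kChk c0ce_P c0x_P c0cc6.K 1 H16.O73.B [c0tl5.Pt 0, c0tl4.Pt 0, c0tl3.Pt 0, c0tl2.Pt 0, c0tl1.Pt 0, c0tl0.Pt 0]) = true := by decide +kernel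
theorem c0cc5_e_0 : allZ (dent c0cc5 c0ce_P (nat_lit 351)) (nat_lit 0) (nat_lit 2) = true := by decide +kernel
theorem c0cc5_h : 0 < c0cc5.n ∧ 0 < c0cc5.K ∧ c0cc5.Pt 0 < 351 ∧ c0cc5.Q (c0cc5.Pt 0) = 0 := by decide +kernel
theorem c0tn2_0 : (Nat.ble c0tl5.K 15 && Nat.beq (ltAll 351 [c0tl4.Pt 0, c0tl3.Pt 0, c0tl2.Pt 0, c0tl1.Pt 0, c0tl0.Pt 0]) 0 && kChk c0ce_P c0x_P c0tn2.Kn 1 H16.O73.B [c0tl4.Pt 0, c0tl3.Pt 0, c0tl2.Pt 0, c0tl1.Pt 0, c0tl0.Pt 0] && allL (ltAll 1) c0tn2.pre && planOK c0th_P c0x_P 1 (c0tl5.Pt 0) c0tn2.plan [c0tl5, c0tl6, c0tl7]) = true := by decide +kernel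
theorem c0tn2_1_0 : allZ (c0tn2.ent H16.O73.P c0th_P c0x_P c0x_P c0ce_P (nat_lit 7) (nat_lit 1) H16.O73.B c0tl5 [c0tl6, c0tl7] (memO c0cc5)) (nat_lit 0) (nat_lit 9) = true := by decide +kernel
theorem c0c_f5 : (Nat.ble c0cc5.K 7 && Nat.ble (topK [c0cc6, c0cc7]) c0cc5.K && Nat.beq (c0cc5.Pt 0) (c0tl5.Pt 0) && Nat.beq (ltAll 351 [c0tl4.Pt 0, c0tl3.Pt 0, c0tl2.Pt 0, c0tl1.Pt 0, c0tl0.Pt 0]) 0 && kChk c0ce_P c0x_P c0cc5.K 1 H16.O73.B [c0tl4.Pt 0, c0tl3.Pt 0, c0tl2.Pt 0, c0tl1.Pt 0, c0tl0.Pt 0]) = true := by decide +kernel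
theorem c0cc4_e_0 : allZ (dent c0cc4 c0ce_P (nat_lit 351)) (nat_lit 0) (nat_lit 5) = true := by decide +kernel
theorem c0cc4_h : 0 < c0cc4.n ∧ 0 < c0cc4.K ∧ c0cc4.Pt 0 < 351 ∧ c0cc4.Q (c0cc4.Pt 0) = 0 := by decide +kernel
theorem c0tn3_0 : (Nat.ble c0tl4.K 15 && Nat.beq (ltAll 351 [c0tl3.Pt 0, c0tl2.Pt 0, c0tl1.Pt 0, c0tl0.Pt 0]) 0 && kChk c0ce_P c0x_P c0tn3.Kn 1 H16.O73.B [c0tl3.Pt 0, c0tl2.Pt 0, c0tl1.Pt 0, c0tl0.Pt 0] && allL (ltAll 1) c0tn3.pre && planOK c0th_P c0x_P 1 (c0tl4.Pt 0) c0tn3.plan [c0tl4, c0tl5, c0tl6, c0tl7]) = true := by decide +kernel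
theorem c0tn3_1_0 : allZ (c0tn3.ent H16.O73.P c0th_P c0x_P c0x_P c0ce_P (nat_lit 7) (nat_lit 1) H16.O73.B c0tl4 [c0tl5, c0tl6, c0tl7] (memO c0cc4)) (nat_lit 0) (nat_lit 12) = true := by decide +kernel
theorem c0c_f4 : (Nat.ble c0cc4.K 7 && Nat.ble (topK [c0cc5, c0cc6, c0cc7]) c0cc4.K && Nat.beq (c0cc4.Pt 0) (c0tl4.Pt 0) && Nat.beq (ltAll 351 [c0tl3.Pt 0, c0tl2.Pt 0, c0tl1.Pt 0, c0tl0.Pt 0]) 0 && kChk c0ce_P c0x_P c0cc4.K 1 H16.O73.B [c0tl3.Pt 0, c0tl2.Pt 0, c0tl1.Pt 0, c0tl0.Pt 0]) = true := by decide +kernel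
theorem c0c_f3 : (Nat.ble c0tl3.K 15 && Nat.blt (nat_lit 13) 351 && fixLetters c0th_P c0tl3.K (nat_lit 13) && Nat.beq (ltAll 1 [nat_lit 0]) 0 && Nat.beq (apW c0x_P [nat_lit 0] (nat_lit 13)) (c0tl3.Pt 0)) = true := by decide +kernel
theorem c0cc2_e_0 : allZ (dent c0cc2 c0ce_P (nat_lit 351)) (nat_lit 0) (nat_lit 26) = true := by decide +kernel
theorem c0cc2_h : 0 < c0cc2.n ∧ 0 < c0cc2.K ∧ c0cc2.Pt 0 < 351 ∧ c0cc2.Q (c0cc2.Pt 0) = 0 := by decide +kernel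
theorem c0tn4_0 : (Nat.ble c0tl2.K 15 && Nat.beq (ltAll 351 [c0tl1.Pt 0, c0tl0.Pt 0]) 0 && kChk c0ce_P c0x_P c0tn4.Kn 1 H16.O73.B [c0tl1.Pt 0, c0tl0.Pt 0] && allL (ltAll 1) c0tn4.pre && planOK c0th_P c0x_P 1 (c0tl2.Pt 0) c0tn4.plan [c0tl2, c0tl3, c0tl4, c0tl5, c0tl6, c0tl7]) = true := by decide +kernel
theorem c0tn4_1_0 : allZ (c0tn4.ent H16.O73.P c0th_P c0x_P c0x_P c0ce_P (nat_lit 7) (nat_lit 1) H16.O73.B c0tl2 [c0tl3, c0tl4, c0tl5, c0tl6, c0tl7] (memO c0cc2)) (nat_lit 0) (nat_lit 45) = true := by decide +kernel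
theorem c0c_f2 : (Nat.ble c0cc2.K 7 && Nat.ble (topK [c0cc4, c0cc5, c0cc6, c0cc7]) c0cc2.K && Nat.beq (c0cc2.Pt 0) (c0tl2.Pt 0) && Nat.beq (ltAll 351 [c0tl1.Pt 0, c0tl0.Pt 0]) 0 && kChk c0ce_P c0x_P c0cc2.K 1 H16.O73.B [c0tl1.Pt 0, c0tl0.Pt 0]) = true := by decide +kernel
theorem c0cc1_e_0 : allZ (dent c0cc1 c0ce_P (nat_lit 351)) (nat_lit 0) (nat_lit 7) = true := by decide +kernel
theorem c0cc1_h : 0 < c0cc1.n ∧ 0 < c0cc1.K ∧ c0cc1.Pt 0 < 351 ∧ c0cc1.Q (c0cc1.Pt 0) = 0 := by decide +kernel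
theorem c0tn5_0 : (Nat.ble c0tl1.K 15 && Nat.beq (ltAll 351 [c0tl0.Pt 0]) 0 && kChk c0ce_P c0x_P c0tn5.Kn 1 H16.O73.B [c0tl0.Pt 0] && allL (ltAll 1) c0tn5.pre && planOK c0th_P c0x_P 1 (c0tl1.Pt 0) c0tn5.plan [c0tl1, c0tl2, c0tl3, c0tl4, c0tl5, c0tl6, c0tl7]) = true := by decide +kernel
theorem c0tn5_1_0 : allZ (c0tn5.ent H16.O73.P c0th_P c0x_P c0x_P c0ce_P (nat_lit 7) (nat_lit 1) H16.O73.B c0tl1 [c0tl2, c0tl3, c0tl4, c0tl5, c0tl6, c0tl7] (memO c0cc1)) (nat_lit 0) (nat_lit 224) = true := by decide +kernel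
theorem c0c_f1 : (Nat.ble c0cc1.K 7 && Nat.ble (topK [c0cc2, c0cc4, c0cc5, c0cc6, c0cc7]) c0cc1.K && Nat.beq (c0cc1.Pt 0) (c0tl1.Pt 0) && Nat.beq (ltAll 351 [c0tl0.Pt 0]) 0 && kChk c0ce_P c0x_P c0cc1.K 1 H16.O73.B [c0tl0.Pt 0]) = true := by decide +kernel
theorem c0cc0_e_0 : allZ (dent c0cc0 c0ce_P (nat_lit 351)) (nat_lit 0) (nat_lit 26) = true := by decide +kernel
theorem c0cc0_h : 0 < c0cc0.n ∧ 0 < c0cc0.K ∧ c0cc0.Pt 0 < 351 ∧ c0cc0.Q (c0cc0.Pt 0) = 0 := by decide +kernel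
theorem c0tn6_0 : (Nat.ble c0tl0.K 15 && Nat.beq (ltAll 351 []) 0 && kChk c0ce_P c0x_P c0tn6.Kn 1 H16.O73.B [] && allL (ltAll 1) c0tn6.pre && planOK c0th_P c0x_P 1 (c0tl0.Pt 0) c0tn6.plan [c0tl0, c0tl1, c0tl2, c0tl3, c0tl4, c0tl5, c0tl6, c0tl7]) = true := by decide +kernel
theorem c0tn6_1_0 : allZ (c0tn6.ent H16.O73.P c0th_P c0x_P c0x_P c0ce_P (nat_lit 7) (nat_lit 1) H16.O73.B c0tl0 [c0tl1, c0tl2, c0tl3, c0tl4, c0tl5, c0tl6, c0tl7] (memO c0cc0)) (nat_lit 0) (nat_lit 351) = true := by decide +kernel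
theorem c0c_f0 : (Nat.ble c0cc0.K 7 && Nat.ble (topK [c0cc1, c0cc2, c0cc4, c0cc5, c0cc6, c0cc7]) c0cc0.K && Nat.beq (c0cc0.Pt 0) (c0tl0.Pt 0) && Nat.beq (ltAll 351 []) 0 && kChk c0ce_P c0x_P c0cc0.K 1 H16.O73.B []) = true := by decide +kernel
theorem c0c_c : chainCard [c0cc0, c0cc1, c0cc2, c0cc4, c0cc5, c0cc6, c0cc7] = 629856 ∧ topK [c0cc0, c0cc1, c0cc2, c0cc4, c0cc5, c0cc6, c0cc7] = 7 := by decide +kernel
theorem p1_k : fixL covr_P 7 H16.O73.B (List.replicate 3 1) = 0 := by decide +kernel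
theorem n1_k : 310 < 351 ∧ ltAll 7 (List.replicate 1 1) = 0 ∧ ltAll 7 [] = 0 ∧ apW covr_P (List.replicate 1 1) 310 ≠ apW covr_P [] 310 := by decide +kernel
theorem c1x_lt : allL (ltAll 7) c1x_W = true := by decide +kernel
theorem c1th_lt : allL (ltAll 7) c1th_W = true := by decide +kernel
theorem c1tl0_e_0 : allZ (dent c1tl0 c1th_P (nat_lit 351)) (nat_lit 0) (nat_lit 350) = true := by decide +kernel
theorem c1tl0_h : 0 < c1tl0.n ∧ 0 < c1tl0.K ∧ c1tl0.Pt 0 < 351 ∧ c1tl0.Q (c1tl0.Pt 0) = 0 := by decide +kernel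
theorem c1tl1_e_0 : allZ (dent c1tl1 c1th_P (nat_lit 351)) (nat_lit 0) (nat_lit 223) = true := by decide +kernel
theorem c1tl1_h : 0 < c1tl1.n ∧ 0 < c1tl1.K ∧ c1tl1.Pt 0 < 351 ∧ c1tl1.Q (c1tl1.Pt 0) = 0 := by decide +kernel
theorem c1tl2_e_0 : allZ (dent c1tl2 c1th_P (nat_lit 351)) (nat_lit 0) (nat_lit 44) = true := by decide +kernel
theorem c1tl2_h : 0 < c1tl2.n ∧ 0 < c1tl2.K ∧ c1tl2.Pt 0 < 351 ∧ c1tl2.Q (c1tl2.Pt 0) = 0 := by decide +kernel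
theorem c1tl3_e_0 : allZ (dent c1tl3 c1th_P (nat_lit 351)) (nat_lit 0) (nat_lit 1) = true := by decide +kernel
theorem c1tl3_h : 0 < c1tl3.n ∧ 0 < c1tl3.K ∧ c1tl3.Pt 0 < 351 ∧ c1tl3.Q (c1tl3.Pt 0) = 0 := by decide +kernel
theorem c1tl4_e_0 : allZ (dent c1tl4 c1th_P (nat_lit 351)) (nat_lit 0) (nat_lit 11) = true := by decide +kernel
theorem c1tl4_h : 0 < c1tl4.n ∧ 0 < c1tl4.K ∧ c1tl4.Pt 0 < 351 ∧ c1tl4.Q (c1tl4.Pt 0) = 0 := by decide +kernel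
theorem c1tl5_e_0 : allZ (dent c1tl5 c1th_P (nat_lit 351)) (nat_lit 0) (nat_lit 8) = true := by decide +kernel
theorem c1tl5_h : 0 < c1tl5.n ∧ 0 < c1tl5.K ∧ c1tl5.Pt 0 < 351 ∧ c1tl5.Q (c1tl5.Pt 0) = 0 := by decide +kernel
theorem c1tl6_e_0 : allZ (dent c1tl6 c1th_P (nat_lit 351)) (nat_lit 0) (nat_lit 2) = true := by decide +kernel
theorem c1tl6_h : 0 < c1tl6.n ∧ 0 < c1tl6.K ∧ c1tl6.Pt 0 < 351 ∧ c1tl6.Q (c1tl6.Pt 0) = 0 := by decide +kernel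
theorem c1tl7_e_0 : allZ (dent c1tl7 c1th_P (nat_lit 351)) (nat_lit 0) (nat_lit 1) = true := by decide +kernel
theorem c1tl7_h : 0 < c1tl7.n ∧ 0 < c1tl7.K ∧ c1tl7.Pt 0 < 351 ∧ c1tl7.Q (c1tl7.Pt 0) = 0 := by decide +kernel
theorem c1t_f7 : (Nat.ble c1tl7.K 15 && Nat.ble (topK []) c1tl7.K && fixLetters c1th_P (topK []) (c1tl7.Pt 0)) = true := by decide +kernel
theorem c1t_f6 : (Nat.ble c1tl6.K 15 && Nat.ble (topK [c1tl7]) c1tl6.K && fixLetters c1th_P (topK [c1tl7]) (c1tl6.Pt 0)) = true := by decide +kernel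
theorem c1t_f5 : (Nat.ble c1tl5.K 15 && Nat.ble (topK [c1tl6, c1tl7]) c1tl5.K && fixLetters c1th_P (topK [c1tl6, c1tl7]) (c1tl5.Pt 0)) = true := by decide +kernel
theorem c1t_f4 : (Nat.ble c1tl4.K 15 && Nat.ble (topK [c1tl5, c1tl6, c1tl7]) c1tl4.K && fixLetters c1th_P (topK [c1tl5, c1tl6, c1tl7]) (c1tl4.Pt 0)) = true := by decide +kernel
theorem c1t_f3 : (Nat.ble c1tl3.K 15 && Nat.ble (topK [c1tl4, c1tl5, c1tl6, c1tl7]) c1tl3.K && fixLetters c1th_P (topK [c1tl4, c1tl5, c1tl6, c1tl7]) (c1tl3.Pt 0)) = true := by decide +kernel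
theorem c1t_f2 : (Nat.ble c1tl2.K 15 && Nat.ble (topK [c1tl3, c1tl4, c1tl5, c1tl6, c1tl7]) c1tl2.K && fixLetters c1th_P (topK [c1tl3, c1tl4, c1tl5, c1tl6, c1tl7]) (c1tl2.Pt 0)) = true := by decide +kernel
theorem c1t_f1 : (Nat.ble c1tl1.K 15 && Nat.ble (topK [c1tl2, c1tl3, c1tl4, c1tl5, c1tl6, c1tl7]) c1tl1.K && fixLetters c1th_P (topK [c1tl2, c1tl3, c1tl4, c1tl5, c1tl6, c1tl7]) (c1tl1.Pt 0)) = true := by decide +kernel
theorem c1t_f0 : (Nat.ble c1tl0.K 15 && Nat.ble (topK [c1tl1, c1tl2, c1tl3, c1tl4, c1tl5, c1tl6, c1tl7]) c1tl0.K && fixLetters c1th_P (topK [c1tl1, c1tl2, c1tl3, c1tl4, c1tl5, c1tl6, c1tl7]) (c1tl0.Pt 0)) = true := by decide +kernel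
theorem c1t_c : chainCard [c1tl0, c1tl1, c1tl2, c1tl3, c1tl4, c1tl5, c1tl6, c1tl7] = 4585351680 := by decide +kernel
theorem c1ce_lt : allL (ltAll 7) c1ce_W = true := by decide +kernel
theorem c1cc7_e_0 : allZ (dent c1cc7 c1ce_P (nat_lit 351)) (nat_lit 0) (nat_lit 1) = true := by decide +kernel
theorem c1cc7_h : 0 < c1cc7.n ∧ 0 < c1cc7.K ∧ c1cc7.Pt 0 < 351 ∧ c1cc7.Q (c1cc7.Pt 0) = 0 := by decide +kernel
theorem c1tn0_0 : (Nat.ble c1tl7.K 15 && Nat.beq (ltAll 351 [c1tl6.Pt 0, c1tl5.Pt 0, c1tl4.Pt 0, c1tl3.Pt 0, c1tl2.Pt 0, c1tl1.Pt 0, c1tl0.Pt 0]) 0 && kChk c1ce_P c1x_P c1tn0.Kn 1 H16.O73.B [c1tl6.Pt 0, c1tl5.Pt 0, c1tl4.Pt 0, c1tl3.Pt 0, c1tl2.Pt 0, c1tl1.Pt 0, c1tl0.Pt 0] && allL (ltAll 1) c1tn0.pre && planOK c1th_P c1x_P 1 (c1tl7.Pt 0) c1tn0.plan [c1tl7]) = true := by decide +kernel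
theorem c1tn0_1_0 : allZ (c1tn0.ent H16.O73.P c1th_P c1x_P c1x_P c1ce_P (nat_lit 7) (nat_lit 1) H16.O73.B c1tl7 [] (memO c1cc7)) (nat_lit 0) (nat_lit 2) = true := by decide +kernel
theorem c1c_f7 : (Nat.ble c1cc7.K 9 && Nat.ble (topK []) c1cc7.K && Nat.beq (c1cc7.Pt 0) (c1tl7.Pt 0) && Nat.beq (ltAll 351 [c1tl6.Pt 0, c1tl5.Pt 0, c1tl4.Pt 0, c1tl3.Pt 0, c1tl2.Pt 0, c1tl1.Pt 0, c1tl0.Pt 0]) 0 && kChk c1ce_P c1x_P c1cc7.K 1 H16.O73.B [c1tl6.Pt 0, c1tl5.Pt 0, c1tl4.Pt 0, c1tl3.Pt 0, c1tl2.Pt 0, c1tl1.Pt 0, c1tl0.Pt 0]) = true := by decide +kernel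
theorem c1cc6_e_0 : allZ (dent c1cc6 c1ce_P (nat_lit 351)) (nat_lit 0) (nat_lit 2) = true := by decide +kernel
theorem c1cc6_h : 0 < c1cc6.n ∧ 0 < c1cc6.K ∧ c1cc6.Pt 0 < 351 ∧ c1cc6.Q (c1cc6.Pt 0) = 0 := by decide +kernel
theorem c1tn1_0 : (Nat.ble c1tl6.K 15 && Nat.beq (ltAll 351 [c1tl5.Pt 0, c1tl4.Pt 0, c1tl3.Pt 0, c1tl2.Pt 0, c1tl1.Pt 0, c1tl0.Pt 0]) 0 && kChk c1ce_P c1x_P c1tn1.Kn 1 H16.O73.B [c1tl5.Pt 0, c1tl4.Pt 0, c1tl3.Pt 0, c1tl2.Pt 0, c1tl1.Pt 0, c1tl0.Pt 0] && allL (ltAll 1) c1tn1.pre && planOK c1th_P c1x_P 1 (c1tl6.Pt 0) c1tn1.plan [c1tl6, c1tl7]) = true := by decide +kernel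
theorem c1tn1_1_0 : allZ (c1tn1.ent H16.O73.P c1th_P c1x_P c1x_P c1ce_P (nat_lit 7) (nat_lit 1) H16.O73.B c1tl6 [c1tl7] (memO c1cc6)) (nat_lit 0) (nat_lit 3) = true := by decide +kernel
theorem c1c_f6 : (Nat.ble c1cc6.K 9 && Nat.ble (topK [c1cc7]) c1cc6.K && Nat.beq (c1cc6.Pt 0) (c1tl6.Pt 0) && Nat.beq (ltAll 351 [c1tl5.Pt 0, c1tl4.Pt 0, c1tl3.Pt 0, c1tl2.Pt 0, c1tl1.Pt 0, c1tl0.Pt 0]) 0 && kChk c1ce_P c1x_P c1cc6.K 1 H16.O73.B [c1tl5.Pt 0, c1tl4.Pt 0, c1tl3.Pt 0, c1tl2.Pt 0, c1tl1.Pt 0, c1tl0.Pt 0]) = true := by decide +kernel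
theorem c1cc5_e_0 : allZ (dent c1cc5 c1ce_P (nat_lit 351)) (nat_lit 0) (nat_lit 8) = true := by decide +kernel
theorem c1cc5_h : 0 < c1cc5.n ∧ 0 < c1cc5.K ∧ c1cc5.Pt 0 < 351 ∧ c1cc5.Q (c1cc5.Pt 0) = 0 := by decide +kernel
theorem c1tn2_0 : (Nat.ble c1tl5.K 15 && Nat.beq (ltAll 351 [c1tl4.Pt 0, c1tl3.Pt 0, c1tl2.Pt 0, c1tl1.Pt 0, c1tl0.Pt 0]) 0 && kChk c1ce_P c1x_P c1tn2.Kn 1 H16.O73.B [c1tl4.Pt 0, c1tl3.Pt 0, c1tl2.Pt 0, c1tl1.Pt 0, c1tl0.Pt 0] && allL (ltAll 1) c1tn2.pre && planOK c1th_P c1x_P 1 (c1tl5.Pt 0) c1tn2.plan [c1tl5, c1tl6, c1tl7]) = true := by decide +kernel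
theorem c1tn2_1_0 : allZ (c1tn2.ent H16.O73.P c1th_P c1x_P c1x_P c1ce_P (nat_lit 7) (nat_lit 1) H16.O73.B c1tl5 [c1tl6, c1tl7] (memO c1cc5)) (nat_lit 0) (nat_lit 9) = true := by decide +kernel
theorem c1c_f5 : (Nat.ble c1cc5.K 9 && Nat.ble (topK [c1cc6, c1cc7]) c1cc5.K && Nat.beq (c1cc5.Pt 0) (c1tl5.Pt 0) && Nat.beq (ltAll 351 [c1tl4.Pt 0, c1tl3.Pt 0, c1tl2.Pt 0, c1tl1.Pt 0, c1tl0.Pt 0]) 0 && kChk c1ce_P c1x_P c1cc5.K 1 H16.O73.B [c1tl4.Pt 0, c1tl3.Pt 0, c1tl2.Pt 0, c1tl1.Pt 0, c1tl0.Pt 0]) = true := by decide +kernel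
theorem c1cc4_e_0 : allZ (dent c1cc4 c1ce_P (nat_lit 351)) (nat_lit 0) (nat_lit 11) = true := by decide +kernel
theorem c1cc4_h : 0 < c1cc4.n ∧ 0 < c1cc4.K ∧ c1cc4.Pt 0 < 351 ∧ c1cc4.Q (c1cc4.Pt 0) = 0 := by decide +kernel
theorem c1tn3_0 : (Nat.ble c1tl4.K 15 && Nat.beq (ltAll 351 [c1tl3.Pt 0, c1tl2.Pt 0, c1tl1.Pt 0, c1tl0.Pt 0]) 0 && kChk c1ce_P c1x_P c1tn3.Kn 1 H16.O73.B [c1tl3.Pt 0, c1tl2.Pt 0, c1tl1.Pt 0, c1tl0.Pt 0] && allL (ltAll 1) c1tn3.pre && planOK c1th_P c1x_P 1 (c1tl4.Pt 0) c1tn3.plan [c1tl4, c1tl5, c1tl6, c1tl7]) = true := by decide +kernel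
theorem c1tn3_1_0 : allZ (c1tn3.ent H16.O73.P c1th_P c1x_P c1x_P c1ce_P (nat_lit 7) (nat_lit 1) H16.O73.B c1tl4 [c1tl5, c1tl6, c1tl7] (memO c1cc4)) (nat_lit 0) (nat_lit 12) = true := by decide +kernel
theorem c1c_f4 : (Nat.ble c1cc4.K 9 && Nat.ble (topK [c1cc5, c1cc6, c1cc7]) c1cc4.K && Nat.beq (c1cc4.Pt 0) (c1tl4.Pt 0) && Nat.beq (ltAll 351 [c1tl3.Pt 0, c1tl2.Pt 0, c1tl1.Pt 0, c1tl0.Pt 0]) 0 && kChk c1ce_P c1x_P c1cc4.K 1 H16.O73.B [c1tl3.Pt 0, c1tl2.Pt 0, c1tl1.Pt 0, c1tl0.Pt 0]) = true := by decide +kernel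
theorem c1c_f3 : (Nat.ble c1tl3.K 15 && Nat.blt (nat_lit 22) 351 && fixLetters c1th_P c1tl3.K (nat_lit 22) && Nat.beq (ltAll 1 [nat_lit 0]) 0 && Nat.beq (apW c1x_P [nat_lit 0] (nat_lit 22)) (c1tl3.Pt 0)) = true := by decide +kernel
theorem c1cc2_e_0 : allZ (dent c1cc2 c1ce_P (nat_lit 351)) (nat_lit 0) (nat_lit 2) = true := by decide +kernel
theorem c1cc2_h : 0 < c1cc2.n ∧ 0 < c1cc2.K ∧ c1cc2.Pt 0 < 351 ∧ c1cc2.Q (c1cc2.Pt 0) = 0 := by decide +kernel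
theorem c1tn4y60_lt : allL (ltAll 7) c1tn4y60_W = true := by decide +kernel
theorem c1tr5k_lt : allL (ltAll 7) c1tr5k_W = true := by decide +kernel
theorem c1tn5y140_lt : allL (ltAll 7) c1tn5y140_W = true := by decide +kernel
theorem c1tr6k_lt : allL (ltAll 7) c1tr6k_W = true := by decide +kernel
theorem c1tn6_0 : (Nat.ble c1tl5.K 15 && Nat.beq (ltAll 351 [c1tl4.Pt 0, c1tl3.Pt 0, c1tl2.Pt 0, c1tl1.Pt 0, c1tl0.Pt 0]) 0 && kChk c1tr6k_P c1tn5y140_P c1tn6.Kn 1 H16.O73.B [c1tl4.Pt 0, c1tl3.Pt 0, c1tl2.Pt 0, c1tl1.Pt 0, c1tl0.Pt 0] && allL (ltAll 1) c1tn6.pre && planOK c1th_P c1x_P 1 (c1tl5.Pt 0) c1tn6.plan [c1tl5, c1tl6, c1tl7]) = true := by decide +kernel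
theorem c1tn6_1_0 : allZ (c1tn6.ent H16.O73.P c1th_P c1x_P c1tn5y140_P c1tr6k_P (nat_lit 7) (nat_lit 1) H16.O73.B c1tl5 [c1tl6, c1tl7] (fun _ => nat_lit 1)) (nat_lit 0) (nat_lit 9) = true := by decide +kernel
theorem c1tn5_0 : (Nat.ble c1tl4.K 15 && Nat.beq (ltAll 351 [c1tl3.Pt 0, c1tl2.Pt 0, c1tl1.Pt 0, c1tl0.Pt 0]) 0 && kChk c1tr5k_P c1tn4y60_P c1tn5.Kn 1 H16.O73.B [c1tl3.Pt 0, c1tl2.Pt 0, c1tl1.Pt 0, c1tl0.Pt 0] && allL (ltAll 1) c1tn5.pre && planOK c1th_P c1x_P 1 (c1tl4.Pt 0) c1tn5.plan [c1tl4, c1tl5, c1tl6, c1tl7]) = true := by decide +kernel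
theorem c1tn5_1_0 : allZ (c1tn5.ent H16.O73.P c1th_P c1x_P c1tn4y60_P c1tr5k_P (nat_lit 7) (nat_lit 1) H16.O73.B c1tl4 [c1tl5, c1tl6, c1tl7] (fun _ => nat_lit 1)) (nat_lit 0) (nat_lit 12) = true := by decide +kernel
theorem c1tn4y147_lt : allL (ltAll 7) c1tn4y147_W = true := by decide +kernel
theorem c1tr7k_lt : allL (ltAll 7) c1tr7k_W = true := by decide +kernel
theorem c1tn7y147_lt : allL (ltAll 7) c1tn7y147_W = true := by decide +kernel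
theorem c1tr8k_lt : allL (ltAll 7) c1tr8k_W = true := by decide +kernel
theorem c1tn8_0 : (Nat.ble c1tl5.K 15 && Nat.beq (ltAll 351 [c1tl4.Pt 0, c1tl3.Pt 0, c1tl2.Pt 0, c1tl1.Pt 0, c1tl0.Pt 0]) 0 && kChk c1tr8k_P c1tn7y147_P c1tn8.Kn 1 H16.O73.B [c1tl4.Pt 0, c1tl3.Pt 0, c1tl2.Pt 0, c1tl1.Pt 0, c1tl0.Pt 0] && allL (ltAll 1) c1tn8.pre && planOK c1th_P c1x_P 1 (c1tl5.Pt 0) c1tn8.plan [c1tl5, c1tl6, c1tl7]) = true := by decide +kernel
theorem c1tn8_1_0 : allZ (c1tn8.ent H16.O73.P c1th_P c1x_P c1tn7y147_P c1tr8k_P (nat_lit 7) (nat_lit 1) H16.O73.B c1tl5 [c1tl6, c1tl7] (fun _ => nat_lit 1)) (nat_lit 0) (nat_lit 9) = true := by decide +kernel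
theorem c1tn7_0 : (Nat.ble c1tl4.K 15 && Nat.beq (ltAll 351 [c1tl3.Pt 0, c1tl2.Pt 0, c1tl1.Pt 0, c1tl0.Pt 0]) 0 && kChk c1tr7k_P c1tn4y147_P c1tn7.Kn 1 H16.O73.B [c1tl3.Pt 0, c1tl2.Pt 0, c1tl1.Pt 0, c1tl0.Pt 0] && allL (ltAll 1) c1tn7.pre && planOK c1th_P c1x_P 1 (c1tl4.Pt 0) c1tn7.plan [c1tl4, c1tl5, c1tl6, c1tl7]) = true := by decide +kernel
theorem c1tn7_1_0 : allZ (c1tn7.ent H16.O73.P c1th_P c1x_P c1tn4y147_P c1tr7k_P (nat_lit 7) (nat_lit 1) H16.O73.B c1tl4 [c1tl5, c1tl6, c1tl7] (fun _ => nat_lit 1)) (nat_lit 0) (nat_lit 12) = true := by decide +kernel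
theorem c1tn4_0 : (Nat.ble c1tl2.K 15 && Nat.beq (ltAll 351 [c1tl1.Pt 0, c1tl0.Pt 0]) 0 && kChk c1ce_P c1x_P c1tn4.Kn 1 H16.O73.B [c1tl1.Pt 0, c1tl0.Pt 0] && allL (ltAll 1) c1tn4.pre && planOK c1th_P c1x_P 1 (c1tl2.Pt 0) c1tn4.plan [c1tl2, c1tl3, c1tl4, c1tl5, c1tl6, c1tl7]) = true := by decide +kernel
theorem c1tn4_1_0 : allZ (c1tn4.ent H16.O73.P c1th_P c1x_P c1x_P c1ce_P (nat_lit 7) (nat_lit 1) H16.O73.B c1tl2 [c1tl3, c1tl4, c1tl5, c1tl6, c1tl7] (memO c1cc2)) (nat_lit 0) (nat_lit 45) = true := by decide +kernel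
theorem c1c_f2 : (Nat.ble c1cc2.K 9 && Nat.ble (topK [c1cc4, c1cc5, c1cc6, c1cc7]) c1cc2.K && Nat.beq (c1cc2.Pt 0) (c1tl2.Pt 0) && Nat.beq (ltAll 351 [c1tl1.Pt 0, c1tl0.Pt 0]) 0 && kChk c1ce_P c1x_P c1cc2.K 1 H16.O73.B [c1tl1.Pt 0, c1tl0.Pt 0]) = true := by decide +kernel
theorem c1c_f1 : (Nat.ble c1tl1.K 15 && Nat.blt (nat_lit 1) 351 && fixLetters c1th_P c1tl1.K (nat_lit 1) && Nat.beq (ltAll 1 [nat_lit 0]) 0 && Nat.beq (apW c1x_P [nat_lit 0] (nat_lit 1)) (c1tl1.Pt 0)) = true := by decide +kernel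
theorem c1cc0_e_0 : allZ (dent c1cc0 c1ce_P (nat_lit 351)) (nat_lit 0) (nat_lit 71) = true := by decide +kernel
theorem c1cc0_h : 0 < c1cc0.n ∧ 0 < c1cc0.K ∧ c1cc0.Pt 0 < 351 ∧ c1cc0.Q (c1cc0.Pt 0) = 0 := by decide +kernel
theorem c1tn9_0 : (Nat.ble c1tl0.K 15 && Nat.beq (ltAll 351 []) 0 && kChk c1ce_P c1x_P c1tn9.Kn 1 H16.O73.B [] && allL (ltAll 1) c1tn9.pre && planOK c1th_P c1x_P 1 (c1tl0.Pt 0) c1tn9.plan [c1tl0, c1tl1, c1tl2, c1tl3, c1tl4, c1tl5, c1tl6, c1tl7]) = true := by decide +kernel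
theorem c1tn9_1_0 : allZ (c1tn9.ent H16.O73.P c1th_P c1x_P c1x_P c1ce_P (nat_lit 7) (nat_lit 1) H16.O73.B c1tl0 [c1tl1, c1tl2, c1tl3, c1tl4, c1tl5, c1tl6, c1tl7] (memO c1cc0)) (nat_lit 0) (nat_lit 351) = true := by decide +kernel
theorem c1c_f0 : (Nat.ble c1cc0.K 9 && Nat.ble (topK [c1cc2, c1cc4, c1cc5, c1cc6, c1cc7]) c1cc0.K && Nat.beq (c1cc0.Pt 0) (c1tl0.Pt 0) && Nat.beq (ltAll 351 []) 0 && kChk c1ce_P c1x_P c1cc0.K 1 H16.O73.B []) = true := by decide +kernel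
theorem c1c_c : chainCard [c1cc0, c1cc2, c1cc4, c1cc5, c1cc6, c1cc7] = 139968 ∧ topK [c1cc0, c1cc2, c1cc4, c1cc5, c1cc6, c1cc7] = 9 := by decide +kernel
theorem p2_k : fixL covr_P 7 H16.O73.B (List.replicate 3 2) = 0 := by decide +kernel
theorem n2_k : 0 < 351 ∧ ltAll 7 (List.replicate 1 2) = 0 ∧ ltAll 7 [] = 0 ∧ apW covr_P (List.replicate 1 2) 0 ≠ apW covr_P [] 0 := by decide +kernel
theorem c2x_lt : allL (ltAll 7) c2x_W = true := by decide +kernel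
theorem c2th_lt : allL (ltAll 7) c2th_W = true := by decide +kernel
theorem c2tl0_e_0 : allZ (dent c2tl0 c2th_P (nat_lit 351)) (nat_lit 0) (nat_lit 350) = true := by decide +kernel
theorem c2tl0_h : 0 < c2tl0.n ∧ 0 < c2tl0.K ∧ c2tl0.Pt 0 < 351 ∧ c2tl0.Q (c2tl0.Pt 0) = 0 := by decide +kernel
theorem c2tl1_e_0 : allZ (dent c2tl1 c2th_P (nat_lit 351)) (nat_lit 0) (nat_lit 223) = true := by decide +kernel
theorem c2tl1_h : 0 < c2tl1.n ∧ 0 < c2tl1.K ∧ c2tl1.Pt 0 < 351 ∧ c2tl1.Q (c2tl1.Pt 0) = 0 := by decide +kernel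
theorem c2tl2_e_0 : allZ (dent c2tl2 c2th_P (nat_lit 351)) (nat_lit 0) (nat_lit 44) = true := by decide +kernel
theorem c2tl2_h : 0 < c2tl2.n ∧ 0 < c2tl2.K ∧ c2tl2.Pt 0 < 351 ∧ c2tl2.Q (c2tl2.Pt 0) = 0 := by decide +kernel
theorem c2tl3_e_0 : allZ (dent c2tl3 c2th_P (nat_lit 351)) (nat_lit 0) (nat_lit 17) = true := by decide +kernel
theorem c2tl3_h : 0 < c2tl3.n ∧ 0 < c2tl3.K ∧ c2tl3.Pt 0 < 351 ∧ c2tl3.Q (c2tl3.Pt 0) = 0 := by decide +kernel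
theorem c2tl4_e_0 : allZ (dent c2tl4 c2th_P (nat_lit 351)) (nat_lit 0) (nat_lit 2) = true := by decide +kernel
theorem c2tl4_h : 0 < c2tl4.n ∧ 0 < c2tl4.K ∧ c2tl4.Pt 0 < 351 ∧ c2tl4.Q (c2tl4.Pt 0) = 0 := by decide +kernel
theorem c2tl5_e_0 : allZ (dent c2tl5 c2th_P (nat_lit 351)) (nat_lit 0) (nat_lit 1) = true := by decide +kernel
theorem c2tl5_h : 0 < c2tl5.n ∧ 0 < c2tl5.K ∧ c2tl5.Pt 0 < 351 ∧ c2tl5.Q (c2tl5.Pt 0) = 0 := by decide +kernel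
theorem c2tl6_e_0 : allZ (dent c2tl6 c2th_P (nat_lit 351)) (nat_lit 0) (nat_lit 1) = true := by decide +kernel
theorem c2tl6_h : 0 < c2tl6.n ∧ 0 < c2tl6.K ∧ c2tl6.Pt 0 < 351 ∧ c2tl6.Q (c2tl6.Pt 0) = 0 := by decide +kernel
theorem c2tl7_e_0 : allZ (dent c2tl7 c2th_P (nat_lit 351)) (nat_lit 0) (nat_lit 1) = true := by decide +kernel
theorem c2tl7_h : 0 < c2tl7.n ∧ 0 < c2tl7.K ∧ c2tl7.Pt 0 < 351 ∧ c2tl7.Q (c2tl7.Pt 0) = 0 := by decide +kernel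
theorem c2tl8_e_0 : allZ (dent c2tl8 c2th_P (nat_lit 351)) (nat_lit 0) (nat_lit 2) = true := by decide +kernel
theorem c2tl8_h : 0 < c2tl8.n ∧ 0 < c2tl8.K ∧ c2tl8.Pt 0 < 351 ∧ c2tl8.Q (c2tl8.Pt 0) = 0 := by decide +kernel
theorem c2t_f8 : (Nat.ble c2tl8.K 18 && Nat.ble (topK []) c2tl8.K && fixLetters c2th_P (topK []) (c2tl8.Pt 0)) = true := by decide +kernel
theorem c2t_f7 : (Nat.ble c2tl7.K 18 && Nat.ble (topK [c2tl8]) c2tl7.K && fixLetters c2th_P (topK [c2tl8]) (c2tl7.Pt 0)) = true := by decide +kernel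
theorem c2t_f6 : (Nat.ble c2tl6.K 18 && Nat.ble (topK [c2tl7, c2tl8]) c2tl6.K && fixLetters c2th_P (topK [c2tl7, c2tl8]) (c2tl6.Pt 0)) = true := by decide +kernel
theorem c2t_f5 : (Nat.ble c2tl5.K 18 && Nat.ble (topK [c2tl6, c2tl7, c2tl8]) c2tl5.K && fixLetters c2th_P (topK [c2tl6, c2tl7, c2tl8]) (c2tl5.Pt 0)) = true := by decide +kernel
theorem c2t_f4 : (Nat.ble c2tl4.K 18 && Nat.ble (topK [c2tl5, c2tl6, c2tl7, c2tl8]) c2tl4.K && fixLetters c2th_P (topK [c2tl5, c2tl6, c2tl7, c2tl8]) (c2tl4.Pt 0)) = true := by decide +kernel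
theorem c2t_f3 : (Nat.ble c2tl3.K 18 && Nat.ble (topK [c2tl4, c2tl5, c2tl6, c2tl7, c2tl8]) c2tl3.K && fixLetters c2th_P (topK [c2tl4, c2tl5, c2tl6, c2tl7, c2tl8]) (c2tl3.Pt 0)) = true := by decide +kernel
theorem c2t_f2 : (Nat.ble c2tl2.K 18 && Nat.ble (topK [c2tl3, c2tl4, c2tl5, c2tl6, c2tl7, c2tl8]) c2tl2.K && fixLetters c2th_P (topK [c2tl3, c2tl4, c2tl5, c2tl6, c2tl7, c2tl8]) (c2tl2.Pt 0)) = true := by decide +kernel
theorem c2t_f1 : (Nat.ble c2tl1.K 18 && Nat.ble (topK [c2tl2, c2tl3, c2tl4, c2tl5, c2tl6, c2tl7, c2tl8]) c2tl1.K && fixLetters c2th_P (topK [c2tl2, c2tl3, c2tl4, c2tl5, c2tl6, c2tl7, c2tl8]) (c2tl1.Pt 0)) = true := by decide +kernel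
theorem c2t_f0 : (Nat.ble c2tl0.K 18 && Nat.ble (topK [c2tl1, c2tl2, c2tl3, c2tl4, c2tl5, c2tl6, c2tl7, c2tl8]) c2tl0.K && fixLetters c2th_P (topK [c2tl1, c2tl2, c2tl3, c2tl4, c2tl5, c2tl6, c2tl7, c2tl8]) (c2tl0.Pt 0)) = true := by decide +kernel
theorem c2t_c : chainCard [c2tl0, c2tl1, c2tl2, c2tl3, c2tl4, c2tl5, c2tl6, c2tl7, c2tl8] = 4585351680 := by decide +kernel
theorem c2ce_lt : allL (ltAll 7) c2ce_W = true := by decide +kernel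
theorem c2cc8_e_0 : allZ (dent c2cc8 c2ce_P (nat_lit 351)) (nat_lit 0) (nat_lit 2) = true := by decide +kernel
theorem c2cc8_h : 0 < c2cc8.n ∧ 0 < c2cc8.K ∧ c2cc8.Pt 0 < 351 ∧ c2cc8.Q (c2cc8.Pt 0) = 0 := by decide +kernel
theorem c2tn0_0 : (Nat.ble c2tl8.K 18 && Nat.beq (ltAll 351 [c2tl7.Pt 0, c2tl6.Pt 0, c2tl5.Pt 0, c2tl4.Pt 0, c2tl3.Pt 0, c2tl2.Pt 0, c2tl1.Pt 0, c2tl0.Pt 0]) 0 && kChk c2ce_P c2x_P c2tn0.Kn 1 H16.O73.B [c2tl7.Pt 0, c2tl6.Pt 0, c2tl5.Pt 0, c2tl4.Pt 0, c2tl3.Pt 0, c2tl2.Pt 0, c2tl1.Pt 0, c2tl0.Pt 0] && allL (ltAll 1) c2tn0.pre && planOK c2th_P c2x_P 1 (c2tl8.Pt 0) c2tn0.plan [c2tl8]) = true := by decide +kernel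
theorem c2tn0_1_0 : allZ (c2tn0.ent H16.O73.P c2th_P c2x_P c2x_P c2ce_P (nat_lit 7) (nat_lit 1) H16.O73.B c2tl8 [] (memO c2cc8)) (nat_lit 0) (nat_lit 3) = true := by decide +kernel
theorem c2c_f8 : (Nat.ble c2cc8.K 6 && Nat.ble (topK []) c2cc8.K && Nat.beq (c2cc8.Pt 0) (c2tl8.Pt 0) && Nat.beq (ltAll 351 [c2tl7.Pt 0, c2tl6.Pt 0, c2tl5.Pt 0, c2tl4.Pt 0, c2tl3.Pt 0, c2tl2.Pt 0, c2tl1.Pt 0, c2tl0.Pt 0]) 0 && kChk c2ce_P c2x_P c2cc8.K 1 H16.O73.B [c2tl7.Pt 0, c2tl6.Pt 0, c2tl5.Pt 0, c2tl4.Pt 0, c2tl3.Pt 0, c2tl2.Pt 0, c2tl1.Pt 0, c2tl0.Pt 0]) = true := by decide +kernel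
theorem c2c_f7 : (Nat.ble c2tl7.K 18 && Nat.blt (nat_lit 136) 351 && fixLetters c2th_P c2tl7.K (nat_lit 136) && Nat.beq (ltAll 1 [nat_lit 0, nat_lit 0]) 0 && Nat.beq (apW c2x_P [nat_lit 0, nat_lit 0] (nat_lit 136)) (c2tl7.Pt 0)) = true := by decide +kernel
theorem c2c_f6 : (Nat.ble c2tl6.K 18 && Nat.blt (nat_lit 136) 351 && fixLetters c2th_P c2tl6.K (nat_lit 136) && Nat.beq (ltAll 1 [nat_lit 0]) 0 && Nat.beq (apW c2x_P [nat_lit 0] (nat_lit 136)) (c2tl6.Pt 0)) = true := by decide +kernel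
theorem c2cc5_e_0 : allZ (dent c2cc5 c2ce_P (nat_lit 351)) (nat_lit 0) (nat_lit 1) = true := by decide +kernel
theorem c2cc5_h : 0 < c2cc5.n ∧ 0 < c2cc5.K ∧ c2cc5.Pt 0 < 351 ∧ c2cc5.Q (c2cc5.Pt 0) = 0 := by decide +kernel
theorem c2tn1_0 : (Nat.ble c2tl5.K 18 && Nat.beq (ltAll 351 [c2tl4.Pt 0, c2tl3.Pt 0, c2tl2.Pt 0, c2tl1.Pt 0, c2tl0.Pt 0]) 0 && kChk c2ce_P c2x_P c2tn1.Kn 1 H16.O73.B [c2tl4.Pt 0, c2tl3.Pt 0, c2tl2.Pt 0, c2tl1.Pt 0, c2tl0.Pt 0] && allL (ltAll 1) c2tn1.pre && planOK c2th_P c2x_P 1 (c2tl5.Pt 0) c2tn1.plan [c2tl5, c2tl6, c2tl7, c2tl8]) = true := by decide +kernel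
theorem c2tn1_1_0 : allZ (c2tn1.ent H16.O73.P c2th_P c2x_P c2x_P c2ce_P (nat_lit 7) (nat_lit 1) H16.O73.B c2tl5 [c2tl6, c2tl7, c2tl8] (memO c2cc5)) (nat_lit 0) (nat_lit 2) = true := by decide +kernel
theorem c2c_f5 : (Nat.ble c2cc5.K 6 && Nat.ble (topK [c2cc8]) c2cc5.K && Nat.beq (c2cc5.Pt 0) (c2tl5.Pt 0) && Nat.beq (ltAll 351 [c2tl4.Pt 0, c2tl3.Pt 0, c2tl2.Pt 0, c2tl1.Pt 0, c2tl0.Pt 0]) 0 && kChk c2ce_P c2x_P c2cc5.K 1 H16.O73.B [c2tl4.Pt 0, c2tl3.Pt 0, c2tl2.Pt 0, c2tl1.Pt 0, c2tl0.Pt 0]) = true := by decide +kernel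
theorem c2c_f4 : (Nat.ble c2tl4.K 18 && Nat.blt (nat_lit 51) 351 && fixLetters c2th_P c2tl4.K (nat_lit 51) && Nat.beq (ltAll 1 [nat_lit 0, nat_lit 0]) 0 && Nat.beq (apW c2x_P [nat_lit 0, nat_lit 0] (nat_lit 51)) (c2tl4.Pt 0)) = true := by decide +kernel
theorem c2c_f3 : (Nat.ble c2tl3.K 18 && Nat.blt (nat_lit 51) 351 && fixLetters c2th_P c2tl3.K (nat_lit 51) && Nat.beq (ltAll 1 [nat_lit 0]) 0 && Nat.beq (apW c2x_P [nat_lit 0] (nat_lit 51)) (c2tl3.Pt 0)) = true := by decide +kernel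
theorem c2cc2_e_0 : allZ (dent c2cc2 c2ce_P (nat_lit 351)) (nat_lit 0) (nat_lit 26) = true := by decide +kernel
theorem c2cc2_h : 0 < c2cc2.n ∧ 0 < c2cc2.K ∧ c2cc2.Pt 0 < 351 ∧ c2cc2.Q (c2cc2.Pt 0) = 0 := by decide +kernel
theorem c2tn2_0 : (Nat.ble c2tl2.K 18 && Nat.beq (ltAll 351 [c2tl1.Pt 0, c2tl0.Pt 0]) 0 && kChk c2ce_P c2x_P c2tn2.Kn 1 H16.O73.B [c2tl1.Pt 0, c2tl0.Pt 0] && allL (ltAll 1) c2tn2.pre && planOK c2th_P c2x_P 1 (c2tl2.Pt 0) c2tn2.plan [c2tl2, c2tl3, c2tl4, c2tl5, c2tl6, c2tl7, c2tl8]) = true := by decide +kernel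
theorem c2tn2_1_0 : allZ (c2tn2.ent H16.O73.P c2th_P c2x_P c2x_P c2ce_P (nat_lit 7) (nat_lit 1) H16.O73.B c2tl2 [c2tl3, c2tl4, c2tl5, c2tl6, c2tl7, c2tl8] (memO c2cc2)) (nat_lit 0) (nat_lit 45) = true := by decide +kernel
theorem c2c_f2 : (Nat.ble c2cc2.K 6 && Nat.ble (topK [c2cc5, c2cc8]) c2cc2.K && Nat.beq (c2cc2.Pt 0) (c2tl2.Pt 0) && Nat.beq (ltAll 351 [c2tl1.Pt 0, c2tl0.Pt 0]) 0 && kChk c2ce_P c2x_P c2cc2.K 1 H16.O73.B [c2tl1.Pt 0, c2tl0.Pt 0]) = true := by decide +kernel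
theorem c2c_f1 : (Nat.ble c2tl1.K 18 && Nat.blt (nat_lit 0) 351 && fixLetters c2th_P c2tl1.K (nat_lit 0) && Nat.beq (ltAll 1 [nat_lit 0]) 0 && Nat.beq (apW c2x_P [nat_lit 0] (nat_lit 0)) (c2tl1.Pt 0)) = true := by decide +kernel
theorem c2cc0_e_0 : allZ (dent c2cc0 c2ce_P (nat_lit 351)) (nat_lit 0) (nat_lit 107) = true := by decide +kernel
theorem c2cc0_h : 0 < c2cc0.n ∧ 0 < c2cc0.K ∧ c2cc0.Pt 0 < 351 ∧ c2cc0.Q (c2cc0.Pt 0) = 0 := by decide +kernel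
theorem c2tn3_0 : (Nat.ble c2tl0.K 18 && Nat.beq (ltAll 351 []) 0 && kChk c2ce_P c2x_P c2tn3.Kn 1 H16.O73.B [] && allL (ltAll 1) c2tn3.pre && planOK c2th_P c2x_P 1 (c2tl0.Pt 0) c2tn3.plan [c2tl0, c2tl1, c2tl2, c2tl3, c2tl4, c2tl5, c2tl6, c2tl7, c2tl8]) = true := by decide +kernel
theorem c2tn3_1_0 : allZ (c2tn3.ent H16.O73.P c2th_P c2x_P c2x_P c2ce_P (nat_lit 7) (nat_lit 1) H16.O73.B c2tl0 [c2tl1, c2tl2, c2tl3, c2tl4, c2tl5, c2tl6, c2tl7, c2tl8] (memO c2cc0)) (nat_lit 0) (nat_lit 351) = true := by decide +kernel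
theorem c2c_f0 : (Nat.ble c2cc0.K 6 && Nat.ble (topK [c2cc2, c2cc5, c2cc8]) c2cc0.K && Nat.beq (c2cc0.Pt 0) (c2tl0.Pt 0) && Nat.beq (ltAll 351 []) 0 && kChk c2ce_P c2x_P c2cc0.K 1 H16.O73.B []) = true := by decide +kernel
theorem c2c_c : chainCard [c2cc0, c2cc2, c2cc5, c2cc8] = 17496 ∧ topK [c2cc0, c2cc2, c2cc5, c2cc8] = 6 := by decide +kernel
theorem p3_k : fixL covr_P 7 H16.O73.B (List.replicate 3 3) = 0 := by decide +kernel
theorem n3_k : 0 < 351 ∧ ltAll 7 (List.replicate 1 3) = 0 ∧ ltAll 7 [] = 0 ∧ apW covr_P (List.replicate 1 3) 0 ≠ apW covr_P [] 0 := by decide +kernel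
theorem c3x_lt : allL (ltAll 7) c3x_W = true := by decide +kernel
theorem c3th_lt : allL (ltAll 7) c3th_W = true := by decide +kernel
theorem c3tl0_e_0 : allZ (dent c3tl0 c3th_P (nat_lit 351)) (nat_lit 0) (nat_lit 350) = true := by decide +kernel
theorem c3tl0_h : 0 < c3tl0.n ∧ 0 < c3tl0.K ∧ c3tl0.Pt 0 < 351 ∧ c3tl0.Q (c3tl0.Pt 0) = 0 := by decide +kernel
theorem c3tl1_e_0 : allZ (dent c3tl1 c3th_P (nat_lit 351)) (nat_lit 0) (nat_lit 223) = true := by decide +kernel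
theorem c3tl1_h : 0 < c3tl1.n ∧ 0 < c3tl1.K ∧ c3tl1.Pt 0 < 351 ∧ c3tl1.Q (c3tl1.Pt 0) = 0 := by decide +kernel
theorem c3tl2_e_0 : allZ (dent c3tl2 c3th_P (nat_lit 351)) (nat_lit 0) (nat_lit 44) = true := by decide +kernel
theorem c3tl2_h : 0 < c3tl2.n ∧ 0 < c3tl2.K ∧ c3tl2.Pt 0 < 351 ∧ c3tl2.Q (c3tl2.Pt 0) = 0 := by decide +kernel
theorem c3tl3_e_0 : allZ (dent c3tl3 c3th_P (nat_lit 351)) (nat_lit 0) (nat_lit 17) = true := by decide +kernel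
theorem c3tl3_h : 0 < c3tl3.n ∧ 0 < c3tl3.K ∧ c3tl3.Pt 0 < 351 ∧ c3tl3.Q (c3tl3.Pt 0) = 0 := by decide +kernel
theorem c3tl4_e_0 : allZ (dent c3tl4 c3th_P (nat_lit 351)) (nat_lit 0) (nat_lit 2) = true := by decide +kernel
theorem c3tl4_h : 0 < c3tl4.n ∧ 0 < c3tl4.K ∧ c3tl4.Pt 0 < 351 ∧ c3tl4.Q (c3tl4.Pt 0) = 0 := by decide +kernel
theorem c3tl5_e_0 : allZ (dent c3tl5 c3th_P (nat_lit 351)) (nat_lit 0) (nat_lit 1) = true := by decide +kernel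
theorem c3tl5_h : 0 < c3tl5.n ∧ 0 < c3tl5.K ∧ c3tl5.Pt 0 < 351 ∧ c3tl5.Q (c3tl5.Pt 0) = 0 := by decide +kernel
theorem c3tl6_e_0 : allZ (dent c3tl6 c3th_P (nat_lit 351)) (nat_lit 0) (nat_lit 1) = true := by decide +kernel
theorem c3tl6_h : 0 < c3tl6.n ∧ 0 < c3tl6.K ∧ c3tl6.Pt 0 < 351 ∧ c3tl6.Q (c3tl6.Pt 0) = 0 := by decide +kernel
theorem c3tl7_e_0 : allZ (dent c3tl7 c3th_P (nat_lit 351)) (nat_lit 0) (nat_lit 1) = true := by decide +kernel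
theorem c3tl7_h : 0 < c3tl7.n ∧ 0 < c3tl7.K ∧ c3tl7.Pt 0 < 351 ∧ c3tl7.Q (c3tl7.Pt 0) = 0 := by decide +kernel
theorem c3tl8_e_0 : allZ (dent c3tl8 c3th_P (nat_lit 351)) (nat_lit 0) (nat_lit 2) = true := by decide +kernel
theorem c3tl8_h : 0 < c3tl8.n ∧ 0 < c3tl8.K ∧ c3tl8.Pt 0 < 351 ∧ c3tl8.Q (c3tl8.Pt 0) = 0 := by decide +kernel
theorem c3t_f8 : (Nat.ble c3tl8.K 18 && Nat.ble (topK []) c3tl8.K && fixLetters c3th_P (topK []) (c3tl8.Pt 0)) = true := by decide +kernel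
theorem c3t_f7 : (Nat.ble c3tl7.K 18 && Nat.ble (topK [c3tl8]) c3tl7.K && fixLetters c3th_P (topK [c3tl8]) (c3tl7.Pt 0)) = true := by decide +kernel
theorem c3t_f6 : (Nat.ble c3tl6.K 18 && Nat.ble (topK [c3tl7, c3tl8]) c3tl6.K && fixLetters c3th_P (topK [c3tl7, c3tl8]) (c3tl6.Pt 0)) = true := by decide +kernel
theorem c3t_f5 : (Nat.ble c3tl5.K 18 && Nat.ble (topK [c3tl6, c3tl7, c3tl8]) c3tl5.K && fixLetters c3th_P (topK [c3tl6, c3tl7, c3tl8]) (c3tl5.Pt 0)) = true := by decide +kernel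
theorem c3t_f4 : (Nat.ble c3tl4.K 18 && Nat.ble (topK [c3tl5, c3tl6, c3tl7, c3tl8]) c3tl4.K && fixLetters c3th_P (topK [c3tl5, c3tl6, c3tl7, c3tl8]) (c3tl4.Pt 0)) = true := by decide +kernel
theorem c3t_f3 : (Nat.ble c3tl3.K 18 && Nat.ble (topK [c3tl4, c3tl5, c3tl6, c3tl7, c3tl8]) c3tl3.K && fixLetters c3th_P (topK [c3tl4, c3tl5, c3tl6, c3tl7, c3tl8]) (c3tl3.Pt 0)) = true := by decide +kernel
theorem c3t_f2 : (Nat.ble c3tl2.K 18 && Nat.ble (topK [c3tl3, c3tl4, c3tl5, c3tl6, c3tl7, c3tl8]) c3tl2.K && fixLetters c3th_P (topK [c3tl3, c3tl4, c3tl5, c3tl6, c3tl7, c3tl8]) (c3tl2.Pt 0)) = true := by decide +kernel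
theorem c3t_f1 : (Nat.ble c3tl1.K 18 && Nat.ble (topK [c3tl2, c3tl3, c3tl4, c3tl5, c3tl6, c3tl7, c3tl8]) c3tl1.K && fixLetters c3th_P (topK [c3tl2, c3tl3, c3tl4, c3tl5, c3tl6, c3tl7, c3tl8]) (c3tl1.Pt 0)) = true := by decide +kernel
theorem c3t_f0 : (Nat.ble c3tl0.K 18 && Nat.ble (topK [c3tl1, c3tl2, c3tl3, c3tl4, c3tl5, c3tl6, c3tl7, c3tl8]) c3tl0.K && fixLetters c3th_P (topK [c3tl1, c3tl2, c3tl3, c3tl4, c3tl5, c3tl6, c3tl7, c3tl8]) (c3tl0.Pt 0)) = true := by decide +kernel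
theorem c3t_c : chainCard [c3tl0, c3tl1, c3tl2, c3tl3, c3tl4, c3tl5, c3tl6, c3tl7, c3tl8] = 4585351680 := by decide +kernel
theorem c3ce_lt : allL (ltAll 7) c3ce_W = true := by decide +kernel
theorem c3cc8_e_0 : allZ (dent c3cc8 c3ce_P (nat_lit 351)) (nat_lit 0) (nat_lit 2) = true := by decide +kernel
theorem c3cc8_h : 0 < c3cc8.n ∧ 0 < c3cc8.K ∧ c3cc8.Pt 0 < 351 ∧ c3cc8.Q (c3cc8.Pt 0) = 0 := by decide +kernel
theorem c3tn0_0 : (Nat.ble c3tl8.K 18 && Nat.beq (ltAll 351 [c3tl7.Pt 0, c3tl6.Pt 0, c3tl5.Pt 0, c3tl4.Pt 0, c3tl3.Pt 0, c3tl2.Pt 0, c3tl1.Pt 0, c3tl0.Pt 0]) 0 && kChk c3ce_P c3x_P c3tn0.Kn 1 H16.O73.B [c3tl7.Pt 0, c3tl6.Pt 0, c3tl5.Pt 0, c3tl4.Pt 0, c3tl3.Pt 0, c3tl2.Pt 0, c3tl1.Pt 0, c3tl0.Pt 0] && allL (ltAll 1) c3tn0.pre && planOK c3th_P c3x_P 1 (c3tl8.Pt 0) c3tn0.plan [c3tl8]) = true := by decide +kernel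
theorem c3tn0_1_0 : allZ (c3tn0.ent H16.O73.P c3th_P c3x_P c3x_P c3ce_P (nat_lit 7) (nat_lit 1) H16.O73.B c3tl8 [] (memO c3cc8)) (nat_lit 0) (nat_lit 3) = true := by decide +kernel
theorem c3c_f8 : (Nat.ble c3cc8.K 6 && Nat.ble (topK []) c3cc8.K && Nat.beq (c3cc8.Pt 0) (c3tl8.Pt 0) && Nat.beq (ltAll 351 [c3tl7.Pt 0, c3tl6.Pt 0, c3tl5.Pt 0, c3tl4.Pt 0, c3tl3.Pt 0, c3tl2.Pt 0, c3tl1.Pt 0, c3tl0.Pt 0]) 0 && kChk c3ce_P c3x_P c3cc8.K 1 H16.O73.B [c3tl7.Pt 0, c3tl6.Pt 0, c3tl5.Pt 0, c3tl4.Pt 0, c3tl3.Pt 0, c3tl2.Pt 0, c3tl1.Pt 0, c3tl0.Pt 0]) = true := by decide +kernel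
theorem c3c_f7 : (Nat.ble c3tl7.K 18 && Nat.blt (nat_lit 136) 351 && fixLetters c3th_P c3tl7.K (nat_lit 136) && Nat.beq (ltAll 1 [nat_lit 0, nat_lit 0]) 0 && Nat.beq (apW c3x_P [nat_lit 0, nat_lit 0] (nat_lit 136)) (c3tl7.Pt 0)) = true := by decide +kernel
theorem c3c_f6 : (Nat.ble c3tl6.K 18 && Nat.blt (nat_lit 136) 351 && fixLetters c3th_P c3tl6.K (nat_lit 136) && Nat.beq (ltAll 1 [nat_lit 0]) 0 && Nat.beq (apW c3x_P [nat_lit 0] (nat_lit 136)) (c3tl6.Pt 0)) = true := by decide +kernel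
theorem c3cc5_e_0 : allZ (dent c3cc5 c3ce_P (nat_lit 351)) (nat_lit 0) (nat_lit 1) = true := by decide +kernel
theorem c3cc5_h : 0 < c3cc5.n ∧ 0 < c3cc5.K ∧ c3cc5.Pt 0 < 351 ∧ c3cc5.Q (c3cc5.Pt 0) = 0 := by decide +kernel
theorem c3tn1_0 : (Nat.ble c3tl5.K 18 && Nat.beq (ltAll 351 [c3tl4.Pt 0, c3tl3.Pt 0, c3tl2.Pt 0, c3tl1.Pt 0, c3tl0.Pt 0]) 0 && kChk c3ce_P c3x_P c3tn1.Kn 1 H16.O73.B [c3tl4.Pt 0, c3tl3.Pt 0, c3tl2.Pt 0, c3tl1.Pt 0, c3tl0.Pt 0] && allL (ltAll 1) c3tn1.pre && planOK c3th_P c3x_P 1 (c3tl5.Pt 0) c3tn1.plan [c3tl5, c3tl6, c3tl7, c3tl8]) = true := by decide +kernel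
theorem c3tn1_1_0 : allZ (c3tn1.ent H16.O73.P c3th_P c3x_P c3x_P c3ce_P (nat_lit 7) (nat_lit 1) H16.O73.B c3tl5 [c3tl6, c3tl7, c3tl8] (memO c3cc5)) (nat_lit 0) (nat_lit 2) = true := by decide +kernel
theorem c3c_f5 : (Nat.ble c3cc5.K 6 && Nat.ble (topK [c3cc8]) c3cc5.K && Nat.beq (c3cc5.Pt 0) (c3tl5.Pt 0) && Nat.beq (ltAll 351 [c3tl4.Pt 0, c3tl3.Pt 0, c3tl2.Pt 0, c3tl1.Pt 0, c3tl0.Pt 0]) 0 && kChk c3ce_P c3x_P c3cc5.K 1 H16.O73.B [c3tl4.Pt 0, c3tl3.Pt 0, c3tl2.Pt 0, c3tl1.Pt 0, c3tl0.Pt 0]) = true := by decide +kernel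
theorem c3c_f4 : (Nat.ble c3tl4.K 18 && Nat.blt (nat_lit 51) 351 && fixLetters c3th_P c3tl4.K (nat_lit 51) && Nat.beq (ltAll 1 [nat_lit 0, nat_lit 0]) 0 && Nat.beq (apW c3x_P [nat_lit 0, nat_lit 0] (nat_lit 51)) (c3tl4.Pt 0)) = true := by decide +kernel
theorem c3c_f3 : (Nat.ble c3tl3.K 18 && Nat.blt (nat_lit 51) 351 && fixLetters c3th_P c3tl3.K (nat_lit 51) && Nat.beq (ltAll 1 [nat_lit 0]) 0 && Nat.beq (apW c3x_P [nat_lit 0] (nat_lit 51)) (c3tl3.Pt 0)) = true := by decide +kernel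
theorem c3cc2_e_0 : allZ (dent c3cc2 c3ce_P (nat_lit 351)) (nat_lit 0) (nat_lit 26) = true := by decide +kernel
theorem c3cc2_h : 0 < c3cc2.n ∧ 0 < c3cc2.K ∧ c3cc2.Pt 0 < 351 ∧ c3cc2.Q (c3cc2.Pt 0) = 0 := by decide +kernel
theorem c3tn2_0 : (Nat.ble c3tl2.K 18 && Nat.beq (ltAll 351 [c3tl1.Pt 0, c3tl0.Pt 0]) 0 && kChk c3ce_P c3x_P c3tn2.Kn 1 H16.O73.B [c3tl1.Pt 0, c3tl0.Pt 0] && allL (ltAll 1) c3tn2.pre && planOK c3th_P c3x_P 1 (c3tl2.Pt 0) c3tn2.plan [c3tl2, c3tl3, c3tl4, c3tl5, c3tl6, c3tl7, c3tl8]) = true := by decide +kernel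
theorem c3tn2_1_0 : allZ (c3tn2.ent H16.O73.P c3th_P c3x_P c3x_P c3ce_P (nat_lit 7) (nat_lit 1) H16.O73.B c3tl2 [c3tl3, c3tl4, c3tl5, c3tl6, c3tl7, c3tl8] (memO c3cc2)) (nat_lit 0) (nat_lit 45) = true := by decide +kernel
theorem c3c_f2 : (Nat.ble c3cc2.K 6 && Nat.ble (topK [c3cc5, c3cc8]) c3cc2.K && Nat.beq (c3cc2.Pt 0) (c3tl2.Pt 0) && Nat.beq (ltAll 351 [c3tl1.Pt 0, c3tl0.Pt 0]) 0 && kChk c3ce_P c3x_P c3cc2.K 1 H16.O73.B [c3tl1.Pt 0, c3tl0.Pt 0]) = true := by decide +kernel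
theorem c3c_f1 : (Nat.ble c3tl1.K 18 && Nat.blt (nat_lit 0) 351 && fixLetters c3th_P c3tl1.K (nat_lit 0) && Nat.beq (ltAll 1 [nat_lit 0]) 0 && Nat.beq (apW c3x_P [nat_lit 0] (nat_lit 0)) (c3tl1.Pt 0)) = true := by decide +kernel
theorem c3cc0_e_0 : allZ (dent c3cc0 c3ce_P (nat_lit 351)) (nat_lit 0) (nat_lit 107) = true := by decide +kernel
theorem c3cc0_h : 0 < c3cc0.n ∧ 0 < c3cc0.K ∧ c3cc0.Pt 0 < 351 ∧ c3cc0.Q (c3cc0.Pt 0) = 0 := by decide +kernel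
theorem c3tn3_0 : (Nat.ble c3tl0.K 18 && Nat.beq (ltAll 351 []) 0 && kChk c3ce_P c3x_P c3tn3.Kn 1 H16.O73.B [] && allL (ltAll 1) c3tn3.pre && planOK c3th_P c3x_P 1 (c3tl0.Pt 0) c3tn3.plan [c3tl0, c3tl1, c3tl2, c3tl3, c3tl4, c3tl5, c3tl6, c3tl7, c3tl8]) = true := by decide +kernel
theorem c3tn3_1_0 : allZ (c3tn3.ent H16.O73.P c3th_P c3x_P c3x_P c3ce_P (nat_lit 7) (nat_lit 1) H16.O73.B c3tl0 [c3tl1, c3tl2, c3tl3, c3tl4, c3tl5, c3tl6, c3tl7, c3tl8] (memO c3cc0)) (nat_lit 0) (nat_lit 351) = true := by decide +kernel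
theorem c3c_f0 : (Nat.ble c3cc0.K 6 && Nat.ble (topK [c3cc2, c3cc5, c3cc8]) c3cc0.K && Nat.beq (c3cc0.Pt 0) (c3tl0.Pt 0) && Nat.beq (ltAll 351 []) 0 && kChk c3ce_P c3x_P c3cc0.K 1 H16.O73.B []) = true := by decide +kernel
theorem c3c_c : chainCard [c3cc0, c3cc2, c3cc5, c3cc8] = 17496 ∧ topK [c3cc0, c3cc2, c3cc5, c3cc8] = 6 := by decide +kernel
theorem p4_k : fixL covr_P 7 H16.O73.B (List.replicate 3 4) = 0 := by decide +kernel
theorem n4_k : 0 < 351 ∧ ltAll 7 (List.replicate 1 4) = 0 ∧ ltAll 7 [] = 0 ∧ apW covr_P (List.replicate 1 4) 0 ≠ apW covr_P [] 0 := by decide +kernel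
theorem c4x_lt : allL (ltAll 7) c4x_W = true := by decide +kernel
theorem c4th_lt : allL (ltAll 7) c4th_W = true := by decide +kernel
theorem c4tl0_e_0 : allZ (dent c4tl0 c4th_P (nat_lit 351)) (nat_lit 0) (nat_lit 350) = true := by decide +kernel
theorem c4tl0_h : 0 < c4tl0.n ∧ 0 < c4tl0.K ∧ c4tl0.Pt 0 < 351 ∧ c4tl0.Q (c4tl0.Pt 0) = 0 := by decide +kernel
theorem c4tl1_e_0 : allZ (dent c4tl1 c4th_P (nat_lit 351)) (nat_lit 0) (nat_lit 125) = true := by decide +kernel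
theorem c4tl1_h : 0 < c4tl1.n ∧ 0 < c4tl1.K ∧ c4tl1.Pt 0 < 351 ∧ c4tl1.Q (c4tl1.Pt 0) = 0 := by decide +kernel
theorem c4tl2_e_0 : allZ (dent c4tl2 c4th_P (nat_lit 351)) (nat_lit 0) (nat_lit 44) = true := by decide +kernel
theorem c4tl2_h : 0 < c4tl2.n ∧ 0 < c4tl2.K ∧ c4tl2.Pt 0 < 351 ∧ c4tl2.Q (c4tl2.Pt 0) = 0 := by decide +kernel
theorem c4tl3_e_0 : allZ (dent c4tl3 c4th_P (nat_lit 351)) (nat_lit 0) (nat_lit 11) = true := by decide +kernel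
theorem c4tl3_h : 0 < c4tl3.n ∧ 0 < c4tl3.K ∧ c4tl3.Pt 0 < 351 ∧ c4tl3.Q (c4tl3.Pt 0) = 0 := by decide +kernel
theorem c4tl4_e_0 : allZ (dent c4tl4 c4th_P (nat_lit 351)) (nat_lit 0) (nat_lit 7) = true := by decide +kernel
theorem c4tl4_h : 0 < c4tl4.n ∧ 0 < c4tl4.K ∧ c4tl4.Pt 0 < 351 ∧ c4tl4.Q (c4tl4.Pt 0) = 0 := by decide +kernel
theorem c4tl5_e_0 : allZ (dent c4tl5 c4th_P (nat_lit 351)) (nat_lit 0) (nat_lit 2) = true := by decide +kernel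
theorem c4tl5_h : 0 < c4tl5.n ∧ 0 < c4tl5.K ∧ c4tl5.Pt 0 < 351 ∧ c4tl5.Q (c4tl5.Pt 0) = 0 := by decide +kernel
theorem c4tl6_e_0 : allZ (dent c4tl6 c4th_P (nat_lit 351)) (nat_lit 0) (nat_lit 1) = true := by decide +kernel
theorem c4tl6_h : 0 < c4tl6.n ∧ 0 < c4tl6.K ∧ c4tl6.Pt 0 < 351 ∧ c4tl6.Q (c4tl6.Pt 0) = 0 := by decide +kernel
theorem c4tl7_e_0 : allZ (dent c4tl7 c4th_P (nat_lit 351)) (nat_lit 0) (nat_lit 1) = true := by decide +kernel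
theorem c4tl7_h : 0 < c4tl7.n ∧ 0 < c4tl7.K ∧ c4tl7.Pt 0 < 351 ∧ c4tl7.Q (c4tl7.Pt 0) = 0 := by decide +kernel
theorem c4tl8_e_0 : allZ (dent c4tl8 c4th_P (nat_lit 351)) (nat_lit 0) (nat_lit 1) = true := by decide +kernel
theorem c4tl8_h : 0 < c4tl8.n ∧ 0 < c4tl8.K ∧ c4tl8.Pt 0 < 351 ∧ c4tl8.Q (c4tl8.Pt 0) = 0 := by decide +kernel
theorem c4t_f8 : (Nat.ble c4tl8.K 18 && Nat.ble (topK []) c4tl8.K && fixLetters c4th_P (topK []) (c4tl8.Pt 0)) = true := by decide +kernel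
theorem c4t_f7 : (Nat.ble c4tl7.K 18 && Nat.ble (topK [c4tl8]) c4tl7.K && fixLetters c4th_P (topK [c4tl8]) (c4tl7.Pt 0)) = true := by decide +kernel
theorem c4t_f6 : (Nat.ble c4tl6.K 18 && Nat.ble (topK [c4tl7, c4tl8]) c4tl6.K && fixLetters c4th_P (topK [c4tl7, c4tl8]) (c4tl6.Pt 0)) = true := by decide +kernel
theorem c4t_f5 : (Nat.ble c4tl5.K 18 && Nat.ble (topK [c4tl6, c4tl7, c4tl8]) c4tl5.K && fixLetters c4th_P (topK [c4tl6, c4tl7, c4tl8]) (c4tl5.Pt 0)) = true := by decide +kernel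
theorem c4t_f4 : (Nat.ble c4tl4.K 18 && Nat.ble (topK [c4tl5, c4tl6, c4tl7, c4tl8]) c4tl4.K && fixLetters c4th_P (topK [c4tl5, c4tl6, c4tl7, c4tl8]) (c4tl4.Pt 0)) = true := by decide +kernel
theorem c4t_f3 : (Nat.ble c4tl3.K 18 && Nat.ble (topK [c4tl4, c4tl5, c4tl6, c4tl7, c4tl8]) c4tl3.K && fixLetters c4th_P (topK [c4tl4, c4tl5, c4tl6, c4tl7, c4tl8]) (c4tl3.Pt 0)) = true := by decide +kernel
theorem c4t_f2 : (Nat.ble c4tl2.K 18 && Nat.ble (topK [c4tl3, c4tl4, c4tl5, c4tl6, c4tl7, c4tl8]) c4tl2.K && fixLetters c4th_P (topK [c4tl3, c4tl4, c4tl5, c4tl6, c4tl7, c4tl8]) (c4tl2.Pt 0)) = true := by decide +kernel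
theorem c4t_f1 : (Nat.ble c4tl1.K 18 && Nat.ble (topK [c4tl2, c4tl3, c4tl4, c4tl5, c4tl6, c4tl7, c4tl8]) c4tl1.K && fixLetters c4th_P (topK [c4tl2, c4tl3, c4tl4, c4tl5, c4tl6, c4tl7, c4tl8]) (c4tl1.Pt 0)) = true := by decide +kernel
theorem c4t_f0 : (Nat.ble c4tl0.K 18 && Nat.ble (topK [c4tl1, c4tl2, c4tl3, c4tl4, c4tl5, c4tl6, c4tl7, c4tl8]) c4tl0.K && fixLetters c4th_P (topK [c4tl1, c4tl2, c4tl3, c4tl4, c4tl5, c4tl6, c4tl7, c4tl8]) (c4tl0.Pt 0)) = true := by decide +kernel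
theorem c4t_c : chainCard [c4tl0, c4tl1, c4tl2, c4tl3, c4tl4, c4tl5, c4tl6, c4tl7, c4tl8] = 4585351680 := by decide +kernel
theorem c4ce_lt : allL (ltAll 7) c4ce_W = true := by decide +kernel
theorem c4c_f8 : (Nat.ble c4tl8.K 18 && Nat.blt (nat_lit 9) 351 && fixLetters c4th_P c4tl8.K (nat_lit 9) && Nat.beq (ltAll 1 [nat_lit 0, nat_lit 0]) 0 && Nat.beq (apW c4x_P [nat_lit 0, nat_lit 0] (nat_lit 9)) (c4tl8.Pt 0)) = true := by decide +kernel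
theorem c4c_f7 : (Nat.ble c4tl7.K 18 && Nat.blt (nat_lit 9) 351 && fixLetters c4th_P c4tl7.K (nat_lit 9) && Nat.beq (ltAll 1 [nat_lit 0]) 0 && Nat.beq (apW c4x_P [nat_lit 0] (nat_lit 9)) (c4tl7.Pt 0)) = true := by decide +kernel
theorem c4cc6_e_0 : allZ (dent c4cc6 c4ce_P (nat_lit 351)) (nat_lit 0) (nat_lit 1) = true := by decide +kernel
theorem c4cc6_h : 0 < c4cc6.n ∧ 0 < c4cc6.K ∧ c4cc6.Pt 0 < 351 ∧ c4cc6.Q (c4cc6.Pt 0) = 0 := by decide +kernel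
theorem c4tn0_0 : (Nat.ble c4tl6.K 18 && Nat.beq (ltAll 351 [c4tl5.Pt 0, c4tl4.Pt 0, c4tl3.Pt 0, c4tl2.Pt 0, c4tl1.Pt 0, c4tl0.Pt 0]) 0 && kChk c4ce_P c4x_P c4tn0.Kn 1 H16.O73.B [c4tl5.Pt 0, c4tl4.Pt 0, c4tl3.Pt 0, c4tl2.Pt 0, c4tl1.Pt 0, c4tl0.Pt 0] && allL (ltAll 1) c4tn0.pre && planOK c4th_P c4x_P 1 (c4tl6.Pt 0) c4tn0.plan [c4tl6, c4tl7, c4tl8]) = true := by decide +kernel
theorem c4tn0_1_0 : allZ (c4tn0.ent H16.O73.P c4th_P c4x_P c4x_P c4ce_P (nat_lit 7) (nat_lit 1) H16.O73.B c4tl6 [c4tl7, c4tl8] (memO c4cc6)) (nat_lit 0) (nat_lit 2) = true := by decide +kernel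
theorem c4c_f6 : (Nat.ble c4cc6.K 9 && Nat.ble (topK []) c4cc6.K && Nat.beq (c4cc6.Pt 0) (c4tl6.Pt 0) && Nat.beq (ltAll 351 [c4tl5.Pt 0, c4tl4.Pt 0, c4tl3.Pt 0, c4tl2.Pt 0, c4tl1.Pt 0, c4tl0.Pt 0]) 0 && kChk c4ce_P c4x_P c4cc6.K 1 H16.O73.B [c4tl5.Pt 0, c4tl4.Pt 0, c4tl3.Pt 0, c4tl2.Pt 0, c4tl1.Pt 0, c4tl0.Pt 0]) = true := by decide +kernel
theorem c4c_f5 : (Nat.ble c4tl5.K 18 && Nat.blt (nat_lit 29) 351 && fixLetters c4th_P c4tl5.K (nat_lit 29) && Nat.beq (ltAll 1 [nat_lit 0, nat_lit 0]) 0 && Nat.beq (apW c4x_P [nat_lit 0, nat_lit 0] (nat_lit 29)) (c4tl5.Pt 0)) = true := by decide +kernel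
theorem c4c_f4 : (Nat.ble c4tl4.K 18 && Nat.blt (nat_lit 29) 351 && fixLetters c4th_P c4tl4.K (nat_lit 29) && Nat.beq (ltAll 1 [nat_lit 0]) 0 && Nat.beq (apW c4x_P [nat_lit 0] (nat_lit 29)) (c4tl4.Pt 0)) = true := by decide +kernel
theorem c4cc3_e_0 : allZ (dent c4cc3 c4ce_P (nat_lit 351)) (nat_lit 0) (nat_lit 8) = true := by decide +kernel
theorem c4cc3_h : 0 < c4cc3.n ∧ 0 < c4cc3.K ∧ c4cc3.Pt 0 < 351 ∧ c4cc3.Q (c4cc3.Pt 0) = 0 := by decide +kernel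
theorem c4tn1_0 : (Nat.ble c4tl3.K 18 && Nat.beq (ltAll 351 [c4tl2.Pt 0, c4tl1.Pt 0, c4tl0.Pt 0]) 0 && kChk c4ce_P c4x_P c4tn1.Kn 1 H16.O73.B [c4tl2.Pt 0, c4tl1.Pt 0, c4tl0.Pt 0] && allL (ltAll 1) c4tn1.pre && planOK c4th_P c4x_P 1 (c4tl3.Pt 0) c4tn1.plan [c4tl3, c4tl4, c4tl5, c4tl6, c4tl7, c4tl8]) = true := by decide +kernel
theorem c4tn1_1_0 : allZ (c4tn1.ent H16.O73.P c4th_P c4x_P c4x_P c4ce_P (nat_lit 7) (nat_lit 1) H16.O73.B c4tl3 [c4tl4, c4tl5, c4tl6, c4tl7, c4tl8] (memO c4cc3)) (nat_lit 0) (nat_lit 12) = true := by decide +kernel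
theorem c4c_f3 : (Nat.ble c4cc3.K 9 && Nat.ble (topK [c4cc6]) c4cc3.K && Nat.beq (c4cc3.Pt 0) (c4tl3.Pt 0) && Nat.beq (ltAll 351 [c4tl2.Pt 0, c4tl1.Pt 0, c4tl0.Pt 0]) 0 && kChk c4ce_P c4x_P c4cc3.K 1 H16.O73.B [c4tl2.Pt 0, c4tl1.Pt 0, c4tl0.Pt 0]) = true := by decide +kernel
theorem c4c_f2 : (Nat.ble c4tl2.K 18 && Nat.blt (nat_lit 0) 351 && fixLetters c4th_P c4tl2.K (nat_lit 0) && Nat.beq (ltAll 1 [nat_lit 0, nat_lit 0]) 0 && Nat.beq (apW c4x_P [nat_lit 0, nat_lit 0] (nat_lit 0)) (c4tl2.Pt 0)) = true := by decide +kernel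
theorem c4c_f1 : (Nat.ble c4tl1.K 18 && Nat.blt (nat_lit 0) 351 && fixLetters c4th_P c4tl1.K (nat_lit 0) && Nat.beq (ltAll 1 [nat_lit 0]) 0 && Nat.beq (apW c4x_P [nat_lit 0] (nat_lit 0)) (c4tl1.Pt 0)) = true := by decide +kernel
theorem c4cc0_e_0 : allZ (dent c4cc0 c4ce_P (nat_lit 351)) (nat_lit 0) (nat_lit 80) = true := by decide +kernel
theorem c4cc0_h : 0 < c4cc0.n ∧ 0 < c4cc0.K ∧ c4cc0.Pt 0 < 351 ∧ c4cc0.Q (c4cc0.Pt 0) = 0 := by decide +kernel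
theorem c4tn2_0 : (Nat.ble c4tl0.K 18 && Nat.beq (ltAll 351 []) 0 && kChk c4ce_P c4x_P c4tn2.Kn 1 H16.O73.B [] && allL (ltAll 1) c4tn2.pre && planOK c4th_P c4x_P 1 (c4tl0.Pt 0) c4tn2.plan [c4tl0, c4tl1, c4tl2, c4tl3, c4tl4, c4tl5, c4tl6, c4tl7, c4tl8]) = true := by decide +kernel
theorem c4tn2_1_0 : allZ (c4tn2.ent H16.O73.P c4th_P c4x_P c4x_P c4ce_P (nat_lit 7) (nat_lit 1) H16.O73.B c4tl0 [c4tl1, c4tl2, c4tl3, c4tl4, c4tl5, c4tl6, c4tl7, c4tl8] (memO c4cc0)) (nat_lit 0) (nat_lit 351) = true := by decide +kernel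
theorem c4c_f0 : (Nat.ble c4cc0.K 9 && Nat.ble (topK [c4cc3, c4cc6]) c4cc0.K && Nat.beq (c4cc0.Pt 0) (c4tl0.Pt 0) && Nat.beq (ltAll 351 []) 0 && kChk c4ce_P c4x_P c4cc0.K 1 H16.O73.B []) = true := by decide +kernel
theorem c4c_c : chainCard [c4cc0, c4cc3, c4cc6] = 1458 ∧ topK [c4cc0, c4cc3, c4cc6] = 9 := by decide +kernel
theorem p5_k : fixL covr_P 7 H16.O73.B (List.replicate 3 5) = 0 := by decide +kernel
theorem n5_k : 0 < 351 ∧ ltAll 7 (List.replicate 1 5) = 0 ∧ ltAll 7 [] = 0 ∧ apW covr_P (List.replicate 1 5) 0 ≠ apW covr_P [] 0 := by decide +kernel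
theorem c5x_lt : allL (ltAll 7) c5x_W = true := by decide +kernel
theorem c5th_lt : allL (ltAll 7) c5th_W = true := by decide +kernel
theorem c5tl0_e_0 : allZ (dent c5tl0 c5th_P (nat_lit 351)) (nat_lit 0) (nat_lit 350) = true := by decide +kernel
theorem c5tl0_h : 0 < c5tl0.n ∧ 0 < c5tl0.K ∧ c5tl0.Pt 0 < 351 ∧ c5tl0.Q (c5tl0.Pt 0) = 0 := by decide +kernel
theorem c5tl1_e_0 : allZ (dent c5tl1 c5th_P (nat_lit 351)) (nat_lit 0) (nat_lit 223) = true := by decide +kernel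
theorem c5tl1_h : 0 < c5tl1.n ∧ 0 < c5tl1.K ∧ c5tl1.Pt 0 < 351 ∧ c5tl1.Q (c5tl1.Pt 0) = 0 := by decide +kernel
theorem c5tl2_e_0 : allZ (dent c5tl2 c5th_P (nat_lit 351)) (nat_lit 0) (nat_lit 44) = true := by decide +kernel
theorem c5tl2_h : 0 < c5tl2.n ∧ 0 < c5tl2.K ∧ c5tl2.Pt 0 < 351 ∧ c5tl2.Q (c5tl2.Pt 0) = 0 := by decide +kernel
theorem c5tl3_e_0 : allZ (dent c5tl3 c5th_P (nat_lit 351)) (nat_lit 0) (nat_lit 23) = true := by decide +kernel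
theorem c5tl3_h : 0 < c5tl3.n ∧ 0 < c5tl3.K ∧ c5tl3.Pt 0 < 351 ∧ c5tl3.Q (c5tl3.Pt 0) = 0 := by decide +kernel
theorem c5tl4_e_0 : allZ (dent c5tl4 c5th_P (nat_lit 351)) (nat_lit 0) (nat_lit 8) = true := by decide +kernel
theorem c5tl4_h : 0 < c5tl4.n ∧ 0 < c5tl4.K ∧ c5tl4.Pt 0 < 351 ∧ c5tl4.Q (c5tl4.Pt 0) = 0 := by decide +kernel
theorem c5tl5_e_0 : allZ (dent c5tl5 c5th_P (nat_lit 351)) (nat_lit 0) (nat_lit 5) = true := by decide +kernel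
theorem c5tl5_h : 0 < c5tl5.n ∧ 0 < c5tl5.K ∧ c5tl5.Pt 0 < 351 ∧ c5tl5.Q (c5tl5.Pt 0) = 0 := by decide +kernel
theorem c5t_f5 : (Nat.ble c5tl5.K 18 && Nat.ble (topK []) c5tl5.K && fixLetters c5th_P (topK []) (c5tl5.Pt 0)) = true := by decide +kernel
theorem c5t_f4 : (Nat.ble c5tl4.K 18 && Nat.ble (topK [c5tl5]) c5tl4.K && fixLetters c5th_P (topK [c5tl5]) (c5tl4.Pt 0)) = true := by decide +kernel
theorem c5t_f3 : (Nat.ble c5tl3.K 18 && Nat.ble (topK [c5tl4, c5tl5]) c5tl3.K && fixLetters c5th_P (topK [c5tl4, c5tl5]) (c5tl3.Pt 0)) = true := by decide +kernel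
theorem c5t_f2 : (Nat.ble c5tl2.K 18 && Nat.ble (topK [c5tl3, c5tl4, c5tl5]) c5tl2.K && fixLetters c5th_P (topK [c5tl3, c5tl4, c5tl5]) (c5tl2.Pt 0)) = true := by decide +kernel
theorem c5t_f1 : (Nat.ble c5tl1.K 18 && Nat.ble (topK [c5tl2, c5tl3, c5tl4, c5tl5]) c5tl1.K && fixLetters c5th_P (topK [c5tl2, c5tl3, c5tl4, c5tl5]) (c5tl1.Pt 0)) = true := by decide +kernel
theorem c5t_f0 : (Nat.ble c5tl0.K 18 && Nat.ble (topK [c5tl1, c5tl2, c5tl3, c5tl4, c5tl5]) c5tl0.K && fixLetters c5th_P (topK [c5tl1, c5tl2, c5tl3, c5tl4, c5tl5]) (c5tl0.Pt 0)) = true := by decide +kernel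
theorem c5t_c : chainCard [c5tl0, c5tl1, c5tl2, c5tl3, c5tl4, c5tl5] = 4585351680 := by decide +kernel
theorem c5ce_lt : allL (ltAll 7) c5ce_W = true := by decide +kernel
theorem c5c_f5 : (Nat.ble c5tl5.K 18 && Nat.blt (nat_lit 0) 351 && fixLetters c5th_P c5tl5.K (nat_lit 0) && Nat.beq (ltAll 1 [nat_lit 0]) 0 && Nat.beq (apW c5x_P [nat_lit 0] (nat_lit 0)) (c5tl5.Pt 0)) = true := by decide +kernel
theorem c5cc4_e_0 : allZ (dent c5cc4 c5ce_P (nat_lit 351)) (nat_lit 0) (nat_lit 8) = true := by decide +kernel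
theorem c5cc4_h : 0 < c5cc4.n ∧ 0 < c5cc4.K ∧ c5cc4.Pt 0 < 351 ∧ c5cc4.Q (c5cc4.Pt 0) = 0 := by decide +kernel
theorem c5tn0_0 : (Nat.ble c5tl4.K 18 && Nat.beq (ltAll 351 [c5tl3.Pt 0, c5tl2.Pt 0, c5tl1.Pt 0, c5tl0.Pt 0]) 0 && kChk c5ce_P c5x_P c5tn0.Kn 1 H16.O73.B [c5tl3.Pt 0, c5tl2.Pt 0, c5tl1.Pt 0, c5tl0.Pt 0] && allL (ltAll 1) c5tn0.pre && planOK c5th_P c5x_P 1 (c5tl4.Pt 0) c5tn0.plan [c5tl4, c5tl5]) = true := by decide +kernel
theorem c5tn0_1_0 : allZ (c5tn0.ent H16.O73.P c5th_P c5x_P c5x_P c5ce_P (nat_lit 7) (nat_lit 1) H16.O73.B c5tl4 [c5tl5] (memO c5cc4)) (nat_lit 0) (nat_lit 9) = true := by decide +kernel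
theorem c5c_f4 : (Nat.ble c5cc4.K 8 && Nat.ble (topK []) c5cc4.K && Nat.beq (c5cc4.Pt 0) (c5tl4.Pt 0) && Nat.beq (ltAll 351 [c5tl3.Pt 0, c5tl2.Pt 0, c5tl1.Pt 0, c5tl0.Pt 0]) 0 && kChk c5ce_P c5x_P c5cc4.K 1 H16.O73.B [c5tl3.Pt 0, c5tl2.Pt 0, c5tl1.Pt 0, c5tl0.Pt 0]) = true := by decide +kernel
theorem c5c_f3 : (Nat.ble c5tl3.K 18 && Nat.blt (nat_lit 5) 351 && fixLetters c5th_P c5tl3.K (nat_lit 5) && Nat.beq (ltAll 1 [nat_lit 0]) 0 && Nat.beq (apW c5x_P [nat_lit 0] (nat_lit 5)) (c5tl3.Pt 0)) = true := by decide +kernel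
theorem c5cc2_e_0 : allZ (dent c5cc2 c5ce_P (nat_lit 351)) (nat_lit 0) (nat_lit 8) = true := by decide +kernel
theorem c5cc2_h : 0 < c5cc2.n ∧ 0 < c5cc2.K ∧ c5cc2.Pt 0 < 351 ∧ c5cc2.Q (c5cc2.Pt 0) = 0 := by decide +kernel
theorem c5tn1_0 : (Nat.ble c5tl2.K 18 && Nat.beq (ltAll 351 [c5tl1.Pt 0, c5tl0.Pt 0]) 0 && kChk c5ce_P c5x_P c5tn1.Kn 1 H16.O73.B [c5tl1.Pt 0, c5tl0.Pt 0] && allL (ltAll 1) c5tn1.pre && planOK c5th_P c5x_P 1 (c5tl2.Pt 0) c5tn1.plan [c5tl2, c5tl3, c5tl4, c5tl5]) = true := by decide +kernel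
theorem c5tn1_1_0 : allZ (c5tn1.ent H16.O73.P c5th_P c5x_P c5x_P c5ce_P (nat_lit 7) (nat_lit 1) H16.O73.B c5tl2 [c5tl3, c5tl4, c5tl5] (memO c5cc2)) (nat_lit 0) (nat_lit 45) = true := by decide +kernel
theorem c5c_f2 : (Nat.ble c5cc2.K 8 && Nat.ble (topK [c5cc4]) c5cc2.K && Nat.beq (c5cc2.Pt 0) (c5tl2.Pt 0) && Nat.beq (ltAll 351 [c5tl1.Pt 0, c5tl0.Pt 0]) 0 && kChk c5ce_P c5x_P c5cc2.K 1 H16.O73.B [c5tl1.Pt 0, c5tl0.Pt 0]) = true := by decide +kernel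
theorem c5cc1_e_0 : allZ (dent c5cc1 c5ce_P (nat_lit 351)) (nat_lit 0) (nat_lit 3) = true := by decide +kernel
theorem c5cc1_h : 0 < c5cc1.n ∧ 0 < c5cc1.K ∧ c5cc1.Pt 0 < 351 ∧ c5cc1.Q (c5cc1.Pt 0) = 0 := by decide +kernel
theorem c5tn2y122_lt : allL (ltAll 7) c5tn2y122_W = true := by decide +kernel
theorem c5tr3k_lt : allL (ltAll 7) c5tr3k_W = true := by decide +kernel
theorem c5tn3y5_lt : allL (ltAll 7) c5tn3y5_W = true := by decide +kernel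
theorem c5tr4k_lt : allL (ltAll 7) c5tr4k_W = true := by decide +kernel
theorem c5tn4_0 : (Nat.ble c5tl4.K 18 && Nat.beq (ltAll 351 [c5tl3.Pt 0, c5tl2.Pt 0, c5tl1.Pt 0, c5tl0.Pt 0]) 0 && kChk c5tr4k_P c5tn3y5_P c5tn4.Kn 1 H16.O73.B [c5tl3.Pt 0, c5tl2.Pt 0, c5tl1.Pt 0, c5tl0.Pt 0] && allL (ltAll 1) c5tn4.pre && planOK c5th_P c5x_P 1 (c5tl4.Pt 0) c5tn4.plan [c5tl4, c5tl5]) = true := by decide +kernel
theorem c5tn4_1_0 : allZ (c5tn4.ent H16.O73.P c5th_P c5x_P c5tn3y5_P c5tr4k_P (nat_lit 7) (nat_lit 1) H16.O73.B c5tl4 [c5tl5] (fun _ => nat_lit 1)) (nat_lit 0) (nat_lit 9) = true := by decide +kernel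
theorem c5tn3_0 : (Nat.ble c5tl2.K 18 && Nat.beq (ltAll 351 [c5tl1.Pt 0, c5tl0.Pt 0]) 0 && kChk c5tr3k_P c5tn2y122_P c5tn3.Kn 1 H16.O73.B [c5tl1.Pt 0, c5tl0.Pt 0] && allL (ltAll 1) c5tn3.pre && planOK c5th_P c5x_P 1 (c5tl2.Pt 0) c5tn3.plan [c5tl2, c5tl3, c5tl4, c5tl5]) = true := by decide +kernel
theorem c5tn3_1_0 : allZ (c5tn3.ent H16.O73.P c5th_P c5x_P c5tn2y122_P c5tr3k_P (nat_lit 7) (nat_lit 1) H16.O73.B c5tl2 [c5tl3, c5tl4, c5tl5] (fun _ => nat_lit 1)) (nat_lit 0) (nat_lit 45) = true := by decide +kernel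
theorem c5tn2y254_lt : allL (ltAll 7) c5tn2y254_W = true := by decide +kernel
theorem c5tr5k_lt : allL (ltAll 7) c5tr5k_W = true := by decide +kernel
theorem c5tn5y5_lt : allL (ltAll 7) c5tn5y5_W = true := by decide +kernel
theorem c5tr6k_lt : allL (ltAll 7) c5tr6k_W = true := by decide +kernel
theorem c5tn6_0 : (Nat.ble c5tl4.K 18 && Nat.beq (ltAll 351 [c5tl3.Pt 0, c5tl2.Pt 0, c5tl1.Pt 0, c5tl0.Pt 0]) 0 && kChk c5tr6k_P c5tn5y5_P c5tn6.Kn 1 H16.O73.B [c5tl3.Pt 0, c5tl2.Pt 0, c5tl1.Pt 0, c5tl0.Pt 0] && allL (ltAll 1) c5tn6.pre && planOK c5th_P c5x_P 1 (c5tl4.Pt 0) c5tn6.plan [c5tl4, c5tl5]) = true := by decide +kernel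
theorem c5tn6_1_0 : allZ (c5tn6.ent H16.O73.P c5th_P c5x_P c5tn5y5_P c5tr6k_P (nat_lit 7) (nat_lit 1) H16.O73.B c5tl4 [c5tl5] (fun _ => nat_lit 1)) (nat_lit 0) (nat_lit 9) = true := by decide +kernel
theorem c5tn5_0 : (Nat.ble c5tl2.K 18 && Nat.beq (ltAll 351 [c5tl1.Pt 0, c5tl0.Pt 0]) 0 && kChk c5tr5k_P c5tn2y254_P c5tn5.Kn 1 H16.O73.B [c5tl1.Pt 0, c5tl0.Pt 0] && allL (ltAll 1) c5tn5.pre && planOK c5th_P c5x_P 1 (c5tl2.Pt 0) c5tn5.plan [c5tl2, c5tl3, c5tl4, c5tl5]) = true := by decide +kernel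
theorem c5tn5_1_0 : allZ (c5tn5.ent H16.O73.P c5th_P c5x_P c5tn2y254_P c5tr5k_P (nat_lit 7) (nat_lit 1) H16.O73.B c5tl2 [c5tl3, c5tl4, c5tl5] (fun _ => nat_lit 1)) (nat_lit 0) (nat_lit 45) = true := by decide +kernel
theorem c5tn2_0 : (Nat.ble c5tl1.K 18 && Nat.beq (ltAll 351 [c5tl0.Pt 0]) 0 && kChk c5ce_P c5x_P c5tn2.Kn 1 H16.O73.B [c5tl0.Pt 0] && allL (ltAll 1) c5tn2.pre && planOK c5th_P c5x_P 1 (c5tl1.Pt 0) c5tn2.plan [c5tl1, c5tl2, c5tl3, c5tl4, c5tl5]) = true := by decide +kernel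
theorem c5tn2_1_0 : allZ (c5tn2.ent H16.O73.P c5th_P c5x_P c5x_P c5ce_P (nat_lit 7) (nat_lit 1) H16.O73.B c5tl1 [c5tl2, c5tl3, c5tl4, c5tl5] (memO c5cc1)) (nat_lit 0) (nat_lit 224) = true := by decide +kernel
theorem c5c_f1 : (Nat.ble c5cc1.K 8 && Nat.ble (topK [c5cc2, c5cc4]) c5cc1.K && Nat.beq (c5cc1.Pt 0) (c5tl1.Pt 0) && Nat.beq (ltAll 351 [c5tl0.Pt 0]) 0 && kChk c5ce_P c5x_P c5cc1.K 1 H16.O73.B [c5tl0.Pt 0]) = true := by decide +kernel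
theorem c5cc0_e_0 : allZ (dent c5cc0 c5ce_P (nat_lit 351)) (nat_lit 0) (nat_lit 8) = true := by decide +kernel
theorem c5cc0_h : 0 < c5cc0.n ∧ 0 < c5cc0.K ∧ c5cc0.Pt 0 < 351 ∧ c5cc0.Q (c5cc0.Pt 0) = 0 := by decide +kernel
theorem c5tn7_0 : (Nat.ble c5tl0.K 18 && Nat.beq (ltAll 351 []) 0 && kChk c5ce_P c5x_P c5tn7.Kn 1 H16.O73.B [] && allL (ltAll 1) c5tn7.pre && planOK c5th_P c5x_P 1 (c5tl0.Pt 0) c5tn7.plan [c5tl0, c5tl1, c5tl2, c5tl3, c5tl4, c5tl5]) = true := by decide +kernel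
theorem c5tn7_1_0 : allZ (c5tn7.ent H16.O73.P c5th_P c5x_P c5x_P c5ce_P (nat_lit 7) (nat_lit 1) H16.O73.B c5tl0 [c5tl1, c5tl2, c5tl3, c5tl4, c5tl5] (memO c5cc0)) (nat_lit 0) (nat_lit 351) = true := by decide +kernel
theorem c5c_f0 : (Nat.ble c5cc0.K 8 && Nat.ble (topK [c5cc1, c5cc2, c5cc4]) c5cc0.K && Nat.beq (c5cc0.Pt 0) (c5tl0.Pt 0) && Nat.beq (ltAll 351 []) 0 && kChk c5ce_P c5x_P c5cc0.K 1 H16.O73.B []) = true := by decide +kernel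
theorem c5c_c : chainCard [c5cc0, c5cc1, c5cc2, c5cc4] = 2916 ∧ topK [c5cc0, c5cc1, c5cc2, c5cc4] = 8 := by decide +kernel
theorem p6_k : fixL covr_P 7 H16.O73.B (List.replicate 3 6) = 0 := by decide +kernel
theorem n6_k : 0 < 351 ∧ ltAll 7 (List.replicate 1 6) = 0 ∧ ltAll 7 [] = 0 ∧ apW covr_P (List.replicate 1 6) 0 ≠ apW covr_P [] 0 := by decide +kernel
theorem c6x_lt : allL (ltAll 7) c6x_W = true := by decide +kernel
theorem c6th_lt : allL (ltAll 7) c6th_W = true := by decide +kernel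
theorem c6tl0_e_0 : allZ (dent c6tl0 c6th_P (nat_lit 351)) (nat_lit 0) (nat_lit 350) = true := by decide +kernel
theorem c6tl0_h : 0 < c6tl0.n ∧ 0 < c6tl0.K ∧ c6tl0.Pt 0 < 351 ∧ c6tl0.Q (c6tl0.Pt 0) = 0 := by decide +kernel
theorem c6tl1_e_0 : allZ (dent c6tl1 c6th_P (nat_lit 351)) (nat_lit 0) (nat_lit 223) = true := by decide +kernel
theorem c6tl1_h : 0 < c6tl1.n ∧ 0 < c6tl1.K ∧ c6tl1.Pt 0 < 351 ∧ c6tl1.Q (c6tl1.Pt 0) = 0 := by decide +kernel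
theorem c6tl2_e_0 : allZ (dent c6tl2 c6th_P (nat_lit 351)) (nat_lit 0) (nat_lit 44) = true := by decide +kernel
theorem c6tl2_h : 0 < c6tl2.n ∧ 0 < c6tl2.K ∧ c6tl2.Pt 0 < 351 ∧ c6tl2.Q (c6tl2.Pt 0) = 0 := by decide +kernel
theorem c6tl3_e_0 : allZ (dent c6tl3 c6th_P (nat_lit 351)) (nat_lit 0) (nat_lit 1) = true := by decide +kernel
theorem c6tl3_h : 0 < c6tl3.n ∧ 0 < c6tl3.K ∧ c6tl3.Pt 0 < 351 ∧ c6tl3.Q (c6tl3.Pt 0) = 0 := by decide +kernel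
theorem c6tl4_e_0 : allZ (dent c6tl4 c6th_P (nat_lit 351)) (nat_lit 0) (nat_lit 11) = true := by decide +kernel
theorem c6tl4_h : 0 < c6tl4.n ∧ 0 < c6tl4.K ∧ c6tl4.Pt 0 < 351 ∧ c6tl4.Q (c6tl4.Pt 0) = 0 := by decide +kernel
theorem c6tl5_e_0 : allZ (dent c6tl5 c6th_P (nat_lit 351)) (nat_lit 0) (nat_lit 8) = true := by decide +kernel
theorem c6tl5_h : 0 < c6tl5.n ∧ 0 < c6tl5.K ∧ c6tl5.Pt 0 < 351 ∧ c6tl5.Q (c6tl5.Pt 0) = 0 := by decide +kernel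
theorem c6tl6_e_0 : allZ (dent c6tl6 c6th_P (nat_lit 351)) (nat_lit 0) (nat_lit 2) = true := by decide +kernel
theorem c6tl6_h : 0 < c6tl6.n ∧ 0 < c6tl6.K ∧ c6tl6.Pt 0 < 351 ∧ c6tl6.Q (c6tl6.Pt 0) = 0 := by decide +kernel
theorem c6tl7_e_0 : allZ (dent c6tl7 c6th_P (nat_lit 351)) (nat_lit 0) (nat_lit 1) = true := by decide +kernel
theorem c6tl7_h : 0 < c6tl7.n ∧ 0 < c6tl7.K ∧ c6tl7.Pt 0 < 351 ∧ c6tl7.Q (c6tl7.Pt 0) = 0 := by decide +kernel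
theorem c6t_f7 : (Nat.ble c6tl7.K 15 && Nat.ble (topK []) c6tl7.K && fixLetters c6th_P (topK []) (c6tl7.Pt 0)) = true := by decide +kernel
theorem c6t_f6 : (Nat.ble c6tl6.K 15 && Nat.ble (topK [c6tl7]) c6tl6.K && fixLetters c6th_P (topK [c6tl7]) (c6tl6.Pt 0)) = true := by decide +kernel
theorem c6t_f5 : (Nat.ble c6tl5.K 15 && Nat.ble (topK [c6tl6, c6tl7]) c6tl5.K && fixLetters c6th_P (topK [c6tl6, c6tl7]) (c6tl5.Pt 0)) = true := by decide +kernel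
theorem c6t_f4 : (Nat.ble c6tl4.K 15 && Nat.ble (topK [c6tl5, c6tl6, c6tl7]) c6tl4.K && fixLetters c6th_P (topK [c6tl5, c6tl6, c6tl7]) (c6tl4.Pt 0)) = true := by decide +kernel
theorem c6t_f3 : (Nat.ble c6tl3.K 15 && Nat.ble (topK [c6tl4, c6tl5, c6tl6, c6tl7]) c6tl3.K && fixLetters c6th_P (topK [c6tl4, c6tl5, c6tl6, c6tl7]) (c6tl3.Pt 0)) = true := by decide +kernel
theorem c6t_f2 : (Nat.ble c6tl2.K 15 && Nat.ble (topK [c6tl3, c6tl4, c6tl5, c6tl6, c6tl7]) c6tl2.K && fixLetters c6th_P (topK [c6tl3, c6tl4, c6tl5, c6tl6, c6tl7]) (c6tl2.Pt 0)) = true := by decide +kernel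
theorem c6t_f1 : (Nat.ble c6tl1.K 15 && Nat.ble (topK [c6tl2, c6tl3, c6tl4, c6tl5, c6tl6, c6tl7]) c6tl1.K && fixLetters c6th_P (topK [c6tl2, c6tl3, c6tl4, c6tl5, c6tl6, c6tl7]) (c6tl1.Pt 0)) = true := by decide +kernel
theorem c6t_f0 : (Nat.ble c6tl0.K 15 && Nat.ble (topK [c6tl1, c6tl2, c6tl3, c6tl4, c6tl5, c6tl6, c6tl7]) c6tl0.K && fixLetters c6th_P (topK [c6tl1, c6tl2, c6tl3, c6tl4, c6tl5, c6tl6, c6tl7]) (c6tl0.Pt 0)) = true := by decide +kernel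
theorem c6t_c : chainCard [c6tl0, c6tl1, c6tl2, c6tl3, c6tl4, c6tl5, c6tl6, c6tl7] = 4585351680 := by decide +kernel
theorem c6ce_lt : allL (ltAll 7) c6ce_W = true := by decide +kernel
theorem c6cc7_e_0 : allZ (dent c6cc7 c6ce_P (nat_lit 351)) (nat_lit 0) (nat_lit 1) = true := by decide +kernel
theorem c6cc7_h : 0 < c6cc7.n ∧ 0 < c6cc7.K ∧ c6cc7.Pt 0 < 351 ∧ c6cc7.Q (c6cc7.Pt 0) = 0 := by decide +kernel
theorem c6tn0_0 : (Nat.ble c6tl7.K 15 && Nat.beq (ltAll 351 [c6tl6.Pt 0, c6tl5.Pt 0, c6tl4.Pt 0, c6tl3.Pt 0, c6tl2.Pt 0, c6tl1.Pt 0, c6tl0.Pt 0]) 0 && kChk c6ce_P c6x_P c6tn0.Kn 1 H16.O73.B [c6tl6.Pt 0, c6tl5.Pt 0, c6tl4.Pt 0, c6tl3.Pt 0, c6tl2.Pt 0, c6tl1.Pt 0, c6tl0.Pt 0] && allL (ltAll 1) c6tn0.pre && planOK c6th_P c6x_P 1 (c6tl7.Pt 0) c6tn0.plan [c6tl7]) = true := by decide +kernel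
theorem c6tn0_1_0 : allZ (c6tn0.ent H16.O73.P c6th_P c6x_P c6x_P c6ce_P (nat_lit 7) (nat_lit 1) H16.O73.B c6tl7 [] (memO c6cc7)) (nat_lit 0) (nat_lit 2) = true := by decide +kernel
theorem c6c_f7 : (Nat.ble c6cc7.K 8 && Nat.ble (topK []) c6cc7.K && Nat.beq (c6cc7.Pt 0) (c6tl7.Pt 0) && Nat.beq (ltAll 351 [c6tl6.Pt 0, c6tl5.Pt 0, c6tl4.Pt 0, c6tl3.Pt 0, c6tl2.Pt 0, c6tl1.Pt 0, c6tl0.Pt 0]) 0 && kChk c6ce_P c6x_P c6cc7.K 1 H16.O73.B [c6tl6.Pt 0, c6tl5.Pt 0, c6tl4.Pt 0, c6tl3.Pt 0, c6tl2.Pt 0, c6tl1.Pt 0, c6tl0.Pt 0]) = true := by decide +kernel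
theorem c6cc6_e_0 : allZ (dent c6cc6 c6ce_P (nat_lit 351)) (nat_lit 0) (nat_lit 2) = true := by decide +kernel
theorem c6cc6_h : 0 < c6cc6.n ∧ 0 < c6cc6.K ∧ c6cc6.Pt 0 < 351 ∧ c6cc6.Q (c6cc6.Pt 0) = 0 := by decide +kernel
theorem c6tn1_0 : (Nat.ble c6tl6.K 15 && Nat.beq (ltAll 351 [c6tl5.Pt 0, c6tl4.Pt 0, c6tl3.Pt 0, c6tl2.Pt 0, c6tl1.Pt 0, c6tl0.Pt 0]) 0 && kChk c6ce_P c6x_P c6tn1.Kn 1 H16.O73.B [c6tl5.Pt 0, c6tl4.Pt 0, c6tl3.Pt 0, c6tl2.Pt 0, c6tl1.Pt 0, c6tl0.Pt 0] && allL (ltAll 1) c6tn1.pre && planOK c6th_P c6x_P 1 (c6tl6.Pt 0) c6tn1.plan [c6tl6, c6tl7]) = true := by decide +kernel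
theorem c6tn1_1_0 : allZ (c6tn1.ent H16.O73.P c6th_P c6x_P c6x_P c6ce_P (nat_lit 7) (nat_lit 1) H16.O73.B c6tl6 [c6tl7] (memO c6cc6)) (nat_lit 0) (nat_lit 3) = true := by decide +kernel
theorem c6c_f6 : (Nat.ble c6cc6.K 8 && Nat.ble (topK [c6cc7]) c6cc6.K && Nat.beq (c6cc6.Pt 0) (c6tl6.Pt 0) && Nat.beq (ltAll 351 [c6tl5.Pt 0, c6tl4.Pt 0, c6tl3.Pt 0, c6tl2.Pt 0, c6tl1.Pt 0, c6tl0.Pt 0]) 0 && kChk c6ce_P c6x_P c6cc6.K 1 H16.O73.B [c6tl5.Pt 0, c6tl4.Pt 0, c6tl3.Pt 0, c6tl2.Pt 0, c6tl1.Pt 0, c6tl0.Pt 0]) = true := by decide +kernel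
theorem c6cc5_e_0 : allZ (dent c6cc5 c6ce_P (nat_lit 351)) (nat_lit 0) (nat_lit 2) = true := by decide +kernel
theorem c6cc5_h : 0 < c6cc5.n ∧ 0 < c6cc5.K ∧ c6cc5.Pt 0 < 351 ∧ c6cc5.Q (c6cc5.Pt 0) = 0 := by decide +kernel
theorem c6tn2_0 : (Nat.ble c6tl5.K 15 && Nat.beq (ltAll 351 [c6tl4.Pt 0, c6tl3.Pt 0, c6tl2.Pt 0, c6tl1.Pt 0, c6tl0.Pt 0]) 0 && kChk c6ce_P c6x_P c6tn2.Kn 1 H16.O73.B [c6tl4.Pt 0, c6tl3.Pt 0, c6tl2.Pt 0, c6tl1.Pt 0, c6tl0.Pt 0] && allL (ltAll 1) c6tn2.pre && planOK c6th_P c6x_P 1 (c6tl5.Pt 0) c6tn2.plan [c6tl5, c6tl6, c6tl7]) = true := by decide +kernel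
theorem c6tn2_1_0 : allZ (c6tn2.ent H16.O73.P c6th_P c6x_P c6x_P c6ce_P (nat_lit 7) (nat_lit 1) H16.O73.B c6tl5 [c6tl6, c6tl7] (memO c6cc5)) (nat_lit 0) (nat_lit 9) = true := by decide +kernel
theorem c6c_f5 : (Nat.ble c6cc5.K 8 && Nat.ble (topK [c6cc6, c6cc7]) c6cc5.K && Nat.beq (c6cc5.Pt 0) (c6tl5.Pt 0) && Nat.beq (ltAll 351 [c6tl4.Pt 0, c6tl3.Pt 0, c6tl2.Pt 0, c6tl1.Pt 0, c6tl0.Pt 0]) 0 && kChk c6ce_P c6x_P c6cc5.K 1 H16.O73.B [c6tl4.Pt 0, c6tl3.Pt 0, c6tl2.Pt 0, c6tl1.Pt 0, c6tl0.Pt 0]) = true := by decide +kernel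
theorem c6cc4_e_0 : allZ (dent c6cc4 c6ce_P (nat_lit 351)) (nat_lit 0) (nat_lit 5) = true := by decide +kernel
theorem c6cc4_h : 0 < c6cc4.n ∧ 0 < c6cc4.K ∧ c6cc4.Pt 0 < 351 ∧ c6cc4.Q (c6cc4.Pt 0) = 0 := by decide +kernel
theorem c6tn3_0 : (Nat.ble c6tl4.K 15 && Nat.beq (ltAll 351 [c6tl3.Pt 0, c6tl2.Pt 0, c6tl1.Pt 0, c6tl0.Pt 0]) 0 && kChk c6ce_P c6x_P c6tn3.Kn 1 H16.O73.B [c6tl3.Pt 0, c6tl2.Pt 0, c6tl1.Pt 0, c6tl0.Pt 0] && allL (ltAll 1) c6tn3.pre && planOK c6th_P c6x_P 1 (c6tl4.Pt 0) c6tn3.plan [c6tl4, c6tl5, c6tl6, c6tl7]) = true := by decide +kernel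
theorem c6tn3_1_0 : allZ (c6tn3.ent H16.O73.P c6th_P c6x_P c6x_P c6ce_P (nat_lit 7) (nat_lit 1) H16.O73.B c6tl4 [c6tl5, c6tl6, c6tl7] (memO c6cc4)) (nat_lit 0) (nat_lit 12) = true := by decide +kernel
theorem c6c_f4 : (Nat.ble c6cc4.K 8 && Nat.ble (topK [c6cc5, c6cc6, c6cc7]) c6cc4.K && Nat.beq (c6cc4.Pt 0) (c6tl4.Pt 0) && Nat.beq (ltAll 351 [c6tl3.Pt 0, c6tl2.Pt 0, c6tl1.Pt 0, c6tl0.Pt 0]) 0 && kChk c6ce_P c6x_P c6cc4.K 1 H16.O73.B [c6tl3.Pt 0, c6tl2.Pt 0, c6tl1.Pt 0, c6tl0.Pt 0]) = true := by decide +kernel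
theorem c6c_f3 : (Nat.ble c6tl3.K 15 && Nat.blt (nat_lit 25) 351 && fixLetters c6th_P c6tl3.K (nat_lit 25) && Nat.beq (ltAll 1 [nat_lit 0]) 0 && Nat.beq (apW c6x_P [nat_lit 0] (nat_lit 25)) (c6tl3.Pt 0)) = true := by decide +kernel
theorem c6cc2_e_0 : allZ (dent c6cc2 c6ce_P (nat_lit 351)) (nat_lit 0) (nat_lit 26) = true := by decide +kernel
theorem c6cc2_h : 0 < c6cc2.n ∧ 0 < c6cc2.K ∧ c6cc2.Pt 0 < 351 ∧ c6cc2.Q (c6cc2.Pt 0) = 0 := by decide +kernel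
theorem c6tn4_0 : (Nat.ble c6tl2.K 15 && Nat.beq (ltAll 351 [c6tl1.Pt 0, c6tl0.Pt 0]) 0 && kChk c6ce_P c6x_P c6tn4.Kn 1 H16.O73.B [c6tl1.Pt 0, c6tl0.Pt 0] && allL (ltAll 1) c6tn4.pre && planOK c6th_P c6x_P 1 (c6tl2.Pt 0) c6tn4.plan [c6tl2, c6tl3, c6tl4, c6tl5, c6tl6, c6tl7]) = true := by decide +kernel
theorem c6tn4_1_0 : allZ (c6tn4.ent H16.O73.P c6th_P c6x_P c6x_P c6ce_P (nat_lit 7) (nat_lit 1) H16.O73.B c6tl2 [c6tl3, c6tl4, c6tl5, c6tl6, c6tl7] (memO c6cc2)) (nat_lit 0) (nat_lit 45) = true := by decide +kernel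
theorem c6c_f2 : (Nat.ble c6cc2.K 8 && Nat.ble (topK [c6cc4, c6cc5, c6cc6, c6cc7]) c6cc2.K && Nat.beq (c6cc2.Pt 0) (c6tl2.Pt 0) && Nat.beq (ltAll 351 [c6tl1.Pt 0, c6tl0.Pt 0]) 0 && kChk c6ce_P c6x_P c6cc2.K 1 H16.O73.B [c6tl1.Pt 0, c6tl0.Pt 0]) = true := by decide +kernel
theorem c6c_f1 : (Nat.ble c6tl1.K 15 && Nat.blt (nat_lit 0) 351 && fixLetters c6th_P c6tl1.K (nat_lit 0) && Nat.beq (ltAll 1 [nat_lit 0]) 0 && Nat.beq (apW c6x_P [nat_lit 0] (nat_lit 0)) (c6tl1.Pt 0)) = true := by decide +kernel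
theorem c6cc0_e_0 : allZ (dent c6cc0 c6ce_P (nat_lit 351)) (nat_lit 0) (nat_lit 59) = true := by decide +kernel
theorem c6cc0_h : 0 < c6cc0.n ∧ 0 < c6cc0.K ∧ c6cc0.Pt 0 < 351 ∧ c6cc0.Q (c6cc0.Pt 0) = 0 := by decide +kernel
theorem c6tn5y38_lt : allL (ltAll 7) c6tn5y38_W = true := by decide +kernel
theorem c6tr6k_lt : allL (ltAll 7) c6tr6k_W = true := by decide +kernel
theorem c6tn6_0 : (Nat.ble c6tl2.K 15 && Nat.beq (ltAll 351 [c6tl1.Pt 0, c6tl0.Pt 0]) 0 && kChk c6tr6k_P c6tn5y38_P c6tn6.Kn 1 H16.O73.B [c6tl1.Pt 0, c6tl0.Pt 0] && allL (ltAll 1) c6tn6.pre && planOK c6th_P c6x_P 1 (c6tl2.Pt 0) c6tn6.plan [c6tl2, c6tl3, c6tl4, c6tl5, c6tl6, c6tl7]) = true := by decide +kernel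
theorem c6tn6_1_0 : allZ (c6tn6.ent H16.O73.P c6th_P c6x_P c6tn5y38_P c6tr6k_P (nat_lit 7) (nat_lit 1) H16.O73.B c6tl2 [c6tl3, c6tl4, c6tl5, c6tl6, c6tl7] (fun _ => nat_lit 1)) (nat_lit 0) (nat_lit 45) = true := by decide +kernel
theorem c6tn5_0 : (Nat.ble c6tl0.K 15 && Nat.beq (ltAll 351 []) 0 && kChk c6ce_P c6x_P c6tn5.Kn 1 H16.O73.B [] && allL (ltAll 1) c6tn5.pre && planOK c6th_P c6x_P 1 (c6tl0.Pt 0) c6tn5.plan [c6tl0, c6tl1, c6tl2, c6tl3, c6tl4, c6tl5, c6tl6, c6tl7]) = true := by decide +kernel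
theorem c6tn5_1_0 : allZ (c6tn5.ent H16.O73.P c6th_P c6x_P c6x_P c6ce_P (nat_lit 7) (nat_lit 1) H16.O73.B c6tl0 [c6tl1, c6tl2, c6tl3, c6tl4, c6tl5, c6tl6, c6tl7] (memO c6cc0)) (nat_lit 0) (nat_lit 351) = true := by decide +kernel
theorem c6c_f0 : (Nat.ble c6cc0.K 8 && Nat.ble (topK [c6cc2, c6cc4, c6cc5, c6cc6, c6cc7]) c6cc0.K && Nat.beq (c6cc0.Pt 0) (c6tl0.Pt 0) && Nat.beq (ltAll 351 []) 0 && kChk c6ce_P c6x_P c6cc0.K 1 H16.O73.B []) = true := by decide +kernel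
theorem c6c_c : chainCard [c6cc0, c6cc2, c6cc4, c6cc5, c6cc6, c6cc7] = 174960 ∧ topK [c6cc0, c6cc2, c6cc4, c6cc5, c6cc6, c6cc7] = 8 := by decide +kernel
theorem y_lt : allL (ltAll 7) y_W = true := by decide +kernel
theorem c2tr4k_lt : allL (ltAll 7) c2tr4k_W = true := by decide +kernel
theorem c2tn4y0_lt : allL (ltAll 7) c2tn4y0_W = true := by decide +kernel
theorem c2tr5k_lt : allL (ltAll 7) c2tr5k_W = true := by decide +kernel
theorem c2tn5y51_lt : allL (ltAll 7) c2tn5y51_W = true := by decide +kernel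
theorem c2tr6k_lt : allL (ltAll 7) c2tr6k_W = true := by decide +kernel
theorem c2tn6y136_lt : allL (ltAll 7) c2tn6y136_W = true := by decide +kernel
theorem c2tr7k_lt : allL (ltAll 7) c2tr7k_W = true := by decide +kernel
theorem c2tn7_0 : (Nat.ble c2tl8.K 18 && Nat.beq (ltAll 351 [c2tl7.Pt 0, c2tl6.Pt 0, c2tl5.Pt 0, c2tl4.Pt 0, c2tl3.Pt 0, c2tl2.Pt 0, c2tl1.Pt 0, c2tl0.Pt 0]) 0 && kChk c2tr7k_P c2tn6y136_P c2tn7.Kn 1 H16.O73.B [c2tl7.Pt 0, c2tl6.Pt 0, c2tl5.Pt 0, c2tl4.Pt 0, c2tl3.Pt 0, c2tl2.Pt 0, c2tl1.Pt 0, c2tl0.Pt 0] && allL (ltAll 1) c2tn7.pre && planOK c2th_P c2x_P 1 (c2tl8.Pt 0) c2tn7.plan [c2tl8]) = true := by decide +kernel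
theorem c2tn7_1_0 : allZ (c2tn7.ent H16.O73.P c2th_P c2x_P c2tn6y136_P c2tr7k_P (nat_lit 7) (nat_lit 1) H16.O73.B c2tl8 [] (fun _ => nat_lit 1)) (nat_lit 0) (nat_lit 3) = true := by decide +kernel
theorem c2tn6_0 : (Nat.ble c2tl5.K 18 && Nat.beq (ltAll 351 [c2tl4.Pt 0, c2tl3.Pt 0, c2tl2.Pt 0, c2tl1.Pt 0, c2tl0.Pt 0]) 0 && kChk c2tr6k_P c2tn5y51_P c2tn6.Kn 1 H16.O73.B [c2tl4.Pt 0, c2tl3.Pt 0, c2tl2.Pt 0, c2tl1.Pt 0, c2tl0.Pt 0] && allL (ltAll 1) c2tn6.pre && planOK c2th_P c2x_P 1 (c2tl5.Pt 0) c2tn6.plan [c2tl5, c2tl6, c2tl7, c2tl8]) = true := by decide +kernel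
theorem c2tn6_1_0 : allZ (c2tn6.ent H16.O73.P c2th_P c2x_P c2tn5y51_P c2tr6k_P (nat_lit 7) (nat_lit 1) H16.O73.B c2tl5 [c2tl6, c2tl7, c2tl8] (fun _ => nat_lit 1)) (nat_lit 0) (nat_lit 2) = true := by decide +kernel
theorem c2tn5_0 : (Nat.ble c2tl2.K 18 && Nat.beq (ltAll 351 [c2tl1.Pt 0, c2tl0.Pt 0]) 0 && kChk c2tr5k_P c2tn4y0_P c2tn5.Kn 1 H16.O73.B [c2tl1.Pt 0, c2tl0.Pt 0] && allL (ltAll 1) c2tn5.pre && planOK c2th_P c2x_P 1 (c2tl2.Pt 0) c2tn5.plan [c2tl2, c2tl3, c2tl4, c2tl5, c2tl6, c2tl7, c2tl8]) = true := by decide +kernel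
theorem c2tn5_1_0 : allZ (c2tn5.ent H16.O73.P c2th_P c2x_P c2tn4y0_P c2tr5k_P (nat_lit 7) (nat_lit 1) H16.O73.B c2tl2 [c2tl3, c2tl4, c2tl5, c2tl6, c2tl7, c2tl8] (fun _ => nat_lit 1)) (nat_lit 0) (nat_lit 45) = true := by decide +kernel
theorem c2tn4_0 : (Nat.ble c2tl0.K 18 && Nat.beq (ltAll 351 []) 0 && kChk c2tr4k_P y_P c2tn4.Kn 1 H16.O73.B [] && allL (ltAll 1) c2tn4.pre && planOK c2th_P c2x_P 1 (c2tl0.Pt 0) c2tn4.plan [c2tl0, c2tl1, c2tl2, c2tl3, c2tl4, c2tl5, c2tl6, c2tl7, c2tl8]) = true := by decide +kernel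
theorem c2tn4_1_0 : allZ (c2tn4.ent H16.O73.P c2th_P c2x_P y_P c2tr4k_P (nat_lit 7) (nat_lit 1) H16.O73.B c2tl0 [c2tl1, c2tl2, c2tl3, c2tl4, c2tl5, c2tl6, c2tl7, c2tl8] (fun _ => nat_lit 1)) (nat_lit 0) (nat_lit 351) = true := by decide +kernel
theorem z_lt : allL (ltAll 7) z_W = true := by decide +kernel
theorem c2tr8k_lt : allL (ltAll 7) c2tr8k_W = true := by decide +kernel
theorem c2tn8y0_lt : allL (ltAll 7) c2tn8y0_W = true := by decide +kernel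
theorem c2tr9k_lt : allL (ltAll 7) c2tr9k_W = true := by decide +kernel
theorem c2tn9y111_lt : allL (ltAll 7) c2tn9y111_W = true := by decide +kernel
theorem c2tr10k_lt : allL (ltAll 7) c2tr10k_W = true := by decide +kernel
theorem c2tn10y136_lt : allL (ltAll 7) c2tn10y136_W = true := by decide +kernel
theorem c2tr11k_lt : allL (ltAll 7) c2tr11k_W = true := by decide +kernel
theorem c2tn11_0 : (Nat.ble c2tl8.K 18 && Nat.beq (ltAll 351 [c2tl7.Pt 0, c2tl6.Pt 0, c2tl5.Pt 0, c2tl4.Pt 0, c2tl3.Pt 0, c2tl2.Pt 0, c2tl1.Pt 0, c2tl0.Pt 0]) 0 && kChk c2tr11k_P c2tn10y136_P c2tn11.Kn 1 H16.O73.B [c2tl7.Pt 0, c2tl6.Pt 0, c2tl5.Pt 0, c2tl4.Pt 0, c2tl3.Pt 0, c2tl2.Pt 0, c2tl1.Pt 0, c2tl0.Pt 0] && allL (ltAll 1) c2tn11.pre && planOK c2th_P c2x_P 1 (c2tl8.Pt 0) c2tn11.plan [c2tl8]) = true := by decide +kernel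
theorem c2tn11_1_0 : allZ (c2tn11.ent H16.O73.P c2th_P c2x_P c2tn10y136_P c2tr11k_P (nat_lit 7) (nat_lit 1) H16.O73.B c2tl8 [] (fun _ => nat_lit 1)) (nat_lit 0) (nat_lit 3) = true := by decide +kernel
theorem c2tn10_0 : (Nat.ble c2tl5.K 18 && Nat.beq (ltAll 351 [c2tl4.Pt 0, c2tl3.Pt 0, c2tl2.Pt 0, c2tl1.Pt 0, c2tl0.Pt 0]) 0 && kChk c2tr10k_P c2tn9y111_P c2tn10.Kn 1 H16.O73.B [c2tl4.Pt 0, c2tl3.Pt 0, c2tl2.Pt 0, c2tl1.Pt 0, c2tl0.Pt 0] && allL (ltAll 1) c2tn10.pre && planOK c2th_P c2x_P 1 (c2tl5.Pt 0) c2tn10.plan [c2tl5, c2tl6, c2tl7, c2tl8]) = true := by decide +kernel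
theorem c2tn10_1_0 : allZ (c2tn10.ent H16.O73.P c2th_P c2x_P c2tn9y111_P c2tr10k_P (nat_lit 7) (nat_lit 1) H16.O73.B c2tl5 [c2tl6, c2tl7, c2tl8] (fun _ => nat_lit 1)) (nat_lit 0) (nat_lit 2) = true := by decide +kernel
theorem c2tn9_0 : (Nat.ble c2tl2.K 18 && Nat.beq (ltAll 351 [c2tl1.Pt 0, c2tl0.Pt 0]) 0 && kChk c2tr9k_P c2tn8y0_P c2tn9.Kn 1 H16.O73.B [c2tl1.Pt 0, c2tl0.Pt 0] && allL (ltAll 1) c2tn9.pre && planOK c2th_P c2x_P 1 (c2tl2.Pt 0) c2tn9.plan [c2tl2, c2tl3, c2tl4, c2tl5, c2tl6, c2tl7, c2tl8]) = true := by decide +kernel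
theorem c2tn9_1_0 : allZ (c2tn9.ent H16.O73.P c2th_P c2x_P c2tn8y0_P c2tr9k_P (nat_lit 7) (nat_lit 1) H16.O73.B c2tl2 [c2tl3, c2tl4, c2tl5, c2tl6, c2tl7, c2tl8] (fun _ => nat_lit 1)) (nat_lit 0) (nat_lit 45) = true := by decide +kernel
theorem c2tn8_0 : (Nat.ble c2tl0.K 18 && Nat.beq (ltAll 351 []) 0 && kChk c2tr8k_P z_P c2tn8.Kn 1 H16.O73.B [] && allL (ltAll 1) c2tn8.pre && planOK c2th_P c2x_P 1 (c2tl0.Pt 0) c2tn8.plan [c2tl0, c2tl1, c2tl2, c2tl3, c2tl4, c2tl5, c2tl6, c2tl7, c2tl8]) = true := by decide +kernel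
theorem c2tn8_1_0 : allZ (c2tn8.ent H16.O73.P c2th_P c2x_P z_P c2tr8k_P (nat_lit 7) (nat_lit 1) H16.O73.B c2tl0 [c2tl1, c2tl2, c2tl3, c2tl4, c2tl5, c2tl6, c2tl7, c2tl8] (fun _ => nat_lit 1)) (nat_lit 0) (nat_lit 351) = true := by decide +kernel

theorem md {G : Type*} [Group G] (e : gen H16.O73.g 7 ≃* G) :
    ∃ (_ : MulAction G (Fin 351)) (g : ℕ → G), Md g (ptF 351) H16.O73.P 351 7 H16.O73.B 4585351680 ∧
      ∀ k < 7, (e.symm (g k)).1 = H16.O73.g k :=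
  exists_md H16.O73.act (ptF_inj 351) H16.O73.card H16.O73.isBase md_b e
theorem st_act {G Ω : Type*} [Group G] [MulAction G Ω] {g : ℕ → G} {pt : ℕ → Ω}
    (M : Md g pt H16.O73.P 351 7 H16.O73.B 4585351680) : Act (wds g st_W) pt st_P 351 9 :=
  M.wact st_lt
theorem s_r : ∀ k < 9, ∀ i < 324, (resEnt st_P sP sE sI (nat_lit 351) (nat_lit 324)) k i = 0 := allZ2_sound s_r_a
theorem s_sm {G Ω : Type*} [Group G] [MulAction G Ω] {g : ℕ → G} {pt : ℕ → Ω}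
    (M : Md g pt H16.O73.P 351 7 H16.O73.B 4585351680) : Sm (wds g st_W) (fun i => pt (sE i)) sP 324 9 sB ∧ ∀ i < 324, sE i < 351 :=
  M.res (st_act M) (by decide) s_r s_b
theorem sl0_e : ∀ i < 80, (dent sl0 (wdsP sP se) (nat_lit 324)) i = 0 := allZ_sound0 sl0_e_0
theorem sl0_ok : DOK sl0 (wdsP sP se) 324 := ⟨sl0_h, sl0_e⟩
theorem sl1_e : ∀ i < 8, (dent sl1 (wdsP sP se) (nat_lit 324)) i = 0 := allZ_sound0 sl1_e_0
theorem sl1_ok : DOK sl1 (wdsP sP se) 324 := ⟨sl1_h, sl1_e⟩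
theorem sl2_e : ∀ i < 2, (dent sl2 (wdsP sP se) (nat_lit 324)) i = 0 := allZ_sound0 sl2_e_0
theorem sl2_ok : DOK sl2 (wdsP sP se) 324 := ⟨sl2_h, sl2_e⟩
theorem sl3_e : ∀ i < 2, (dent sl3 (wdsP sP se) (nat_lit 324)) i = 0 := allZ_sound0 sl3_e_0
theorem sl3_ok : DOK sl3 (wdsP sP se) 324 := ⟨sl3_h, sl3_e⟩
theorem sl4_e : ∀ i < 2, (dent sl4 (wdsP sP se) (nat_lit 324)) i = 0 := allZ_sound0 sl4_e_0
theorem sl4_ok : DOK sl4 (wdsP sP se) 324 := ⟨sl4_h, sl4_e⟩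
theorem s_low {G Ω : Type*} [Group G] [MulAction G Ω] {g : ℕ → G} {pt : ℕ → Ω}
    (M : Md g pt H16.O73.P 351 7 H16.O73.B 4585351680) : SLow (gi (wds (wds g st_W) se)) (fun i => pt (sE i)) 324 [sl0, sl1, sl2, sl3, sl4] :=
  (((((SLow.nil).cons sl4_ok ((s_sm M).1.act.wds s_e 13) s_f4).cons sl3_ok ((s_sm M).1.act.wds s_e 13) s_f3).cons sl2_ok ((s_sm M).1.act.wds s_e 13) s_f2).cons sl1_ok ((s_sm M).1.act.wds s_e 13) s_f1).cons sl0_ok ((s_sm M).1.act.wds s_e 13) s_f0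
theorem s_pc {G Ω : Type*} [Group G] [MulAction G Ω] {g : ℕ → G} {pt : ℕ → Ω}
    (M : Md g pt H16.O73.P 351 7 H16.O73.B 4585351680) : PC (wds g st_W) 9 3 :=
  have := M.fin
  ((s_sm M).1.pc0 (by decide) s_p).pc (s_low M) (s_sm M).1.inj
    (fun k => evA_mem_gen _ (nth_lt s_e k)) M.card ⟨by decide, s_c⟩
theorem covr_act {G Ω : Type*} [Group G] [MulAction G Ω] {g : ℕ → G} {pt : ℕ → Ω}
    (M : Md g pt H16.O73.P 351 7 H16.O73.B 4585351680) : Act (wds g covr_W) pt covr_P 351 7 :=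
  M.wact covr_lt
theorem cov_0 {G Ω : Type*} [Group G] [MulAction G Ω] {g : ℕ → G} {pt : ℕ → Ω}
    (M : Md g pt H16.O73.P 351 7 H16.O73.B 4585351680) : Cov (wds g st_W) (wds g covr_W) 3 7 8 (evA (wds g st_W) []) :=
  have := M.fin
  covT0.cov M (s_sm M).1 (s_sm M).2 (covr_act M) (s_pc M) _ _ cov_c0
theorem cov_1 {G Ω : Type*} [Group G] [MulAction G Ω] {g : ℕ → G} {pt : ℕ → Ω}
    (M : Md g pt H16.O73.P 351 7 H16.O73.B 4585351680) : Cov (wds g st_W) (wds g covr_W) 3 7 8 (evA (wds g st_W) [nat_lit 8]) :=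
  have := M.fin
  covT1.cov M (s_sm M).1 (s_sm M).2 (covr_act M) (s_pc M) _ _ cov_c1
theorem cov_2 {G Ω : Type*} [Group G] [MulAction G Ω] {g : ℕ → G} {pt : ℕ → Ω}
    (M : Md g pt H16.O73.P 351 7 H16.O73.B 4585351680) : Cov (wds g st_W) (wds g covr_W) 3 7 8 (evA (wds g st_W) [nat_lit 8, nat_lit 8]) :=
  have := M.fin
  covT2.cov M (s_sm M).1 (s_sm M).2 (covr_act M) (s_pc M) _ _ cov_c2
theorem cov {G Ω : Type*} [Group G] [MulAction G Ω] {g : ℕ → G} {pt : ℕ → Ω}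
    (M : Md g pt H16.O73.P 351 7 H16.O73.B 4585351680) {y : G} {e : ℕ} (hy : y ^ 3 ^ e = 1) (hq : y ^ 3 = 1) : Good (wds g covr_W) 7 y :=
  have := M.fin
  Cov.all (s_pc M) (Cov.split (s_pc M) (by decide) (fun j hj => match j, hj with | 0, _ => cov_0 M | 1, _ => cov_1 M | 2, _ => cov_2 M)) hy hq
theorem p0 {G Ω : Type*} [Group G] [MulAction G Ω] {g : ℕ → G} {pt : ℕ → Ω}
    (M : Md g pt H16.O73.P 351 7 H16.O73.B 4585351680) : (wds g covr_W) 0 ^ 3 = 1 :=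
  M.pw (covr_act M) p0_k
theorem n0 {G Ω : Type*} [Group G] [MulAction G Ω] {g : ℕ → G} {pt : ℕ → Ω}
    (M : Md g pt H16.O73.P 351 7 H16.O73.B 4585351680) : (wds g covr_W) 0 ^ 1 ≠ 1 :=
  M.npw (covr_act M) _ n0_k
theorem c0x_act {G Ω : Type*} [Group G] [MulAction G Ω] {g : ℕ → G} {pt : ℕ → Ω}
    (M : Md g pt H16.O73.P 351 7 H16.O73.B 4585351680) : Act (wds g c0x_W) pt c0x_P 351 1 :=
  M.wact c0x_lt
theorem c0th_act {G Ω : Type*} [Group G] [MulAction G Ω] {g : ℕ → G} {pt : ℕ → Ω}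
    (M : Md g pt H16.O73.P 351 7 H16.O73.B 4585351680) : Act (wds g c0th_W) pt c0th_P 351 15 :=
  M.wact c0th_lt
theorem c0tl0_e : ∀ i < 350, (dent c0tl0 c0th_P (nat_lit 351)) i = 0 := allZ_sound0 c0tl0_e_0
theorem c0tl0_ok : DOK c0tl0 c0th_P 351 := ⟨c0tl0_h, c0tl0_e⟩
theorem c0tl1_e : ∀ i < 223, (dent c0tl1 c0th_P (nat_lit 351)) i = 0 := allZ_sound0 c0tl1_e_0
theorem c0tl1_ok : DOK c0tl1 c0th_P 351 := ⟨c0tl1_h, c0tl1_e⟩
theorem c0tl2_e : ∀ i < 44, (dent c0tl2 c0th_P (nat_lit 351)) i = 0 := allZ_sound0 c0tl2_e_0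
theorem c0tl2_ok : DOK c0tl2 c0th_P 351 := ⟨c0tl2_h, c0tl2_e⟩
theorem c0tl3_e : ∀ i < 1, (dent c0tl3 c0th_P (nat_lit 351)) i = 0 := allZ_sound0 c0tl3_e_0
theorem c0tl3_ok : DOK c0tl3 c0th_P 351 := ⟨c0tl3_h, c0tl3_e⟩
theorem c0tl4_e : ∀ i < 11, (dent c0tl4 c0th_P (nat_lit 351)) i = 0 := allZ_sound0 c0tl4_e_0
theorem c0tl4_ok : DOK c0tl4 c0th_P 351 := ⟨c0tl4_h, c0tl4_e⟩
theorem c0tl5_e : ∀ i < 8, (dent c0tl5 c0th_P (nat_lit 351)) i = 0 := allZ_sound0 c0tl5_e_0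
theorem c0tl5_ok : DOK c0tl5 c0th_P 351 := ⟨c0tl5_h, c0tl5_e⟩
theorem c0tl6_e : ∀ i < 2, (dent c0tl6 c0th_P (nat_lit 351)) i = 0 := allZ_sound0 c0tl6_e_0
theorem c0tl6_ok : DOK c0tl6 c0th_P 351 := ⟨c0tl6_h, c0tl6_e⟩
theorem c0tl7_e : ∀ i < 1, (dent c0tl7 c0th_P (nat_lit 351)) i = 0 := allZ_sound0 c0tl7_e_0
theorem c0tl7_ok : DOK c0tl7 c0th_P 351 := ⟨c0tl7_h, c0tl7_e⟩
theorem c0t_low {G Ω : Type*} [Group G] [MulAction G Ω] {g : ℕ → G} {pt : ℕ → Ω}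
    (M : Md g pt H16.O73.P 351 7 H16.O73.B 4585351680) : SLow (gi (wds g c0th_W)) pt 351 [c0tl0, c0tl1, c0tl2, c0tl3, c0tl4, c0tl5, c0tl6, c0tl7] :=
  ((((((((SLow.nil).cons c0tl7_ok (c0th_act M) c0t_f7).cons c0tl6_ok (c0th_act M) c0t_f6).cons c0tl5_ok (c0th_act M) c0t_f5).cons c0tl4_ok (c0th_act M) c0t_f4).cons c0tl3_ok (c0th_act M) c0t_f3).cons c0tl2_ok (c0th_act M) c0t_f2).cons c0tl1_ok (c0th_act M) c0t_f1).cons c0tl0_ok (c0th_act M) c0t_f0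
theorem c0t_S0 {G Ω : Type*} [Group G] [MulAction G Ω] {g : ℕ → G} {pt : ℕ → Ω}
    (M : Md g pt H16.O73.P 351 7 H16.O73.B 4585351680) : Stage ⊤ (wds g c0th_W) pt 351 [c0tl0, c0tl1, c0tl2, c0tl3, c0tl4, c0tl5, c0tl6, c0tl7] [] :=
  M.stage (c0t_low M) c0t_c
theorem c0t_S1 {G Ω : Type*} [Group G] [MulAction G Ω] {g : ℕ → G} {pt : ℕ → Ω}
    (M : Md g pt H16.O73.P 351 7 H16.O73.B 4585351680) : Stage ⊤ (wds g c0th_W) pt 351 [c0tl1, c0tl2, c0tl3, c0tl4, c0tl5, c0tl6, c0tl7] [c0tl0.Pt 0] :=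
  (c0t_S0 M).next
theorem c0t_S2 {G Ω : Type*} [Group G] [MulAction G Ω] {g : ℕ → G} {pt : ℕ → Ω}
    (M : Md g pt H16.O73.P 351 7 H16.O73.B 4585351680) : Stage ⊤ (wds g c0th_W) pt 351 [c0tl2, c0tl3, c0tl4, c0tl5, c0tl6, c0tl7] [c0tl1.Pt 0, c0tl0.Pt 0] :=
  (c0t_S1 M).next
theorem c0t_S3 {G Ω : Type*} [Group G] [MulAction G Ω] {g : ℕ → G} {pt : ℕ → Ω}
    (M : Md g pt H16.O73.P 351 7 H16.O73.B 4585351680) : Stage ⊤ (wds g c0th_W) pt 351 [c0tl3, c0tl4, c0tl5, c0tl6, c0tl7] [c0tl2.Pt 0, c0tl1.Pt 0, c0tl0.Pt 0] :=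
  (c0t_S2 M).next
theorem c0t_S4 {G Ω : Type*} [Group G] [MulAction G Ω] {g : ℕ → G} {pt : ℕ → Ω}
    (M : Md g pt H16.O73.P 351 7 H16.O73.B 4585351680) : Stage ⊤ (wds g c0th_W) pt 351 [c0tl4, c0tl5, c0tl6, c0tl7] [c0tl3.Pt 0, c0tl2.Pt 0, c0tl1.Pt 0, c0tl0.Pt 0] :=
  (c0t_S3 M).next
theorem c0t_S5 {G Ω : Type*} [Group G] [MulAction G Ω] {g : ℕ → G} {pt : ℕ → Ω}
    (M : Md g pt H16.O73.P 351 7 H16.O73.B 4585351680) : Stage ⊤ (wds g c0th_W) pt 351 [c0tl5, c0tl6, c0tl7] [c0tl4.Pt 0, c0tl3.Pt 0, c0tl2.Pt 0, c0tl1.Pt 0, c0tl0.Pt 0] :=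
  (c0t_S4 M).next
theorem c0t_S6 {G Ω : Type*} [Group G] [MulAction G Ω] {g : ℕ → G} {pt : ℕ → Ω}
    (M : Md g pt H16.O73.P 351 7 H16.O73.B 4585351680) : Stage ⊤ (wds g c0th_W) pt 351 [c0tl6, c0tl7] [c0tl5.Pt 0, c0tl4.Pt 0, c0tl3.Pt 0, c0tl2.Pt 0, c0tl1.Pt 0, c0tl0.Pt 0] :=
  (c0t_S5 M).next
theorem c0t_S7 {G Ω : Type*} [Group G] [MulAction G Ω] {g : ℕ → G} {pt : ℕ → Ω}
    (M : Md g pt H16.O73.P 351 7 H16.O73.B 4585351680) : Stage ⊤ (wds g c0th_W) pt 351 [c0tl7] [c0tl6.Pt 0, c0tl5.Pt 0, c0tl4.Pt 0, c0tl3.Pt 0, c0tl2.Pt 0, c0tl1.Pt 0, c0tl0.Pt 0] :=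
  (c0t_S6 M).next
theorem c0t_S8 {G Ω : Type*} [Group G] [MulAction G Ω] {g : ℕ → G} {pt : ℕ → Ω}
    (M : Md g pt H16.O73.P 351 7 H16.O73.B 4585351680) : Stage ⊤ (wds g c0th_W) pt 351 [] [c0tl7.Pt 0, c0tl6.Pt 0, c0tl5.Pt 0, c0tl4.Pt 0, c0tl3.Pt 0, c0tl2.Pt 0, c0tl1.Pt 0, c0tl0.Pt 0] :=
  (c0t_S7 M).next
theorem c0ce_act {G Ω : Type*} [Group G] [MulAction G Ω] {g : ℕ → G} {pt : ℕ → Ω}
    (M : Md g pt H16.O73.P 351 7 H16.O73.B 4585351680) : Act (wds g c0ce_W) pt c0ce_P 351 7 :=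
  M.wact c0ce_lt
theorem c0cc7_e : ∀ i < 1, (dent c0cc7 c0ce_P (nat_lit 351)) i = 0 := allZ_sound0 c0cc7_e_0
theorem c0cc7_ok : DOK c0cc7 c0ce_P 351 := ⟨c0cc7_h, c0cc7_e⟩
theorem c0tn0_1 : ∀ i < 2, (c0tn0.ent H16.O73.P c0th_P c0x_P c0x_P c0ce_P (nat_lit 7) (nat_lit 1) H16.O73.B c0tl7 [] (memO c0cc7)) i = 0 := allZ_sound0 c0tn0_1_0
theorem c0tn0_t {G Ω : Type*} [Group G] [MulAction G Ω] {g : ℕ → G} {pt : ℕ → Ω}
    (M : Md g pt H16.O73.P 351 7 H16.O73.B 4585351680) : TrO (gen (wds g c0th_W) c0tl7.K) (wds g c0x_W) (wds g c0x_W) 1 pt 351 (c0tl7.Pt 0) (memO c0cc7) :=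
  node M (c0t_S7 M) (c0th_act M) (c0x_act M) (c0x_act M) c0tn0 ((c0ce_act M).mono (by decide)) (fun _ _ => trivial) c0tn0_0 c0tn0_1 (List.forall_mem_nil _)
theorem c0cc6_e : ∀ i < 2, (dent c0cc6 c0ce_P (nat_lit 351)) i = 0 := allZ_sound0 c0cc6_e_0
theorem c0cc6_ok : DOK c0cc6 c0ce_P 351 := ⟨c0cc6_h, c0cc6_e⟩
theorem c0tn1_1 : ∀ i < 3, (c0tn1.ent H16.O73.P c0th_P c0x_P c0x_P c0ce_P (nat_lit 7) (nat_lit 1) H16.O73.B c0tl6 [c0tl7] (memO c0cc6)) i = 0 := allZ_sound0 c0tn1_1_0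
theorem c0tn1_t {G Ω : Type*} [Group G] [MulAction G Ω] {g : ℕ → G} {pt : ℕ → Ω}
    (M : Md g pt H16.O73.P 351 7 H16.O73.B 4585351680) : TrO (gen (wds g c0th_W) c0tl6.K) (wds g c0x_W) (wds g c0x_W) 1 pt 351 (c0tl6.Pt 0) (memO c0cc6) :=
  node M (c0t_S6 M) (c0th_act M) (c0x_act M) (c0x_act M) c0tn1 ((c0ce_act M).mono (by decide)) (fun _ _ => trivial) c0tn1_0 c0tn1_1 (List.forall_mem_nil _)
theorem c0cc5_e : ∀ i < 2, (dent c0cc5 c0ce_P (nat_lit 351)) i = 0 := allZ_sound0 c0cc5_e_0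
theorem c0cc5_ok : DOK c0cc5 c0ce_P 351 := ⟨c0cc5_h, c0cc5_e⟩
theorem c0tn2_1 : ∀ i < 9, (c0tn2.ent H16.O73.P c0th_P c0x_P c0x_P c0ce_P (nat_lit 7) (nat_lit 1) H16.O73.B c0tl5 [c0tl6, c0tl7] (memO c0cc5)) i = 0 := allZ_sound0 c0tn2_1_0
theorem c0tn2_t {G Ω : Type*} [Group G] [MulAction G Ω] {g : ℕ → G} {pt : ℕ → Ω}
    (M : Md g pt H16.O73.P 351 7 H16.O73.B 4585351680) : TrO (gen (wds g c0th_W) c0tl5.K) (wds g c0x_W) (wds g c0x_W) 1 pt 351 (c0tl5.Pt 0) (memO c0cc5) :=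
  node M (c0t_S5 M) (c0th_act M) (c0x_act M) (c0x_act M) c0tn2 ((c0ce_act M).mono (by decide)) (fun _ _ => trivial) c0tn2_0 c0tn2_1 (List.forall_mem_nil _)
theorem c0cc4_e : ∀ i < 5, (dent c0cc4 c0ce_P (nat_lit 351)) i = 0 := allZ_sound0 c0cc4_e_0
theorem c0cc4_ok : DOK c0cc4 c0ce_P 351 := ⟨c0cc4_h, c0cc4_e⟩
theorem c0tn3_1 : ∀ i < 12, (c0tn3.ent H16.O73.P c0th_P c0x_P c0x_P c0ce_P (nat_lit 7) (nat_lit 1) H16.O73.B c0tl4 [c0tl5, c0tl6, c0tl7] (memO c0cc4)) i = 0 := allZ_sound0 c0tn3_1_0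
theorem c0tn3_t {G Ω : Type*} [Group G] [MulAction G Ω] {g : ℕ → G} {pt : ℕ → Ω}
    (M : Md g pt H16.O73.P 351 7 H16.O73.B 4585351680) : TrO (gen (wds g c0th_W) c0tl4.K) (wds g c0x_W) (wds g c0x_W) 1 pt 351 (c0tl4.Pt 0) (memO c0cc4) :=
  node M (c0t_S4 M) (c0th_act M) (c0x_act M) (c0x_act M) c0tn3 ((c0ce_act M).mono (by decide)) (fun _ _ => trivial) c0tn3_0 c0tn3_1 (List.forall_mem_nil _)
theorem c0cc2_e : ∀ i < 26, (dent c0cc2 c0ce_P (nat_lit 351)) i = 0 := allZ_sound0 c0cc2_e_0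
theorem c0cc2_ok : DOK c0cc2 c0ce_P 351 := ⟨c0cc2_h, c0cc2_e⟩
theorem c0tn4_1 : ∀ i < 45, (c0tn4.ent H16.O73.P c0th_P c0x_P c0x_P c0ce_P (nat_lit 7) (nat_lit 1) H16.O73.B c0tl2 [c0tl3, c0tl4, c0tl5, c0tl6, c0tl7] (memO c0cc2)) i = 0 := allZ_sound0 c0tn4_1_0
theorem c0tn4_t {G Ω : Type*} [Group G] [MulAction G Ω] {g : ℕ → G} {pt : ℕ → Ω}
    (M : Md g pt H16.O73.P 351 7 H16.O73.B 4585351680) : TrO (gen (wds g c0th_W) c0tl2.K) (wds g c0x_W) (wds g c0x_W) 1 pt 351 (c0tl2.Pt 0) (memO c0cc2) :=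
  node M (c0t_S2 M) (c0th_act M) (c0x_act M) (c0x_act M) c0tn4 ((c0ce_act M).mono (by decide)) (fun _ _ => trivial) c0tn4_0 c0tn4_1 (List.forall_mem_nil _)
theorem c0cc1_e : ∀ i < 7, (dent c0cc1 c0ce_P (nat_lit 351)) i = 0 := allZ_sound0 c0cc1_e_0
theorem c0cc1_ok : DOK c0cc1 c0ce_P 351 := ⟨c0cc1_h, c0cc1_e⟩
theorem c0tn5_1 : ∀ i < 224, (c0tn5.ent H16.O73.P c0th_P c0x_P c0x_P c0ce_P (nat_lit 7) (nat_lit 1) H16.O73.B c0tl1 [c0tl2, c0tl3, c0tl4, c0tl5, c0tl6, c0tl7] (memO c0cc1)) i = 0 := allZ_sound0 c0tn5_1_0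
theorem c0tn5_t {G Ω : Type*} [Group G] [MulAction G Ω] {g : ℕ → G} {pt : ℕ → Ω}
    (M : Md g pt H16.O73.P 351 7 H16.O73.B 4585351680) : TrO (gen (wds g c0th_W) c0tl1.K) (wds g c0x_W) (wds g c0x_W) 1 pt 351 (c0tl1.Pt 0) (memO c0cc1) :=
  node M (c0t_S1 M) (c0th_act M) (c0x_act M) (c0x_act M) c0tn5 ((c0ce_act M).mono (by decide)) (fun _ _ => trivial) c0tn5_0 c0tn5_1 (List.forall_mem_nil _)
theorem c0cc0_e : ∀ i < 26, (dent c0cc0 c0ce_P (nat_lit 351)) i = 0 := allZ_sound0 c0cc0_e_0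
theorem c0cc0_ok : DOK c0cc0 c0ce_P 351 := ⟨c0cc0_h, c0cc0_e⟩
theorem c0tn6_1 : ∀ i < 351, (c0tn6.ent H16.O73.P c0th_P c0x_P c0x_P c0ce_P (nat_lit 7) (nat_lit 1) H16.O73.B c0tl0 [c0tl1, c0tl2, c0tl3, c0tl4, c0tl5, c0tl6, c0tl7] (memO c0cc0)) i = 0 := allZ_sound0 c0tn6_1_0
theorem c0tn6_t {G Ω : Type*} [Group G] [MulAction G Ω] {g : ℕ → G} {pt : ℕ → Ω}
    (M : Md g pt H16.O73.P 351 7 H16.O73.B 4585351680) : TrO (gen (wds g c0th_W) c0tl0.K) (wds g c0x_W) (wds g c0x_W) 1 pt 351 (c0tl0.Pt 0) (memO c0cc0) :=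
  node M (c0t_S0 M) (c0th_act M) (c0x_act M) (c0x_act M) c0tn6 ((c0ce_act M).mono (by decide)) (fun _ _ => trivial) c0tn6_0 c0tn6_1 (List.forall_mem_nil _)
theorem c0c {G Ω : Type*} [Group G] [MulAction G Ω] {g : ℕ → G} {pt : ℕ → Ω}
    (M : Md g pt H16.O73.P 351 7 H16.O73.B 4585351680) : Cen ⊤ (wds g c0x_W) 1 (wds g c0ce_W) pt 351 [c0cc0, c0cc1, c0cc2, c0cc4, c0cc5, c0cc6, c0cc7] :=
  (c0t_S0 M).top ▸ Cen.lev M (c0t_S0 M) (Cen.lev M (c0t_S1 M) (Cen.lev M (c0t_S2 M) (Cen.triv (c0t_S3 M) (Cen.lev M (c0t_S4 M) (Cen.lev M (c0t_S5 M) (Cen.lev M (c0t_S6 M) (Cen.lev M (c0t_S7 M) (Cen.bot) (c0tn0_t M) (c0x_act M) (c0ce_act M) (fun _ _ => trivial) c0cc7_ok c0c_f7) (c0tn1_t M) (c0x_act M) (c0ce_act M) (fun _ _ => trivial) c0cc6_ok c0c_f6) (c0tn2_t M) (c0x_act M) (c0ce_act M) (fun _ _ => trivial) c0cc5_ok c0c_f5) (c0tn3_t M) (c0x_act M) (c0ce_act M) (fun _ _ => trivial)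 c0cc4_ok c0c_f4) (forced (c0t_S3 M) (c0th_act M) (c0x_act M) _ _ c0c_f3)) (c0tn4_t M) (c0x_act M) (c0ce_act M) (fun _ _ => trivial) c0cc2_ok c0c_f2) (c0tn5_t M) (c0x_act M) (c0ce_act M) (fun _ _ => trivial) c0cc1_ok c0c_f1) (c0tn6_t M) (c0x_act M) (c0ce_act M) (fun _ _ => trivial) c0cc0_ok c0c_f0
theorem c0c_card {G Ω : Type*} [Group G] [MulAction G Ω] {g : ℕ → G} {pt : ℕ → Ω}
    (M : Md g pt H16.O73.P 351 7 H16.O73.B 4585351680) : Nat.card (Subgroup.centralizer {(wds g c0x_W) 0}) = 629856 :=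
  (c0c M).card_cent1 M.inj c0c_c.1
theorem c0c_eq {G Ω : Type*} [Group G] [MulAction G Ω] {g : ℕ → G} {pt : ℕ → Ω}
    (M : Md g pt H16.O73.P 351 7 H16.O73.B 4585351680) : Subgroup.centralizer (gen (wds g c0x_W) 1) = gen (wds g c0ce_W) 7 ∧ Nat.card (gen (wds g c0ce_W) 7) = 629856 :=
  c0c_c.1 ▸ c0c_c.2 ▸ ⟨(c0c M).cent, (c0c M).card M.inj⟩
theorem c0 {G Ω : Type*} [Group G] [MulAction G Ω] {g : ℕ → G} {pt : ℕ → Ω}
    (M : Md g pt H16.O73.P 351 7 H16.O73.B 4585351680) : Nat.card (Subgroup.centralizer {(wds g covr_W) 0}) = 629856 :=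
  c0c_card M
theorem p1 {G Ω : Type*} [Group G] [MulAction G Ω] {g : ℕ → G} {pt : ℕ → Ω}
    (M : Md g pt H16.O73.P 351 7 H16.O73.B 4585351680) : (wds g covr_W) 1 ^ 3 = 1 :=
  M.pw (covr_act M) p1_k
theorem n1 {G Ω : Type*} [Group G] [MulAction G Ω] {g : ℕ → G} {pt : ℕ → Ω}
    (M : Md g pt H16.O73.P 351 7 H16.O73.B 4585351680) : (wds g covr_W) 1 ^ 1 ≠ 1 :=
  M.npw (covr_act M) _ n1_k
theorem c1x_act {G Ω : Type*} [Group G] [MulAction G Ω] {g : ℕ → G} {pt : ℕ → Ω}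
    (M : Md g pt H16.O73.P 351 7 H16.O73.B 4585351680) : Act (wds g c1x_W) pt c1x_P 351 1 :=
  M.wact c1x_lt
theorem c1th_act {G Ω : Type*} [Group G] [MulAction G Ω] {g : ℕ → G} {pt : ℕ → Ω}
    (M : Md g pt H16.O73.P 351 7 H16.O73.B 4585351680) : Act (wds g c1th_W) pt c1th_P 351 15 :=
  M.wact c1th_lt
theorem c1tl0_e : ∀ i < 350, (dent c1tl0 c1th_P (nat_lit 351)) i = 0 := allZ_sound0 c1tl0_e_0
theorem c1tl0_ok : DOK c1tl0 c1th_P 351 := ⟨c1tl0_h, c1tl0_e⟩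
theorem c1tl1_e : ∀ i < 223, (dent c1tl1 c1th_P (nat_lit 351)) i = 0 := allZ_sound0 c1tl1_e_0
theorem c1tl1_ok : DOK c1tl1 c1th_P 351 := ⟨c1tl1_h, c1tl1_e⟩
theorem c1tl2_e : ∀ i < 44, (dent c1tl2 c1th_P (nat_lit 351)) i = 0 := allZ_sound0 c1tl2_e_0
theorem c1tl2_ok : DOK c1tl2 c1th_P 351 := ⟨c1tl2_h, c1tl2_e⟩
theorem c1tl3_e : ∀ i < 1, (dent c1tl3 c1th_P (nat_lit 351)) i = 0 := allZ_sound0 c1tl3_e_0
theorem c1tl3_ok : DOK c1tl3 c1th_P 351 := ⟨c1tl3_h, c1tl3_e⟩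
theorem c1tl4_e : ∀ i < 11, (dent c1tl4 c1th_P (nat_lit 351)) i = 0 := allZ_sound0 c1tl4_e_0
theorem c1tl4_ok : DOK c1tl4 c1th_P 351 := ⟨c1tl4_h, c1tl4_e⟩
theorem c1tl5_e : ∀ i < 8, (dent c1tl5 c1th_P (nat_lit 351)) i = 0 := allZ_sound0 c1tl5_e_0
theorem c1tl5_ok : DOK c1tl5 c1th_P 351 := ⟨c1tl5_h, c1tl5_e⟩
theorem c1tl6_e : ∀ i < 2, (dent c1tl6 c1th_P (nat_lit 351)) i = 0 := allZ_sound0 c1tl6_e_0
theorem c1tl6_ok : DOK c1tl6 c1th_P 351 := ⟨c1tl6_h, c1tl6_e⟩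
theorem c1tl7_e : ∀ i < 1, (dent c1tl7 c1th_P (nat_lit 351)) i = 0 := allZ_sound0 c1tl7_e_0
theorem c1tl7_ok : DOK c1tl7 c1th_P 351 := ⟨c1tl7_h, c1tl7_e⟩
theorem c1t_low {G Ω : Type*} [Group G] [MulAction G Ω] {g : ℕ → G} {pt : ℕ → Ω}
    (M : Md g pt H16.O73.P 351 7 H16.O73.B 4585351680) : SLow (gi (wds g c1th_W)) pt 351 [c1tl0, c1tl1, c1tl2, c1tl3, c1tl4, c1tl5, c1tl6, c1tl7] :=
  ((((((((SLow.nil).cons c1tl7_ok (c1th_act M) c1t_f7).cons c1tl6_ok (c1th_act M) c1t_f6).cons c1tl5_ok (c1th_act M) c1t_f5).cons c1tl4_ok (c1th_act M) c1t_f4).cons c1tl3_ok (c1th_act M) c1t_f3).cons c1tl2_ok (c1th_act M) c1t_f2).cons c1tl1_ok (c1th_act M) c1t_f1).cons c1tl0_ok (c1th_act M) c1t_f0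
theorem c1t_S0 {G Ω : Type*} [Group G] [MulAction G Ω] {g : ℕ → G} {pt : ℕ → Ω}
    (M : Md g pt H16.O73.P 351 7 H16.O73.B 4585351680) : Stage ⊤ (wds g c1th_W) pt 351 [c1tl0, c1tl1, c1tl2, c1tl3, c1tl4, c1tl5, c1tl6, c1tl7] [] :=
  M.stage (c1t_low M) c1t_c
theorem c1t_S1 {G Ω : Type*} [Group G] [MulAction G Ω] {g : ℕ → G} {pt : ℕ → Ω}
    (M : Md g pt H16.O73.P 351 7 H16.O73.B 4585351680) : Stage ⊤ (wds g c1th_W) pt 351 [c1tl1, c1tl2, c1tl3, c1tl4, c1tl5, c1tl6, c1tl7] [c1tl0.Pt 0] :=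
  (c1t_S0 M).next
theorem c1t_S2 {G Ω : Type*} [Group G] [MulAction G Ω] {g : ℕ → G} {pt : ℕ → Ω}
    (M : Md g pt H16.O73.P 351 7 H16.O73.B 4585351680) : Stage ⊤ (wds g c1th_W) pt 351 [c1tl2, c1tl3, c1tl4, c1tl5, c1tl6, c1tl7] [c1tl1.Pt 0, c1tl0.Pt 0] :=
  (c1t_S1 M).next
theorem c1t_S3 {G Ω : Type*} [Group G] [MulAction G Ω] {g : ℕ → G} {pt : ℕ → Ω}
    (M : Md g pt H16.O73.P 351 7 H16.O73.B 4585351680) : Stage ⊤ (wds g c1th_W) pt 351 [c1tl3, c1tl4, c1tl5, c1tl6, c1tl7] [c1tl2.Pt 0, c1tl1.Pt 0, c1tl0.Pt 0] :=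
  (c1t_S2 M).next
theorem c1t_S4 {G Ω : Type*} [Group G] [MulAction G Ω] {g : ℕ → G} {pt : ℕ → Ω}
    (M : Md g pt H16.O73.P 351 7 H16.O73.B 4585351680) : Stage ⊤ (wds g c1th_W) pt 351 [c1tl4, c1tl5, c1tl6, c1tl7] [c1tl3.Pt 0, c1tl2.Pt 0, c1tl1.Pt 0, c1tl0.Pt 0] :=
  (c1t_S3 M).next
theorem c1t_S5 {G Ω : Type*} [Group G] [MulAction G Ω] {g : ℕ → G} {pt : ℕ → Ω}
    (M : Md g pt H16.O73.P 351 7 H16.O73.B 4585351680) : Stage ⊤ (wds g c1th_W) pt 351 [c1tl5, c1tl6, c1tl7] [c1tl4.Pt 0, c1tl3.Pt 0, c1tl2.Pt 0, c1tl1.Pt 0, c1tl0.Pt 0] :=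
  (c1t_S4 M).next
theorem c1t_S6 {G Ω : Type*} [Group G] [MulAction G Ω] {g : ℕ → G} {pt : ℕ → Ω}
    (M : Md g pt H16.O73.P 351 7 H16.O73.B 4585351680) : Stage ⊤ (wds g c1th_W) pt 351 [c1tl6, c1tl7] [c1tl5.Pt 0, c1tl4.Pt 0, c1tl3.Pt 0, c1tl2.Pt 0, c1tl1.Pt 0, c1tl0.Pt 0] :=
  (c1t_S5 M).next
theorem c1t_S7 {G Ω : Type*} [Group G] [MulAction G Ω] {g : ℕ → G} {pt : ℕ → Ω}
    (M : Md g pt H16.O73.P 351 7 H16.O73.B 4585351680) : Stage ⊤ (wds g c1th_W) pt 351 [c1tl7] [c1tl6.Pt 0, c1tl5.Pt 0, c1tl4.Pt 0, c1tl3.Pt 0, c1tl2.Pt 0, c1tl1.Pt 0, c1tl0.Pt 0] :=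
  (c1t_S6 M).next
theorem c1t_S8 {G Ω : Type*} [Group G] [MulAction G Ω] {g : ℕ → G} {pt : ℕ → Ω}
    (M : Md g pt H16.O73.P 351 7 H16.O73.B 4585351680) : Stage ⊤ (wds g c1th_W) pt 351 [] [c1tl7.Pt 0, c1tl6.Pt 0, c1tl5.Pt 0, c1tl4.Pt 0, c1tl3.Pt 0, c1tl2.Pt 0, c1tl1.Pt 0, c1tl0.Pt 0] :=
  (c1t_S7 M).next
theorem c1ce_act {G Ω : Type*} [Group G] [MulAction G Ω] {g : ℕ → G} {pt : ℕ → Ω}
    (M : Md g pt H16.O73.P 351 7 H16.O73.B 4585351680) : Act (wds g c1ce_W) pt c1ce_P 351 9 :=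
  M.wact c1ce_lt
theorem c1cc7_e : ∀ i < 1, (dent c1cc7 c1ce_P (nat_lit 351)) i = 0 := allZ_sound0 c1cc7_e_0
theorem c1cc7_ok : DOK c1cc7 c1ce_P 351 := ⟨c1cc7_h, c1cc7_e⟩
theorem c1tn0_1 : ∀ i < 2, (c1tn0.ent H16.O73.P c1th_P c1x_P c1x_P c1ce_P (nat_lit 7) (nat_lit 1) H16.O73.B c1tl7 [] (memO c1cc7)) i = 0 := allZ_sound0 c1tn0_1_0
theorem c1tn0_t {G Ω : Type*} [Group G] [MulAction G Ω] {g : ℕ → G} {pt : ℕ → Ω}
    (M : Md g pt H16.O73.P 351 7 H16.O73.B 4585351680) : TrO (gen (wds g c1th_W) c1tl7.K) (wds g c1x_W) (wds g c1x_W) 1 pt 351 (c1tl7.Pt 0) (memO c1cc7) :=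
  node M (c1t_S7 M) (c1th_act M) (c1x_act M) (c1x_act M) c1tn0 ((c1ce_act M).mono (by decide)) (fun _ _ => trivial) c1tn0_0 c1tn0_1 (List.forall_mem_nil _)
theorem c1cc6_e : ∀ i < 2, (dent c1cc6 c1ce_P (nat_lit 351)) i = 0 := allZ_sound0 c1cc6_e_0
theorem c1cc6_ok : DOK c1cc6 c1ce_P 351 := ⟨c1cc6_h, c1cc6_e⟩
theorem c1tn1_1 : ∀ i < 3, (c1tn1.ent H16.O73.P c1th_P c1x_P c1x_P c1ce_P (nat_lit 7) (nat_lit 1) H16.O73.B c1tl6 [c1tl7] (memO c1cc6)) i = 0 := allZ_sound0 c1tn1_1_0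
theorem c1tn1_t {G Ω : Type*} [Group G] [MulAction G Ω] {g : ℕ → G} {pt : ℕ → Ω}
    (M : Md g pt H16.O73.P 351 7 H16.O73.B 4585351680) : TrO (gen (wds g c1th_W) c1tl6.K) (wds g c1x_W) (wds g c1x_W) 1 pt 351 (c1tl6.Pt 0) (memO c1cc6) :=
  node M (c1t_S6 M) (c1th_act M) (c1x_act M) (c1x_act M) c1tn1 ((c1ce_act M).mono (by decide)) (fun _ _ => trivial) c1tn1_0 c1tn1_1 (List.forall_mem_nil _)
theorem c1cc5_e : ∀ i < 8, (dent c1cc5 c1ce_P (nat_lit 351)) i = 0 := allZ_sound0 c1cc5_e_0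
theorem c1cc5_ok : DOK c1cc5 c1ce_P 351 := ⟨c1cc5_h, c1cc5_e⟩
theorem c1tn2_1 : ∀ i < 9, (c1tn2.ent H16.O73.P c1th_P c1x_P c1x_P c1ce_P (nat_lit 7) (nat_lit 1) H16.O73.B c1tl5 [c1tl6, c1tl7] (memO c1cc5)) i = 0 := allZ_sound0 c1tn2_1_0
theorem c1tn2_t {G Ω : Type*} [Group G] [MulAction G Ω] {g : ℕ → G} {pt : ℕ → Ω}
    (M : Md g pt H16.O73.P 351 7 H16.O73.B 4585351680) : TrO (gen (wds g c1th_W) c1tl5.K) (wds g c1x_W) (wds g c1x_W) 1 pt 351 (c1tl5.Pt 0) (memO c1cc5) :=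
  node M (c1t_S5 M) (c1th_act M) (c1x_act M) (c1x_act M) c1tn2 ((c1ce_act M).mono (by decide)) (fun _ _ => trivial) c1tn2_0 c1tn2_1 (List.forall_mem_nil _)
theorem c1cc4_e : ∀ i < 11, (dent c1cc4 c1ce_P (nat_lit 351)) i = 0 := allZ_sound0 c1cc4_e_0
theorem c1cc4_ok : DOK c1cc4 c1ce_P 351 := ⟨c1cc4_h, c1cc4_e⟩
theorem c1tn3_1 : ∀ i < 12, (c1tn3.ent H16.O73.P c1th_P c1x_P c1x_P c1ce_P (nat_lit 7) (nat_lit 1) H16.O73.B c1tl4 [c1tl5, c1tl6, c1tl7] (memO c1cc4)) i = 0 := allZ_sound0 c1tn3_1_0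
theorem c1tn3_t {G Ω : Type*} [Group G] [MulAction G Ω] {g : ℕ → G} {pt : ℕ → Ω}
    (M : Md g pt H16.O73.P 351 7 H16.O73.B 4585351680) : TrO (gen (wds g c1th_W) c1tl4.K) (wds g c1x_W) (wds g c1x_W) 1 pt 351 (c1tl4.Pt 0) (memO c1cc4) :=
  node M (c1t_S4 M) (c1th_act M) (c1x_act M) (c1x_act M) c1tn3 ((c1ce_act M).mono (by decide)) (fun _ _ => trivial) c1tn3_0 c1tn3_1 (List.forall_mem_nil _)
theorem c1cc2_e : ∀ i < 2, (dent c1cc2 c1ce_P (nat_lit 351)) i = 0 := allZ_sound0 c1cc2_e_0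
theorem c1cc2_ok : DOK c1cc2 c1ce_P 351 := ⟨c1cc2_h, c1cc2_e⟩
theorem c1tn4y60_act {G Ω : Type*} [Group G] [MulAction G Ω] {g : ℕ → G} {pt : ℕ → Ω}
    (M : Md g pt H16.O73.P 351 7 H16.O73.B 4585351680) : Act (wds g c1tn4y60_W) pt c1tn4y60_P 351 1 :=
  M.wact c1tn4y60_lt
theorem c1tr5k_act {G Ω : Type*} [Group G] [MulAction G Ω] {g : ℕ → G} {pt : ℕ → Ω}
    (M : Md g pt H16.O73.P 351 7 H16.O73.B 4585351680) : Act (wds g c1tr5k_W) pt c1tr5k_P 351 3 :=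
  M.wact c1tr5k_lt
theorem c1tn5y140_act {G Ω : Type*} [Group G] [MulAction G Ω] {g : ℕ → G} {pt : ℕ → Ω}
    (M : Md g pt H16.O73.P 351 7 H16.O73.B 4585351680) : Act (wds g c1tn5y140_W) pt c1tn5y140_P 351 1 :=
  M.wact c1tn5y140_lt
theorem c1tr6k_act {G Ω : Type*} [Group G] [MulAction G Ω] {g : ℕ → G} {pt : ℕ → Ω}
    (M : Md g pt H16.O73.P 351 7 H16.O73.B 4585351680) : Act (wds g c1tr6k_W) pt c1tr6k_P 351 4 :=
  M.wact c1tr6k_lt
theorem c1tn6_1 : ∀ i < 9, (c1tn6.ent H16.O73.P c1th_P c1x_P c1tn5y140_P c1tr6k_P (nat_lit 7) (nat_lit 1) H16.O73.B c1tl5 [c1tl6, c1tl7] (fun _ => nat_lit 1)) i = 0 := allZ_sound0 c1tn6_1_0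
theorem c1tn6_t {G Ω : Type*} [Group G] [MulAction G Ω] {g : ℕ → G} {pt : ℕ → Ω}
    (M : Md g pt H16.O73.P 351 7 H16.O73.B 4585351680) : TrO (gen (wds g c1th_W) c1tl5.K) (wds g c1x_W) (wds g c1tn5y140_W) 1 pt 351 (c1tl5.Pt 0) (fun _ => nat_lit 1) :=
  node M (c1t_S5 M) (c1th_act M) (c1x_act M) (c1tn5y140_act M) c1tn6 ((c1tr6k_act M).mono (by decide)) (fun _ _ => trivial) c1tn6_0 c1tn6_1 (List.forall_mem_nil _)
theorem c1tr6 {G Ω : Type*} [Group G] [MulAction G Ω] {g : ℕ → G} {pt : ℕ → Ω}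
    (M : Md g pt H16.O73.P 351 7 H16.O73.B 4585351680) : Ref (gen (wds g c1th_W) (topK [c1tl5, c1tl6, c1tl7])) (wds g c1x_W) (wds g c1tn5y140_W) 1 :=
  (c1tn6_t M).ref
theorem c1tn5_1 : ∀ i < 12, (c1tn5.ent H16.O73.P c1th_P c1x_P c1tn4y60_P c1tr5k_P (nat_lit 7) (nat_lit 1) H16.O73.B c1tl4 [c1tl5, c1tl6, c1tl7] (fun _ => nat_lit 1)) i = 0 := allZ_sound0 c1tn5_1_0
theorem c1tn5_t {G Ω : Type*} [Group G] [MulAction G Ω] {g : ℕ → G} {pt : ℕ → Ω}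
    (M : Md g pt H16.O73.P 351 7 H16.O73.B 4585351680) : TrO (gen (wds g c1th_W) c1tl4.K) (wds g c1x_W) (wds g c1tn4y60_W) 1 pt 351 (c1tl4.Pt 0) (fun _ => nat_lit 1) :=
  node M (c1t_S4 M) (c1th_act M) (c1x_act M) (c1tn4y60_act M) c1tn5 ((c1tr5k_act M).mono (by decide)) (fun _ _ => trivial) c1tn5_0 c1tn5_1 (List.forall_mem_cons.2 ⟨c1tr6 M, List.forall_mem_nil _⟩)
theorem c1tr5 {G Ω : Type*} [Group G] [MulAction G Ω] {g : ℕ → G} {pt : ℕ → Ω}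
    (M : Md g pt H16.O73.P 351 7 H16.O73.B 4585351680) : Ref (gen (wds g c1th_W) (topK [c1tl4, c1tl5, c1tl6, c1tl7])) (wds g c1x_W) (wds g c1tn4y60_W) 1 :=
  (c1tn5_t M).ref
theorem c1tn4y147_act {G Ω : Type*} [Group G] [MulAction G Ω] {g : ℕ → G} {pt : ℕ → Ω}
    (M : Md g pt H16.O73.P 351 7 H16.O73.B 4585351680) : Act (wds g c1tn4y147_W) pt c1tn4y147_P 351 1 :=
  M.wact c1tn4y147_lt
theorem c1tr7k_act {G Ω : Type*} [Group G] [MulAction G Ω] {g : ℕ → G} {pt : ℕ → Ω}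
    (M : Md g pt H16.O73.P 351 7 H16.O73.B 4585351680) : Act (wds g c1tr7k_W) pt c1tr7k_P 351 3 :=
  M.wact c1tr7k_lt
theorem c1tn7y147_act {G Ω : Type*} [Group G] [MulAction G Ω] {g : ℕ → G} {pt : ℕ → Ω}
    (M : Md g pt H16.O73.P 351 7 H16.O73.B 4585351680) : Act (wds g c1tn7y147_W) pt c1tn7y147_P 351 1 :=
  M.wact c1tn7y147_lt
theorem c1tr8k_act {G Ω : Type*} [Group G] [MulAction G Ω] {g : ℕ → G} {pt : ℕ → Ω}
    (M : Md g pt H16.O73.P 351 7 H16.O73.B 4585351680) : Act (wds g c1tr8k_W) pt c1tr8k_P 351 4 :=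
  M.wact c1tr8k_lt
theorem c1tn8_1 : ∀ i < 9, (c1tn8.ent H16.O73.P c1th_P c1x_P c1tn7y147_P c1tr8k_P (nat_lit 7) (nat_lit 1) H16.O73.B c1tl5 [c1tl6, c1tl7] (fun _ => nat_lit 1)) i = 0 := allZ_sound0 c1tn8_1_0
theorem c1tn8_t {G Ω : Type*} [Group G] [MulAction G Ω] {g : ℕ → G} {pt : ℕ → Ω}
    (M : Md g pt H16.O73.P 351 7 H16.O73.B 4585351680) : TrO (gen (wds g c1th_W) c1tl5.K) (wds g c1x_W) (wds g c1tn7y147_W) 1 pt 351 (c1tl5.Pt 0) (fun _ => nat_lit 1) :=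
  node M (c1t_S5 M) (c1th_act M) (c1x_act M) (c1tn7y147_act M) c1tn8 ((c1tr8k_act M).mono (by decide)) (fun _ _ => trivial) c1tn8_0 c1tn8_1 (List.forall_mem_nil _)
theorem c1tr8 {G Ω : Type*} [Group G] [MulAction G Ω] {g : ℕ → G} {pt : ℕ → Ω}
    (M : Md g pt H16.O73.P 351 7 H16.O73.B 4585351680) : Ref (gen (wds g c1th_W) (topK [c1tl5, c1tl6, c1tl7])) (wds g c1x_W) (wds g c1tn7y147_W) 1 :=
  (c1tn8_t M).ref
theorem c1tn7_1 : ∀ i < 12, (c1tn7.ent H16.O73.P c1th_P c1x_P c1tn4y147_P c1tr7k_P (nat_lit 7) (nat_lit 1) H16.O73.B c1tl4 [c1tl5, c1tl6, c1tl7] (fun _ => nat_lit 1)) i = 0 := allZ_sound0 c1tn7_1_0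
theorem c1tn7_t {G Ω : Type*} [Group G] [MulAction G Ω] {g : ℕ → G} {pt : ℕ → Ω}
    (M : Md g pt H16.O73.P 351 7 H16.O73.B 4585351680) : TrO (gen (wds g c1th_W) c1tl4.K) (wds g c1x_W) (wds g c1tn4y147_W) 1 pt 351 (c1tl4.Pt 0) (fun _ => nat_lit 1) :=
  node M (c1t_S4 M) (c1th_act M) (c1x_act M) (c1tn4y147_act M) c1tn7 ((c1tr7k_act M).mono (by decide)) (fun _ _ => trivial) c1tn7_0 c1tn7_1 (List.forall_mem_cons.2 ⟨c1tr8 M, List.forall_mem_nil _⟩)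
theorem c1tr7 {G Ω : Type*} [Group G] [MulAction G Ω] {g : ℕ → G} {pt : ℕ → Ω}
    (M : Md g pt H16.O73.P 351 7 H16.O73.B 4585351680) : Ref (gen (wds g c1th_W) (topK [c1tl4, c1tl5, c1tl6, c1tl7])) (wds g c1x_W) (wds g c1tn4y147_W) 1 :=
  (c1tn7_t M).ref
theorem c1tn4_1 : ∀ i < 45, (c1tn4.ent H16.O73.P c1th_P c1x_P c1x_P c1ce_P (nat_lit 7) (nat_lit 1) H16.O73.B c1tl2 [c1tl3, c1tl4, c1tl5, c1tl6, c1tl7] (memO c1cc2)) i = 0 := allZ_sound0 c1tn4_1_0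
theorem c1tn4_t {G Ω : Type*} [Group G] [MulAction G Ω] {g : ℕ → G} {pt : ℕ → Ω}
    (M : Md g pt H16.O73.P 351 7 H16.O73.B 4585351680) : TrO (gen (wds g c1th_W) c1tl2.K) (wds g c1x_W) (wds g c1x_W) 1 pt 351 (c1tl2.Pt 0) (memO c1cc2) :=
  node M (c1t_S2 M) (c1th_act M) (c1x_act M) (c1x_act M) c1tn4 ((c1ce_act M).mono (by decide)) (fun _ _ => trivial) c1tn4_0 c1tn4_1 (List.forall_mem_cons.2 ⟨c1tr5 M, List.forall_mem_cons.2 ⟨c1tr7 M, List.forall_mem_nil _⟩⟩)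
theorem c1cc0_e : ∀ i < 71, (dent c1cc0 c1ce_P (nat_lit 351)) i = 0 := allZ_sound0 c1cc0_e_0
theorem c1cc0_ok : DOK c1cc0 c1ce_P 351 := ⟨c1cc0_h, c1cc0_e⟩
theorem c1tn9_1 : ∀ i < 351, (c1tn9.ent H16.O73.P c1th_P c1x_P c1x_P c1ce_P (nat_lit 7) (nat_lit 1) H16.O73.B c1tl0 [c1tl1, c1tl2, c1tl3, c1tl4, c1tl5, c1tl6, c1tl7] (memO c1cc0)) i = 0 := allZ_sound0 c1tn9_1_0
theorem c1tn9_t {G Ω : Type*} [Group G] [MulAction G Ω] {g : ℕ → G} {pt : ℕ → Ω}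
    (M : Md g pt H16.O73.P 351 7 H16.O73.B 4585351680) : TrO (gen (wds g c1th_W) c1tl0.K) (wds g c1x_W) (wds g c1x_W) 1 pt 351 (c1tl0.Pt 0) (memO c1cc0) :=
  node M (c1t_S0 M) (c1th_act M) (c1x_act M) (c1x_act M) c1tn9 ((c1ce_act M).mono (by decide)) (fun _ _ => trivial) c1tn9_0 c1tn9_1 (List.forall_mem_nil _)
theorem c1c {G Ω : Type*} [Group G] [MulAction G Ω] {g : ℕ → G} {pt : ℕ → Ω}
    (M : Md g pt H16.O73.P 351 7 H16.O73.B 4585351680) : Cen ⊤ (wds g c1x_W) 1 (wds g c1ce_W) pt 351 [c1cc0, c1cc2, c1cc4, c1cc5, c1cc6, c1cc7] :=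
  (c1t_S0 M).top ▸ Cen.lev M (c1t_S0 M) (Cen.triv (c1t_S1 M) (Cen.lev M (c1t_S2 M) (Cen.triv (c1t_S3 M) (Cen.lev M (c1t_S4 M) (Cen.lev M (c1t_S5 M) (Cen.lev M (c1t_S6 M) (Cen.lev M (c1t_S7 M) (Cen.bot) (c1tn0_t M) (c1x_act M) (c1ce_act M) (fun _ _ => trivial) c1cc7_ok c1c_f7) (c1tn1_t M) (c1x_act M) (c1ce_act M) (fun _ _ => trivial) c1cc6_ok c1c_f6) (c1tn2_t M) (c1x_act M) (c1ce_act M) (fun _ _ => trivial) c1cc5_ok c1c_f5) (c1tn3_t M) (c1x_act M) (c1ce_act M) (fun _ _ => trivial) c1cc4_ok c1c_f4) (forced (c1t_S3 M) (c1th_act M) (c1x_act M) _ _ c1c_f3)) (c1tn4_t M) (c1x_act M) (c1ce_act M) (fun _ _ => trivial) c1cc2_ok c1c_f2) (forced (c1t_S1 M) (c1th_act M) (c1x_act M) _ _ c1c_f1)) (c1tn9_t M) (c1x_act M) (c1ce_act M) (fun _ _ => trivial) c1cc0_ok c1c_f0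
theorem c1c_card {G Ω : Type*} [Group G] [MulAction G Ω] {g : ℕ → G} {pt : ℕ → Ω}
    (M : Md g pt H16.O73.P 351 7 H16.O73.B 4585351680) : Nat.card (Subgroup.centralizer {(wds g c1x_W) 0}) = 139968 :=
  (c1c M).card_cent1 M.inj c1c_c.1
theorem c1c_eq {G Ω : Type*} [Group G] [MulAction G Ω] {g : ℕ → G} {pt : ℕ → Ω}
    (M : Md g pt H16.O73.P 351 7 H16.O73.B 4585351680) : Subgroup.centralizer (gen (wds g c1x_W) 1) = gen (wds g c1ce_W) 9 ∧ Nat.card (gen (wds g c1ce_W) 9) = 139968 :=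
  c1c_c.1 ▸ c1c_c.2 ▸ ⟨(c1c M).cent, (c1c M).card M.inj⟩
theorem c1 {G Ω : Type*} [Group G] [MulAction G Ω] {g : ℕ → G} {pt : ℕ → Ω}
    (M : Md g pt H16.O73.P 351 7 H16.O73.B 4585351680) : Nat.card (Subgroup.centralizer {(wds g covr_W) 1}) = 139968 :=
  c1c_card M
theorem p2 {G Ω : Type*} [Group G] [MulAction G Ω] {g : ℕ → G} {pt : ℕ → Ω}
    (M : Md g pt H16.O73.P 351 7 H16.O73.B 4585351680) : (wds g covr_W) 2 ^ 3 = 1 :=
  M.pw (covr_act M) p2_k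
theorem n2 {G Ω : Type*} [Group G] [MulAction G Ω] {g : ℕ → G} {pt : ℕ → Ω}
    (M : Md g pt H16.O73.P 351 7 H16.O73.B 4585351680) : (wds g covr_W) 2 ^ 1 ≠ 1 :=
  M.npw (covr_act M) _ n2_k
theorem c2x_act {G Ω : Type*} [Group G] [MulAction G Ω] {g : ℕ → G} {pt : ℕ → Ω}
    (M : Md g pt H16.O73.P 351 7 H16.O73.B 4585351680) : Act (wds g c2x_W) pt c2x_P 351 1 :=
  M.wact c2x_lt
theorem c2th_act {G Ω : Type*} [Group G] [MulAction G Ω] {g : ℕ → G} {pt : ℕ → Ω}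
    (M : Md g pt H16.O73.P 351 7 H16.O73.B 4585351680) : Act (wds g c2th_W) pt c2th_P 351 18 :=
  M.wact c2th_lt
theorem c2tl0_e : ∀ i < 350, (dent c2tl0 c2th_P (nat_lit 351)) i = 0 := allZ_sound0 c2tl0_e_0
theorem c2tl0_ok : DOK c2tl0 c2th_P 351 := ⟨c2tl0_h, c2tl0_e⟩
theorem c2tl1_e : ∀ i < 223, (dent c2tl1 c2th_P (nat_lit 351)) i = 0 := allZ_sound0 c2tl1_e_0
theorem c2tl1_ok : DOK c2tl1 c2th_P 351 := ⟨c2tl1_h, c2tl1_e⟩
theorem c2tl2_e : ∀ i < 44, (dent c2tl2 c2th_P (nat_lit 351)) i = 0 := allZ_sound0 c2tl2_e_0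
theorem c2tl2_ok : DOK c2tl2 c2th_P 351 := ⟨c2tl2_h, c2tl2_e⟩
theorem c2tl3_e : ∀ i < 17, (dent c2tl3 c2th_P (nat_lit 351)) i = 0 := allZ_sound0 c2tl3_e_0
theorem c2tl3_ok : DOK c2tl3 c2th_P 351 := ⟨c2tl3_h, c2tl3_e⟩
theorem c2tl4_e : ∀ i < 2, (dent c2tl4 c2th_P (nat_lit 351)) i = 0 := allZ_sound0 c2tl4_e_0
theorem c2tl4_ok : DOK c2tl4 c2th_P 351 := ⟨c2tl4_h, c2tl4_e⟩
theorem c2tl5_e : ∀ i < 1, (dent c2tl5 c2th_P (nat_lit 351)) i = 0 := allZ_sound0 c2tl5_e_0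
theorem c2tl5_ok : DOK c2tl5 c2th_P 351 := ⟨c2tl5_h, c2tl5_e⟩
theorem c2tl6_e : ∀ i < 1, (dent c2tl6 c2th_P (nat_lit 351)) i = 0 := allZ_sound0 c2tl6_e_0
theorem c2tl6_ok : DOK c2tl6 c2th_P 351 := ⟨c2tl6_h, c2tl6_e⟩
theorem c2tl7_e : ∀ i < 1, (dent c2tl7 c2th_P (nat_lit 351)) i = 0 := allZ_sound0 c2tl7_e_0
theorem c2tl7_ok : DOK c2tl7 c2th_P 351 := ⟨c2tl7_h, c2tl7_e⟩
theorem c2tl8_e : ∀ i < 2, (dent c2tl8 c2th_P (nat_lit 351)) i = 0 := allZ_sound0 c2tl8_e_0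
theorem c2tl8_ok : DOK c2tl8 c2th_P 351 := ⟨c2tl8_h, c2tl8_e⟩
theorem c2t_low {G Ω : Type*} [Group G] [MulAction G Ω] {g : ℕ → G} {pt : ℕ → Ω}
    (M : Md g pt H16.O73.P 351 7 H16.O73.B 4585351680) : SLow (gi (wds g c2th_W)) pt 351 [c2tl0, c2tl1, c2tl2, c2tl3, c2tl4, c2tl5, c2tl6, c2tl7, c2tl8] :=
  (((((((((SLow.nil).cons c2tl8_ok (c2th_act M) c2t_f8).cons c2tl7_ok (c2th_act M) c2t_f7).cons c2tl6_ok (c2th_act M) c2t_f6).cons c2tl5_ok (c2th_act M) c2t_f5).cons c2tl4_ok (c2th_act M) c2t_f4).cons c2tl3_ok (c2th_act M) c2t_f3).cons c2tl2_ok (c2th_act M) c2t_f2).cons c2tl1_ok (c2th_act M) c2t_f1).cons c2tl0_ok (c2th_act M) c2t_f0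
theorem c2t_S0 {G Ω : Type*} [Group G] [MulAction G Ω] {g : ℕ → G} {pt : ℕ → Ω}
    (M : Md g pt H16.O73.P 351 7 H16.O73.B 4585351680) : Stage ⊤ (wds g c2th_W) pt 351 [c2tl0, c2tl1, c2tl2, c2tl3, c2tl4, c2tl5, c2tl6, c2tl7, c2tl8] [] :=
  M.stage (c2t_low M) c2t_c
theorem c2t_S1 {G Ω : Type*} [Group G] [MulAction G Ω] {g : ℕ → G} {pt : ℕ → Ω}
    (M : Md g pt H16.O73.P 351 7 H16.O73.B 4585351680) : Stage ⊤ (wds g c2th_W) pt 351 [c2tl1, c2tl2, c2tl3, c2tl4, c2tl5, c2tl6, c2tl7, c2tl8] [c2tl0.Pt 0] :=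
  (c2t_S0 M).next
theorem c2t_S2 {G Ω : Type*} [Group G] [MulAction G Ω] {g : ℕ → G} {pt : ℕ → Ω}
    (M : Md g pt H16.O73.P 351 7 H16.O73.B 4585351680) : Stage ⊤ (wds g c2th_W) pt 351 [c2tl2, c2tl3, c2tl4, c2tl5, c2tl6, c2tl7, c2tl8] [c2tl1.Pt 0, c2tl0.Pt 0] :=
  (c2t_S1 M).next
theorem c2t_S3 {G Ω : Type*} [Group G] [MulAction G Ω] {g : ℕ → G} {pt : ℕ → Ω}
    (M : Md g pt H16.O73.P 351 7 H16.O73.B 4585351680) : Stage ⊤ (wds g c2th_W) pt 351 [c2tl3, c2tl4, c2tl5, c2tl6, c2tl7, c2tl8] [c2tl2.Pt 0, c2tl1.Pt 0, c2tl0.Pt 0] :=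
  (c2t_S2 M).next
theorem c2t_S4 {G Ω : Type*} [Group G] [MulAction G Ω] {g : ℕ → G} {pt : ℕ → Ω}
    (M : Md g pt H16.O73.P 351 7 H16.O73.B 4585351680) : Stage ⊤ (wds g c2th_W) pt 351 [c2tl4, c2tl5, c2tl6, c2tl7, c2tl8] [c2tl3.Pt 0, c2tl2.Pt 0, c2tl1.Pt 0, c2tl0.Pt 0] :=
  (c2t_S3 M).next
theorem c2t_S5 {G Ω : Type*} [Group G] [MulAction G Ω] {g : ℕ → G} {pt : ℕ → Ω}
    (M : Md g pt H16.O73.P 351 7 H16.O73.B 4585351680) : Stage ⊤ (wds g c2th_W) pt 351 [c2tl5, c2tl6, c2tl7, c2tl8] [c2tl4.Pt 0, c2tl3.Pt 0, c2tl2.Pt 0, c2tl1.Pt 0, c2tl0.Pt 0] :=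
  (c2t_S4 M).next
theorem c2t_S6 {G Ω : Type*} [Group G] [MulAction G Ω] {g : ℕ → G} {pt : ℕ → Ω}
    (M : Md g pt H16.O73.P 351 7 H16.O73.B 4585351680) : Stage ⊤ (wds g c2th_W) pt 351 [c2tl6, c2tl7, c2tl8] [c2tl5.Pt 0, c2tl4.Pt 0, c2tl3.Pt 0, c2tl2.Pt 0, c2tl1.Pt 0, c2tl0.Pt 0] :=
  (c2t_S5 M).next
theorem c2t_S7 {G Ω : Type*} [Group G] [MulAction G Ω] {g : ℕ → G} {pt : ℕ → Ω}
    (M : Md g pt H16.O73.P 351 7 H16.O73.B 4585351680) : Stage ⊤ (wds g c2th_W) pt 351 [c2tl7, c2tl8] [c2tl6.Pt 0, c2tl5.Pt 0, c2tl4.Pt 0, c2tl3.Pt 0, c2tl2.Pt 0, c2tl1.Pt 0, c2tl0.Pt 0] :=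
  (c2t_S6 M).next
theorem c2t_S8 {G Ω : Type*} [Group G] [MulAction G Ω] {g : ℕ → G} {pt : ℕ → Ω}
    (M : Md g pt H16.O73.P 351 7 H16.O73.B 4585351680) : Stage ⊤ (wds g c2th_W) pt 351 [c2tl8] [c2tl7.Pt 0, c2tl6.Pt 0, c2tl5.Pt 0, c2tl4.Pt 0, c2tl3.Pt 0, c2tl2.Pt 0, c2tl1.Pt 0, c2tl0.Pt 0] :=
  (c2t_S7 M).next
theorem c2t_S9 {G Ω : Type*} [Group G] [MulAction G Ω] {g : ℕ → G} {pt : ℕ → Ω}
    (M : Md g pt H16.O73.P 351 7 H16.O73.B 4585351680) : Stage ⊤ (wds g c2th_W) pt 351 [] [c2tl8.Pt 0, c2tl7.Pt 0, c2tl6.Pt 0, c2tl5.Pt 0, c2tl4.Pt 0, c2tl3.Pt 0, c2tl2.Pt 0, c2tl1.Pt 0, c2tl0.Pt 0] :=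
  (c2t_S8 M).next
theorem c2ce_act {G Ω : Type*} [Group G] [MulAction G Ω] {g : ℕ → G} {pt : ℕ → Ω}
    (M : Md g pt H16.O73.P 351 7 H16.O73.B 4585351680) : Act (wds g c2ce_W) pt c2ce_P 351 6 :=
  M.wact c2ce_lt
theorem c2cc8_e : ∀ i < 2, (dent c2cc8 c2ce_P (nat_lit 351)) i = 0 := allZ_sound0 c2cc8_e_0
theorem c2cc8_ok : DOK c2cc8 c2ce_P 351 := ⟨c2cc8_h, c2cc8_e⟩
theorem c2tn0_1 : ∀ i < 3, (c2tn0.ent H16.O73.P c2th_P c2x_P c2x_P c2ce_P (nat_lit 7) (nat_lit 1) H16.O73.B c2tl8 [] (memO c2cc8)) i = 0 := allZ_sound0 c2tn0_1_0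
theorem c2tn0_t {G Ω : Type*} [Group G] [MulAction G Ω] {g : ℕ → G} {pt : ℕ → Ω}
    (M : Md g pt H16.O73.P 351 7 H16.O73.B 4585351680) : TrO (gen (wds g c2th_W) c2tl8.K) (wds g c2x_W) (wds g c2x_W) 1 pt 351 (c2tl8.Pt 0) (memO c2cc8) :=
  node M (c2t_S8 M) (c2th_act M) (c2x_act M) (c2x_act M) c2tn0 ((c2ce_act M).mono (by decide)) (fun _ _ => trivial) c2tn0_0 c2tn0_1 (List.forall_mem_nil _)
theorem c2cc5_e : ∀ i < 1, (dent c2cc5 c2ce_P (nat_lit 351)) i = 0 := allZ_sound0 c2cc5_e_0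
theorem c2cc5_ok : DOK c2cc5 c2ce_P 351 := ⟨c2cc5_h, c2cc5_e⟩
theorem c2tn1_1 : ∀ i < 2, (c2tn1.ent H16.O73.P c2th_P c2x_P c2x_P c2ce_P (nat_lit 7) (nat_lit 1) H16.O73.B c2tl5 [c2tl6, c2tl7, c2tl8] (memO c2cc5)) i = 0 := allZ_sound0 c2tn1_1_0
theorem c2tn1_t {G Ω : Type*} [Group G] [MulAction G Ω] {g : ℕ → G} {pt : ℕ → Ω}
    (M : Md g pt H16.O73.P 351 7 H16.O73.B 4585351680) : TrO (gen (wds g c2th_W) c2tl5.K) (wds g c2x_W) (wds g c2x_W) 1 pt 351 (c2tl5.Pt 0) (memO c2cc5) :=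
  node M (c2t_S5 M) (c2th_act M) (c2x_act M) (c2x_act M) c2tn1 ((c2ce_act M).mono (by decide)) (fun _ _ => trivial) c2tn1_0 c2tn1_1 (List.forall_mem_nil _)
theorem c2cc2_e : ∀ i < 26, (dent c2cc2 c2ce_P (nat_lit 351)) i = 0 := allZ_sound0 c2cc2_e_0
theorem c2cc2_ok : DOK c2cc2 c2ce_P 351 := ⟨c2cc2_h, c2cc2_e⟩
theorem c2tn2_1 : ∀ i < 45, (c2tn2.ent H16.O73.P c2th_P c2x_P c2x_P c2ce_P (nat_lit 7) (nat_lit 1) H16.O73.B c2tl2 [c2tl3, c2tl4, c2tl5, c2tl6, c2tl7, c2tl8] (memO c2cc2)) i = 0 := allZ_sound0 c2tn2_1_0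
theorem c2tn2_t {G Ω : Type*} [Group G] [MulAction G Ω] {g : ℕ → G} {pt : ℕ → Ω}
    (M : Md g pt H16.O73.P 351 7 H16.O73.B 4585351680) : TrO (gen (wds g c2th_W) c2tl2.K) (wds g c2x_W) (wds g c2x_W) 1 pt 351 (c2tl2.Pt 0) (memO c2cc2) :=
  node M (c2t_S2 M) (c2th_act M) (c2x_act M) (c2x_act M) c2tn2 ((c2ce_act M).mono (by decide)) (fun _ _ => trivial) c2tn2_0 c2tn2_1 (List.forall_mem_nil _)
theorem c2cc0_e : ∀ i < 107, (dent c2cc0 c2ce_P (nat_lit 351)) i = 0 := allZ_sound0 c2cc0_e_0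
theorem c2cc0_ok : DOK c2cc0 c2ce_P 351 := ⟨c2cc0_h, c2cc0_e⟩
theorem c2tn3_1 : ∀ i < 351, (c2tn3.ent H16.O73.P c2th_P c2x_P c2x_P c2ce_P (nat_lit 7) (nat_lit 1) H16.O73.B c2tl0 [c2tl1, c2tl2, c2tl3, c2tl4, c2tl5, c2tl6, c2tl7, c2tl8] (memO c2cc0)) i = 0 := allZ_sound0 c2tn3_1_0
theorem c2tn3_t {G Ω : Type*} [Group G] [MulAction G Ω] {g : ℕ → G} {pt : ℕ → Ω}
    (M : Md g pt H16.O73.P 351 7 H16.O73.B 4585351680) : TrO (gen (wds g c2th_W) c2tl0.K) (wds g c2x_W) (wds g c2x_W) 1 pt 351 (c2tl0.Pt 0) (memO c2cc0) :=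
  node M (c2t_S0 M) (c2th_act M) (c2x_act M) (c2x_act M) c2tn3 ((c2ce_act M).mono (by decide)) (fun _ _ => trivial) c2tn3_0 c2tn3_1 (List.forall_mem_nil _)
theorem c2c {G Ω : Type*} [Group G] [MulAction G Ω] {g : ℕ → G} {pt : ℕ → Ω}
    (M : Md g pt H16.O73.P 351 7 H16.O73.B 4585351680) : Cen ⊤ (wds g c2x_W) 1 (wds g c2ce_W) pt 351 [c2cc0, c2cc2, c2cc5, c2cc8] :=
  (c2t_S0 M).top ▸ Cen.lev M (c2t_S0 M) (Cen.triv (c2t_S1 M) (Cen.lev M (c2t_S2 M) (Cen.triv (c2t_S3 M) (Cen.triv (c2t_S4 M) (Cen.lev M (c2t_S5 M) (Cen.triv (c2t_S6 M) (Cen.triv (c2t_S7 M) (Cen.lev M (c2t_S8 M) (Cen.bot) (c2tn0_t M) (c2x_act M) (c2ce_act M) (fun _ _ => trivial) c2cc8_ok c2c_f8) (forced (c2t_S7 M) (c2th_act M) (c2x_act M) _ _ c2c_f7)) (forced (c2t_S6 M) (c2th_act M) (c2x_act M) _ _ c2c_f6)) (c2tn1_t M) (c2x_act M) (c2ce_act M) (fun _ _ => trivial) c2cc5_ok c2c_f5) (forced (c2t_S4 M) (c2th_act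 M) (c2x_act M) _ _ c2c_f4)) (forced (c2t_S3 M) (c2th_act M) (c2x_act M) _ _ c2c_f3)) (c2tn2_t M) (c2x_act M) (c2ce_act M) (fun _ _ => trivial) c2cc2_ok c2c_f2) (forced (c2t_S1 M) (c2th_act M) (c2x_act M) _ _ c2c_f1)) (c2tn3_t M) (c2x_act M) (c2ce_act M) (fun _ _ => trivial) c2cc0_ok c2c_f0
theorem c2c_card {G Ω : Type*} [Group G] [MulAction G Ω] {g : ℕ → G} {pt : ℕ → Ω}
    (M : Md g pt H16.O73.P 351 7 H16.O73.B 4585351680) : Nat.card (Subgroup.centralizer {(wds g c2x_W) 0}) = 17496 :=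
  (c2c M).card_cent1 M.inj c2c_c.1
theorem c2c_eq {G Ω : Type*} [Group G] [MulAction G Ω] {g : ℕ → G} {pt : ℕ → Ω}
    (M : Md g pt H16.O73.P 351 7 H16.O73.B 4585351680) : Subgroup.centralizer (gen (wds g c2x_W) 1) = gen (wds g c2ce_W) 6 ∧ Nat.card (gen (wds g c2ce_W) 6) = 17496 :=
  c2c_c.1 ▸ c2c_c.2 ▸ ⟨(c2c M).cent, (c2c M).card M.inj⟩
theorem c2 {G Ω : Type*} [Group G] [MulAction G Ω] {g : ℕ → G} {pt : ℕ → Ω}
    (M : Md g pt H16.O73.P 351 7 H16.O73.B 4585351680) : Nat.card (Subgroup.centralizer {(wds g covr_W) 2}) = 17496 :=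
  c2c_card M
theorem p3 {G Ω : Type*} [Group G] [MulAction G Ω] {g : ℕ → G} {pt : ℕ → Ω}
    (M : Md g pt H16.O73.P 351 7 H16.O73.B 4585351680) : (wds g covr_W) 3 ^ 3 = 1 :=
  M.pw (covr_act M) p3_k
theorem n3 {G Ω : Type*} [Group G] [MulAction G Ω] {g : ℕ → G} {pt : ℕ → Ω}
    (M : Md g pt H16.O73.P 351 7 H16.O73.B 4585351680) : (wds g covr_W) 3 ^ 1 ≠ 1 :=
  M.npw (covr_act M) _ n3_k
theorem c3x_act {G Ω : Type*} [Group G] [MulAction G Ω] {g : ℕ → G} {pt : ℕ → Ω}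
    (M : Md g pt H16.O73.P 351 7 H16.O73.B 4585351680) : Act (wds g c3x_W) pt c3x_P 351 1 :=
  M.wact c3x_lt
theorem c3th_act {G Ω : Type*} [Group G] [MulAction G Ω] {g : ℕ → G} {pt : ℕ → Ω}
    (M : Md g pt H16.O73.P 351 7 H16.O73.B 4585351680) : Act (wds g c3th_W) pt c3th_P 351 18 :=
  M.wact c3th_lt
theorem c3tl0_e : ∀ i < 350, (dent c3tl0 c3th_P (nat_lit 351)) i = 0 := allZ_sound0 c3tl0_e_0
theorem c3tl0_ok : DOK c3tl0 c3th_P 351 := ⟨c3tl0_h, c3tl0_e⟩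
theorem c3tl1_e : ∀ i < 223, (dent c3tl1 c3th_P (nat_lit 351)) i = 0 := allZ_sound0 c3tl1_e_0
theorem c3tl1_ok : DOK c3tl1 c3th_P 351 := ⟨c3tl1_h, c3tl1_e⟩
theorem c3tl2_e : ∀ i < 44, (dent c3tl2 c3th_P (nat_lit 351)) i = 0 := allZ_sound0 c3tl2_e_0
theorem c3tl2_ok : DOK c3tl2 c3th_P 351 := ⟨c3tl2_h, c3tl2_e⟩
theorem c3tl3_e : ∀ i < 17, (dent c3tl3 c3th_P (nat_lit 351)) i = 0 := allZ_sound0 c3tl3_e_0
theorem c3tl3_ok : DOK c3tl3 c3th_P 351 := ⟨c3tl3_h, c3tl3_e⟩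
theorem c3tl4_e : ∀ i < 2, (dent c3tl4 c3th_P (nat_lit 351)) i = 0 := allZ_sound0 c3tl4_e_0
theorem c3tl4_ok : DOK c3tl4 c3th_P 351 := ⟨c3tl4_h, c3tl4_e⟩
theorem c3tl5_e : ∀ i < 1, (dent c3tl5 c3th_P (nat_lit 351)) i = 0 := allZ_sound0 c3tl5_e_0
theorem c3tl5_ok : DOK c3tl5 c3th_P 351 := ⟨c3tl5_h, c3tl5_e⟩
theorem c3tl6_e : ∀ i < 1, (dent c3tl6 c3th_P (nat_lit 351)) i = 0 := allZ_sound0 c3tl6_e_0
theorem c3tl6_ok : DOK c3tl6 c3th_P 351 := ⟨c3tl6_h, c3tl6_e⟩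
theorem c3tl7_e : ∀ i < 1, (dent c3tl7 c3th_P (nat_lit 351)) i = 0 := allZ_sound0 c3tl7_e_0
theorem c3tl7_ok : DOK c3tl7 c3th_P 351 := ⟨c3tl7_h, c3tl7_e⟩
theorem c3tl8_e : ∀ i < 2, (dent c3tl8 c3th_P (nat_lit 351)) i = 0 := allZ_sound0 c3tl8_e_0
theorem c3tl8_ok : DOK c3tl8 c3th_P 351 := ⟨c3tl8_h, c3tl8_e⟩
theorem c3t_low {G Ω : Type*} [Group G] [MulAction G Ω] {g : ℕ → G} {pt : ℕ → Ω}
    (M : Md g pt H16.O73.P 351 7 H16.O73.B 4585351680) : SLow (gi (wds g c3th_W)) pt 351 [c3tl0, c3tl1, c3tl2, c3tl3, c3tl4, c3tl5, c3tl6, c3tl7, c3tl8] :=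
  (((((((((SLow.nil).cons c3tl8_ok (c3th_act M) c3t_f8).cons c3tl7_ok (c3th_act M) c3t_f7).cons c3tl6_ok (c3th_act M) c3t_f6).cons c3tl5_ok (c3th_act M) c3t_f5).cons c3tl4_ok (c3th_act M) c3t_f4).cons c3tl3_ok (c3th_act M) c3t_f3).cons c3tl2_ok (c3th_act M) c3t_f2).cons c3tl1_ok (c3th_act M) c3t_f1).cons c3tl0_ok (c3th_act M) c3t_f0
theorem c3t_S0 {G Ω : Type*} [Group G] [MulAction G Ω] {g : ℕ → G} {pt : ℕ → Ω}
    (M : Md g pt H16.O73.P 351 7 H16.O73.B 4585351680) : Stage ⊤ (wds g c3th_W) pt 351 [c3tl0, c3tl1, c3tl2, c3tl3, c3tl4, c3tl5, c3tl6, c3tl7, c3tl8] [] :=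
  M.stage (c3t_low M) c3t_c
theorem c3t_S1 {G Ω : Type*} [Group G] [MulAction G Ω] {g : ℕ → G} {pt : ℕ → Ω}
    (M : Md g pt H16.O73.P 351 7 H16.O73.B 4585351680) : Stage ⊤ (wds g c3th_W) pt 351 [c3tl1, c3tl2, c3tl3, c3tl4, c3tl5, c3tl6, c3tl7, c3tl8] [c3tl0.Pt 0] :=
  (c3t_S0 M).next
theorem c3t_S2 {G Ω : Type*} [Group G] [MulAction G Ω] {g : ℕ → G} {pt : ℕ → Ω}
    (M : Md g pt H16.O73.P 351 7 H16.O73.B 4585351680) : Stage ⊤ (wds g c3th_W) pt 351 [c3tl2, c3tl3, c3tl4, c3tl5, c3tl6, c3tl7, c3tl8] [c3tl1.Pt 0, c3tl0.Pt 0] :=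
  (c3t_S1 M).next
theorem c3t_S3 {G Ω : Type*} [Group G] [MulAction G Ω] {g : ℕ → G} {pt : ℕ → Ω}
    (M : Md g pt H16.O73.P 351 7 H16.O73.B 4585351680) : Stage ⊤ (wds g c3th_W) pt 351 [c3tl3, c3tl4, c3tl5, c3tl6, c3tl7, c3tl8] [c3tl2.Pt 0, c3tl1.Pt 0, c3tl0.Pt 0] :=
  (c3t_S2 M).next
theorem c3t_S4 {G Ω : Type*} [Group G] [MulAction G Ω] {g : ℕ → G} {pt : ℕ → Ω}
    (M : Md g pt H16.O73.P 351 7 H16.O73.B 4585351680) : Stage ⊤ (wds g c3th_W) pt 351 [c3tl4, c3tl5, c3tl6, c3tl7, c3tl8] [c3tl3.Pt 0, c3tl2.Pt 0, c3tl1.Pt 0, c3tl0.Pt 0] :=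
  (c3t_S3 M).next
theorem c3t_S5 {G Ω : Type*} [Group G] [MulAction G Ω] {g : ℕ → G} {pt : ℕ → Ω}
    (M : Md g pt H16.O73.P 351 7 H16.O73.B 4585351680) : Stage ⊤ (wds g c3th_W) pt 351 [c3tl5, c3tl6, c3tl7, c3tl8] [c3tl4.Pt 0, c3tl3.Pt 0, c3tl2.Pt 0, c3tl1.Pt 0, c3tl0.Pt 0] :=
  (c3t_S4 M).next
theorem c3t_S6 {G Ω : Type*} [Group G] [MulAction G Ω] {g : ℕ → G} {pt : ℕ → Ω}
    (M : Md g pt H16.O73.P 351 7 H16.O73.B 4585351680) : Stage ⊤ (wds g c3th_W) pt 351 [c3tl6, c3tl7, c3tl8] [c3tl5.Pt 0, c3tl4.Pt 0, c3tl3.Pt 0, c3tl2.Pt 0, c3tl1.Pt 0, c3tl0.Pt 0] :=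
  (c3t_S5 M).next
theorem c3t_S7 {G Ω : Type*} [Group G] [MulAction G Ω] {g : ℕ → G} {pt : ℕ → Ω}
    (M : Md g pt H16.O73.P 351 7 H16.O73.B 4585351680) : Stage ⊤ (wds g c3th_W) pt 351 [c3tl7, c3tl8] [c3tl6.Pt 0, c3tl5.Pt 0, c3tl4.Pt 0, c3tl3.Pt 0, c3tl2.Pt 0, c3tl1.Pt 0, c3tl0.Pt 0] :=
  (c3t_S6 M).next
theorem c3t_S8 {G Ω : Type*} [Group G] [MulAction G Ω] {g : ℕ → G} {pt : ℕ → Ω}
    (M : Md g pt H16.O73.P 351 7 H16.O73.B 4585351680) : Stage ⊤ (wds g c3th_W) pt 351 [c3tl8] [c3tl7.Pt 0, c3tl6.Pt 0, c3tl5.Pt 0, c3tl4.Pt 0, c3tl3.Pt 0, c3tl2.Pt 0, c3tl1.Pt 0, c3tl0.Pt 0] :=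
  (c3t_S7 M).next
theorem c3t_S9 {G Ω : Type*} [Group G] [MulAction G Ω] {g : ℕ → G} {pt : ℕ → Ω}
    (M : Md g pt H16.O73.P 351 7 H16.O73.B 4585351680) : Stage ⊤ (wds g c3th_W) pt 351 [] [c3tl8.Pt 0, c3tl7.Pt 0, c3tl6.Pt 0, c3tl5.Pt 0, c3tl4.Pt 0, c3tl3.Pt 0, c3tl2.Pt 0, c3tl1.Pt 0, c3tl0.Pt 0] :=
  (c3t_S8 M).next
theorem c3ce_act {G Ω : Type*} [Group G] [MulAction G Ω] {g : ℕ → G} {pt : ℕ → Ω}
    (M : Md g pt H16.O73.P 351 7 H16.O73.B 4585351680) : Act (wds g c3ce_W) pt c3ce_P 351 6 :=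
  M.wact c3ce_lt
theorem c3cc8_e : ∀ i < 2, (dent c3cc8 c3ce_P (nat_lit 351)) i = 0 := allZ_sound0 c3cc8_e_0
theorem c3cc8_ok : DOK c3cc8 c3ce_P 351 := ⟨c3cc8_h, c3cc8_e⟩
theorem c3tn0_1 : ∀ i < 3, (c3tn0.ent H16.O73.P c3th_P c3x_P c3x_P c3ce_P (nat_lit 7) (nat_lit 1) H16.O73.B c3tl8 [] (memO c3cc8)) i = 0 := allZ_sound0 c3tn0_1_0
theorem c3tn0_t {G Ω : Type*} [Group G] [MulAction G Ω] {g : ℕ → G} {pt : ℕ → Ω}
    (M : Md g pt H16.O73.P 351 7 H16.O73.B 4585351680) : TrO (gen (wds g c3th_W) c3tl8.K) (wds g c3x_W) (wds g c3x_W) 1 pt 351 (c3tl8.Pt 0) (memO c3cc8) :=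
  node M (c3t_S8 M) (c3th_act M) (c3x_act M) (c3x_act M) c3tn0 ((c3ce_act M).mono (by decide)) (fun _ _ => trivial) c3tn0_0 c3tn0_1 (List.forall_mem_nil _)
theorem c3cc5_e : ∀ i < 1, (dent c3cc5 c3ce_P (nat_lit 351)) i = 0 := allZ_sound0 c3cc5_e_0
theorem c3cc5_ok : DOK c3cc5 c3ce_P 351 := ⟨c3cc5_h, c3cc5_e⟩
theorem c3tn1_1 : ∀ i < 2, (c3tn1.ent H16.O73.P c3th_P c3x_P c3x_P c3ce_P (nat_lit 7) (nat_lit 1) H16.O73.B c3tl5 [c3tl6, c3tl7, c3tl8] (memO c3cc5)) i = 0 := allZ_sound0 c3tn1_1_0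
theorem c3tn1_t {G Ω : Type*} [Group G] [MulAction G Ω] {g : ℕ → G} {pt : ℕ → Ω}
    (M : Md g pt H16.O73.P 351 7 H16.O73.B 4585351680) : TrO (gen (wds g c3th_W) c3tl5.K) (wds g c3x_W) (wds g c3x_W) 1 pt 351 (c3tl5.Pt 0) (memO c3cc5) :=
  node M (c3t_S5 M) (c3th_act M) (c3x_act M) (c3x_act M) c3tn1 ((c3ce_act M).mono (by decide)) (fun _ _ => trivial) c3tn1_0 c3tn1_1 (List.forall_mem_nil _)
theorem c3cc2_e : ∀ i < 26, (dent c3cc2 c3ce_P (nat_lit 351)) i = 0 := allZ_sound0 c3cc2_e_0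
theorem c3cc2_ok : DOK c3cc2 c3ce_P 351 := ⟨c3cc2_h, c3cc2_e⟩
theorem c3tn2_1 : ∀ i < 45, (c3tn2.ent H16.O73.P c3th_P c3x_P c3x_P c3ce_P (nat_lit 7) (nat_lit 1) H16.O73.B c3tl2 [c3tl3, c3tl4, c3tl5, c3tl6, c3tl7, c3tl8] (memO c3cc2)) i = 0 := allZ_sound0 c3tn2_1_0
theorem c3tn2_t {G Ω : Type*} [Group G] [MulAction G Ω] {g : ℕ → G} {pt : ℕ → Ω}
    (M : Md g pt H16.O73.P 351 7 H16.O73.B 4585351680) : TrO (gen (wds g c3th_W) c3tl2.K) (wds g c3x_W) (wds g c3x_W) 1 pt 351 (c3tl2.Pt 0) (memO c3cc2) :=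
  node M (c3t_S2 M) (c3th_act M) (c3x_act M) (c3x_act M) c3tn2 ((c3ce_act M).mono (by decide)) (fun _ _ => trivial) c3tn2_0 c3tn2_1 (List.forall_mem_nil _)
theorem c3cc0_e : ∀ i < 107, (dent c3cc0 c3ce_P (nat_lit 351)) i = 0 := allZ_sound0 c3cc0_e_0
theorem c3cc0_ok : DOK c3cc0 c3ce_P 351 := ⟨c3cc0_h, c3cc0_e⟩
theorem c3tn3_1 : ∀ i < 351, (c3tn3.ent H16.O73.P c3th_P c3x_P c3x_P c3ce_P (nat_lit 7) (nat_lit 1) H16.O73.B c3tl0 [c3tl1, c3tl2, c3tl3, c3tl4, c3tl5, c3tl6, c3tl7, c3tl8] (memO c3cc0)) i = 0 := allZ_sound0 c3tn3_1_0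
theorem c3tn3_t {G Ω : Type*} [Group G] [MulAction G Ω] {g : ℕ → G} {pt : ℕ → Ω}
    (M : Md g pt H16.O73.P 351 7 H16.O73.B 4585351680) : TrO (gen (wds g c3th_W) c3tl0.K) (wds g c3x_W) (wds g c3x_W) 1 pt 351 (c3tl0.Pt 0) (memO c3cc0) :=
  node M (c3t_S0 M) (c3th_act M) (c3x_act M) (c3x_act M) c3tn3 ((c3ce_act M).mono (by decide)) (fun _ _ => trivial) c3tn3_0 c3tn3_1 (List.forall_mem_nil _)
theorem c3c {G Ω : Type*} [Group G] [MulAction G Ω] {g : ℕ → G} {pt : ℕ → Ω}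
    (M : Md g pt H16.O73.P 351 7 H16.O73.B 4585351680) : Cen ⊤ (wds g c3x_W) 1 (wds g c3ce_W) pt 351 [c3cc0, c3cc2, c3cc5, c3cc8] :=
  (c3t_S0 M).top ▸ Cen.lev M (c3t_S0 M) (Cen.triv (c3t_S1 M) (Cen.lev M (c3t_S2 M) (Cen.triv (c3t_S3 M) (Cen.triv (c3t_S4 M) (Cen.lev M (c3t_S5 M) (Cen.triv (c3t_S6 M) (Cen.triv (c3t_S7 M) (Cen.lev M (c3t_S8 M) (Cen.bot) (c3tn0_t M) (c3x_act M) (c3ce_act M) (fun _ _ => trivial) c3cc8_ok c3c_f8) (forced (c3t_S7 M) (c3th_act M) (c3x_act M) _ _ c3c_f7)) (forced (c3t_S6 M) (c3th_act M) (c3x_act M) _ _ c3c_f6)) (c3tn1_t M) (c3x_act M) (c3ce_act M) (fun _ _ => trivial) c3cc5_ok c3c_f5) (forced (c3t_S4 M) (c3th_act M) (c3x_act M) _ _ c3c_f4)) (forced (c3t_S3 M) (c3th_act M) (c3x_act M) _ _ c3c_f3)) (c3tn2_t M) (c3x_act M) (c3ce_act M) (fun _ _ => trivial) c3cc2_ok c3c_f2) (forced (c3t_S1 M) (c3th_act M) (c3x_act M) _ _ c3c_f1)) (c3tn3_t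 M) (c3x_act M) (c3ce_act M) (fun _ _ => trivial) c3cc0_ok c3c_f0
theorem c3c_card {G Ω : Type*} [Group G] [MulAction G Ω] {g : ℕ → G} {pt : ℕ → Ω}
    (M : Md g pt H16.O73.P 351 7 H16.O73.B 4585351680) : Nat.card (Subgroup.centralizer {(wds g c3x_W) 0}) = 17496 :=
  (c3c M).card_cent1 M.inj c3c_c.1
theorem c3c_eq {G Ω : Type*} [Group G] [MulAction G Ω] {g : ℕ → G} {pt : ℕ → Ω}
    (M : Md g pt H16.O73.P 351 7 H16.O73.B 4585351680) : Subgroup.centralizer (gen (wds g c3x_W) 1) = gen (wds g c3ce_W) 6 ∧ Nat.card (gen (wds g c3ce_W) 6) = 17496 :=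
  c3c_c.1 ▸ c3c_c.2 ▸ ⟨(c3c M).cent, (c3c M).card M.inj⟩
theorem c3 {G Ω : Type*} [Group G] [MulAction G Ω] {g : ℕ → G} {pt : ℕ → Ω}
    (M : Md g pt H16.O73.P 351 7 H16.O73.B 4585351680) : Nat.card (Subgroup.centralizer {(wds g covr_W) 3}) = 17496 :=
  c3c_card M
theorem p4 {G Ω : Type*} [Group G] [MulAction G Ω] {g : ℕ → G} {pt : ℕ → Ω}
    (M : Md g pt H16.O73.P 351 7 H16.O73.B 4585351680) : (wds g covr_W) 4 ^ 3 = 1 :=
  M.pw (covr_act M) p4_k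
theorem n4 {G Ω : Type*} [Group G] [MulAction G Ω] {g : ℕ → G} {pt : ℕ → Ω}
    (M : Md g pt H16.O73.P 351 7 H16.O73.B 4585351680) : (wds g covr_W) 4 ^ 1 ≠ 1 :=
  M.npw (covr_act M) _ n4_k
theorem c4x_act {G Ω : Type*} [Group G] [MulAction G Ω] {g : ℕ → G} {pt : ℕ → Ω}
    (M : Md g pt H16.O73.P 351 7 H16.O73.B 4585351680) : Act (wds g c4x_W) pt c4x_P 351 1 :=
  M.wact c4x_lt
theorem c4th_act {G Ω : Type*} [Group G] [MulAction G Ω] {g : ℕ → G} {pt : ℕ → Ω}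
    (M : Md g pt H16.O73.P 351 7 H16.O73.B 4585351680) : Act (wds g c4th_W) pt c4th_P 351 18 :=
  M.wact c4th_lt
theorem c4tl0_e : ∀ i < 350, (dent c4tl0 c4th_P (nat_lit 351)) i = 0 := allZ_sound0 c4tl0_e_0
theorem c4tl0_ok : DOK c4tl0 c4th_P 351 := ⟨c4tl0_h, c4tl0_e⟩
theorem c4tl1_e : ∀ i < 125, (dent c4tl1 c4th_P (nat_lit 351)) i = 0 := allZ_sound0 c4tl1_e_0
theorem c4tl1_ok : DOK c4tl1 c4th_P 351 := ⟨c4tl1_h, c4tl1_e⟩
theorem c4tl2_e : ∀ i < 44, (dent c4tl2 c4th_P (nat_lit 351)) i = 0 := allZ_sound0 c4tl2_e_0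
theorem c4tl2_ok : DOK c4tl2 c4th_P 351 := ⟨c4tl2_h, c4tl2_e⟩
theorem c4tl3_e : ∀ i < 11, (dent c4tl3 c4th_P (nat_lit 351)) i = 0 := allZ_sound0 c4tl3_e_0
theorem c4tl3_ok : DOK c4tl3 c4th_P 351 := ⟨c4tl3_h, c4tl3_e⟩
theorem c4tl4_e : ∀ i < 7, (dent c4tl4 c4th_P (nat_lit 351)) i = 0 := allZ_sound0 c4tl4_e_0
theorem c4tl4_ok : DOK c4tl4 c4th_P 351 := ⟨c4tl4_h, c4tl4_e⟩
theorem c4tl5_e : ∀ i < 2, (dent c4tl5 c4th_P (nat_lit 351)) i = 0 := allZ_sound0 c4tl5_e_0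
theorem c4tl5_ok : DOK c4tl5 c4th_P 351 := ⟨c4tl5_h, c4tl5_e⟩
theorem c4tl6_e : ∀ i < 1, (dent c4tl6 c4th_P (nat_lit 351)) i = 0 := allZ_sound0 c4tl6_e_0
theorem c4tl6_ok : DOK c4tl6 c4th_P 351 := ⟨c4tl6_h, c4tl6_e⟩
theorem c4tl7_e : ∀ i < 1, (dent c4tl7 c4th_P (nat_lit 351)) i = 0 := allZ_sound0 c4tl7_e_0
theorem c4tl7_ok : DOK c4tl7 c4th_P 351 := ⟨c4tl7_h, c4tl7_e⟩
theorem c4tl8_e : ∀ i < 1, (dent c4tl8 c4th_P (nat_lit 351)) i = 0 := allZ_sound0 c4tl8_e_0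
theorem c4tl8_ok : DOK c4tl8 c4th_P 351 := ⟨c4tl8_h, c4tl8_e⟩
theorem c4t_low {G Ω : Type*} [Group G] [MulAction G Ω] {g : ℕ → G} {pt : ℕ → Ω}
    (M : Md g pt H16.O73.P 351 7 H16.O73.B 4585351680) : SLow (gi (wds g c4th_W)) pt 351 [c4tl0, c4tl1, c4tl2, c4tl3, c4tl4, c4tl5, c4tl6, c4tl7, c4tl8] :=
  (((((((((SLow.nil).cons c4tl8_ok (c4th_act M) c4t_f8).cons c4tl7_ok (c4th_act M) c4t_f7).cons c4tl6_ok (c4th_act M) c4t_f6).cons c4tl5_ok (c4th_act M) c4t_f5).cons c4tl4_ok (c4th_act M) c4t_f4).cons c4tl3_ok (c4th_act M) c4t_f3).cons c4tl2_ok (c4th_act M) c4t_f2).cons c4tl1_ok (c4th_act M) c4t_f1).cons c4tl0_ok (c4th_act M) c4t_f0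
theorem c4t_S0 {G Ω : Type*} [Group G] [MulAction G Ω] {g : ℕ → G} {pt : ℕ → Ω}
    (M : Md g pt H16.O73.P 351 7 H16.O73.B 4585351680) : Stage ⊤ (wds g c4th_W) pt 351 [c4tl0, c4tl1, c4tl2, c4tl3, c4tl4, c4tl5, c4tl6, c4tl7, c4tl8] [] :=
  M.stage (c4t_low M) c4t_c
theorem c4t_S1 {G Ω : Type*} [Group G] [MulAction G Ω] {g : ℕ → G} {pt : ℕ → Ω}
    (M : Md g pt H16.O73.P 351 7 H16.O73.B 4585351680) : Stage ⊤ (wds g c4th_W) pt 351 [c4tl1, c4tl2, c4tl3, c4tl4, c4tl5, c4tl6, c4tl7, c4tl8] [c4tl0.Pt 0] :=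
  (c4t_S0 M).next
theorem c4t_S2 {G Ω : Type*} [Group G] [MulAction G Ω] {g : ℕ → G} {pt : ℕ → Ω}
    (M : Md g pt H16.O73.P 351 7 H16.O73.B 4585351680) : Stage ⊤ (wds g c4th_W) pt 351 [c4tl2, c4tl3, c4tl4, c4tl5, c4tl6, c4tl7, c4tl8] [c4tl1.Pt 0, c4tl0.Pt 0] :=
  (c4t_S1 M).next
theorem c4t_S3 {G Ω : Type*} [Group G] [MulAction G Ω] {g : ℕ → G} {pt : ℕ → Ω}
    (M : Md g pt H16.O73.P 351 7 H16.O73.B 4585351680) : Stage ⊤ (wds g c4th_W) pt 351 [c4tl3, c4tl4, c4tl5, c4tl6, c4tl7, c4tl8] [c4tl2.Pt 0, c4tl1.Pt 0, c4tl0.Pt 0] :=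
  (c4t_S2 M).next
theorem c4t_S4 {G Ω : Type*} [Group G] [MulAction G Ω] {g : ℕ → G} {pt : ℕ → Ω}
    (M : Md g pt H16.O73.P 351 7 H16.O73.B 4585351680) : Stage ⊤ (wds g c4th_W) pt 351 [c4tl4, c4tl5, c4tl6, c4tl7, c4tl8] [c4tl3.Pt 0, c4tl2.Pt 0, c4tl1.Pt 0, c4tl0.Pt 0] :=
  (c4t_S3 M).next
theorem c4t_S5 {G Ω : Type*} [Group G] [MulAction G Ω] {g : ℕ → G} {pt : ℕ → Ω}
    (M : Md g pt H16.O73.P 351 7 H16.O73.B 4585351680) : Stage ⊤ (wds g c4th_W) pt 351 [c4tl5, c4tl6, c4tl7, c4tl8] [c4tl4.Pt 0, c4tl3.Pt 0, c4tl2.Pt 0, c4tl1.Pt 0, c4tl0.Pt 0] :=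
  (c4t_S4 M).next
theorem c4t_S6 {G Ω : Type*} [Group G] [MulAction G Ω] {g : ℕ → G} {pt : ℕ → Ω}
    (M : Md g pt H16.O73.P 351 7 H16.O73.B 4585351680) : Stage ⊤ (wds g c4th_W) pt 351 [c4tl6, c4tl7, c4tl8] [c4tl5.Pt 0, c4tl4.Pt 0, c4tl3.Pt 0, c4tl2.Pt 0, c4tl1.Pt 0, c4tl0.Pt 0] :=
  (c4t_S5 M).next
theorem c4t_S7 {G Ω : Type*} [Group G] [MulAction G Ω] {g : ℕ → G} {pt : ℕ → Ω}
    (M : Md g pt H16.O73.P 351 7 H16.O73.B 4585351680) : Stage ⊤ (wds g c4th_W) pt 351 [c4tl7, c4tl8] [c4tl6.Pt 0, c4tl5.Pt 0, c4tl4.Pt 0, c4tl3.Pt 0, c4tl2.Pt 0, c4tl1.Pt 0, c4tl0.Pt 0] :=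
  (c4t_S6 M).next
theorem c4t_S8 {G Ω : Type*} [Group G] [MulAction G Ω] {g : ℕ → G} {pt : ℕ → Ω}
    (M : Md g pt H16.O73.P 351 7 H16.O73.B 4585351680) : Stage ⊤ (wds g c4th_W) pt 351 [c4tl8] [c4tl7.Pt 0, c4tl6.Pt 0, c4tl5.Pt 0, c4tl4.Pt 0, c4tl3.Pt 0, c4tl2.Pt 0, c4tl1.Pt 0, c4tl0.Pt 0] :=
  (c4t_S7 M).next
theorem c4t_S9 {G Ω : Type*} [Group G] [MulAction G Ω] {g : ℕ → G} {pt : ℕ → Ω}
    (M : Md g pt H16.O73.P 351 7 H16.O73.B 4585351680) : Stage ⊤ (wds g c4th_W) pt 351 [] [c4tl8.Pt 0, c4tl7.Pt 0, c4tl6.Pt 0, c4tl5.Pt 0, c4tl4.Pt 0, c4tl3.Pt 0, c4tl2.Pt 0, c4tl1.Pt 0, c4tl0.Pt 0] :=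
  (c4t_S8 M).next
theorem c4ce_act {G Ω : Type*} [Group G] [MulAction G Ω] {g : ℕ → G} {pt : ℕ → Ω}
    (M : Md g pt H16.O73.P 351 7 H16.O73.B 4585351680) : Act (wds g c4ce_W) pt c4ce_P 351 9 :=
  M.wact c4ce_lt
theorem c4cc6_e : ∀ i < 1, (dent c4cc6 c4ce_P (nat_lit 351)) i = 0 := allZ_sound0 c4cc6_e_0
theorem c4cc6_ok : DOK c4cc6 c4ce_P 351 := ⟨c4cc6_h, c4cc6_e⟩
theorem c4tn0_1 : ∀ i < 2, (c4tn0.ent H16.O73.P c4th_P c4x_P c4x_P c4ce_P (nat_lit 7) (nat_lit 1) H16.O73.B c4tl6 [c4tl7, c4tl8] (memO c4cc6)) i = 0 := allZ_sound0 c4tn0_1_0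
theorem c4tn0_t {G Ω : Type*} [Group G] [MulAction G Ω] {g : ℕ → G} {pt : ℕ → Ω}
    (M : Md g pt H16.O73.P 351 7 H16.O73.B 4585351680) : TrO (gen (wds g c4th_W) c4tl6.K) (wds g c4x_W) (wds g c4x_W) 1 pt 351 (c4tl6.Pt 0) (memO c4cc6) :=
  node M (c4t_S6 M) (c4th_act M) (c4x_act M) (c4x_act M) c4tn0 ((c4ce_act M).mono (by decide)) (fun _ _ => trivial) c4tn0_0 c4tn0_1 (List.forall_mem_nil _)
theorem c4cc3_e : ∀ i < 8, (dent c4cc3 c4ce_P (nat_lit 351)) i = 0 := allZ_sound0 c4cc3_e_0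
theorem c4cc3_ok : DOK c4cc3 c4ce_P 351 := ⟨c4cc3_h, c4cc3_e⟩
theorem c4tn1_1 : ∀ i < 12, (c4tn1.ent H16.O73.P c4th_P c4x_P c4x_P c4ce_P (nat_lit 7) (nat_lit 1) H16.O73.B c4tl3 [c4tl4, c4tl5, c4tl6, c4tl7, c4tl8] (memO c4cc3)) i = 0 := allZ_sound0 c4tn1_1_0
theorem c4tn1_t {G Ω : Type*} [Group G] [MulAction G Ω] {g : ℕ → G} {pt : ℕ → Ω}
    (M : Md g pt H16.O73.P 351 7 H16.O73.B 4585351680) : TrO (gen (wds g c4th_W) c4tl3.K) (wds g c4x_W) (wds g c4x_W) 1 pt 351 (c4tl3.Pt 0) (memO c4cc3) :=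
  node M (c4t_S3 M) (c4th_act M) (c4x_act M) (c4x_act M) c4tn1 ((c4ce_act M).mono (by decide)) (fun _ _ => trivial) c4tn1_0 c4tn1_1 (List.forall_mem_nil _)
theorem c4cc0_e : ∀ i < 80, (dent c4cc0 c4ce_P (nat_lit 351)) i = 0 := allZ_sound0 c4cc0_e_0
theorem c4cc0_ok : DOK c4cc0 c4ce_P 351 := ⟨c4cc0_h, c4cc0_e⟩
theorem c4tn2_1 : ∀ i < 351, (c4tn2.ent H16.O73.P c4th_P c4x_P c4x_P c4ce_P (nat_lit 7) (nat_lit 1) H16.O73.B c4tl0 [c4tl1, c4tl2, c4tl3, c4tl4, c4tl5, c4tl6, c4tl7, c4tl8] (memO c4cc0)) i = 0 := allZ_sound0 c4tn2_1_0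
theorem c4tn2_t {G Ω : Type*} [Group G] [MulAction G Ω] {g : ℕ → G} {pt : ℕ → Ω}
    (M : Md g pt H16.O73.P 351 7 H16.O73.B 4585351680) : TrO (gen (wds g c4th_W) c4tl0.K) (wds g c4x_W) (wds g c4x_W) 1 pt 351 (c4tl0.Pt 0) (memO c4cc0) :=
  node M (c4t_S0 M) (c4th_act M) (c4x_act M) (c4x_act M) c4tn2 ((c4ce_act M).mono (by decide)) (fun _ _ => trivial) c4tn2_0 c4tn2_1 (List.forall_mem_nil _)
theorem c4c {G Ω : Type*} [Group G] [MulAction G Ω] {g : ℕ → G} {pt : ℕ → Ω}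
    (M : Md g pt H16.O73.P 351 7 H16.O73.B 4585351680) : Cen ⊤ (wds g c4x_W) 1 (wds g c4ce_W) pt 351 [c4cc0, c4cc3, c4cc6] :=
  (c4t_S0 M).top ▸ Cen.lev M (c4t_S0 M) (Cen.triv (c4t_S1 M) (Cen.triv (c4t_S2 M) (Cen.lev M (c4t_S3 M) (Cen.triv (c4t_S4 M) (Cen.triv (c4t_S5 M) (Cen.lev M (c4t_S6 M) (Cen.triv (c4t_S7 M) (Cen.triv (c4t_S8 M) (Cen.bot) (forced (c4t_S8 M) (c4th_act M) (c4x_act M) _ _ c4c_f8)) (forced (c4t_S7 M) (c4th_act M) (c4x_act M) _ _ c4c_f7)) (c4tn0_t M) (c4x_act M) (c4ce_act M) (fun _ _ => trivial) c4cc6_ok c4c_f6) (forced (c4t_S5 M) (c4th_act M) (c4x_act M) _ _ c4c_f5)) (forced (c4t_S4 M) (c4th_act M) (c4x_act M) _ _ c4c_f4)) (c4tn1_t M) (c4x_act M) (c4ce_act M) (fun _ _ => trivial) c4cc3_ok c4c_f3) (forced (c4t_S2 M) (c4th_act M) (c4x_act M) _ _ c4c_f2)) (forced (c4t_S1 M) (c4th_act M) (c4x_act M) _ _ c4c_f1)) (c4tn2_t M) (c4x_act M) (c4ce_act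 M) (fun _ _ => trivial) c4cc0_ok c4c_f0
theorem c4c_card {G Ω : Type*} [Group G] [MulAction G Ω] {g : ℕ → G} {pt : ℕ → Ω}
    (M : Md g pt H16.O73.P 351 7 H16.O73.B 4585351680) : Nat.card (Subgroup.centralizer {(wds g c4x_W) 0}) = 1458 :=
  (c4c M).card_cent1 M.inj c4c_c.1
theorem c4c_eq {G Ω : Type*} [Group G] [MulAction G Ω] {g : ℕ → G} {pt : ℕ → Ω}
    (M : Md g pt H16.O73.P 351 7 H16.O73.B 4585351680) : Subgroup.centralizer (gen (wds g c4x_W) 1) = gen (wds g c4ce_W) 9 ∧ Nat.card (gen (wds g c4ce_W) 9) = 1458 :=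
  c4c_c.1 ▸ c4c_c.2 ▸ ⟨(c4c M).cent, (c4c M).card M.inj⟩
theorem c4 {G Ω : Type*} [Group G] [MulAction G Ω] {g : ℕ → G} {pt : ℕ → Ω}
    (M : Md g pt H16.O73.P 351 7 H16.O73.B 4585351680) : Nat.card (Subgroup.centralizer {(wds g covr_W) 4}) = 1458 :=
  c4c_card M
theorem p5 {G Ω : Type*} [Group G] [MulAction G Ω] {g : ℕ → G} {pt : ℕ → Ω}
    (M : Md g pt H16.O73.P 351 7 H16.O73.B 4585351680) : (wds g covr_W) 5 ^ 3 = 1 :=
  M.pw (covr_act M) p5_k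
theorem n5 {G Ω : Type*} [Group G] [MulAction G Ω] {g : ℕ → G} {pt : ℕ → Ω}
    (M : Md g pt H16.O73.P 351 7 H16.O73.B 4585351680) : (wds g covr_W) 5 ^ 1 ≠ 1 :=
  M.npw (covr_act M) _ n5_k
theorem c5x_act {G Ω : Type*} [Group G] [MulAction G Ω] {g : ℕ → G} {pt : ℕ → Ω}
    (M : Md g pt H16.O73.P 351 7 H16.O73.B 4585351680) : Act (wds g c5x_W) pt c5x_P 351 1 :=
  M.wact c5x_lt
theorem c5th_act {G Ω : Type*} [Group G] [MulAction G Ω] {g : ℕ → G} {pt : ℕ → Ω}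
    (M : Md g pt H16.O73.P 351 7 H16.O73.B 4585351680) : Act (wds g c5th_W) pt c5th_P 351 18 :=
  M.wact c5th_lt
theorem c5tl0_e : ∀ i < 350, (dent c5tl0 c5th_P (nat_lit 351)) i = 0 := allZ_sound0 c5tl0_e_0
theorem c5tl0_ok : DOK c5tl0 c5th_P 351 := ⟨c5tl0_h, c5tl0_e⟩
theorem c5tl1_e : ∀ i < 223, (dent c5tl1 c5th_P (nat_lit 351)) i = 0 := allZ_sound0 c5tl1_e_0
theorem c5tl1_ok : DOK c5tl1 c5th_P 351 := ⟨c5tl1_h, c5tl1_e⟩
theorem c5tl2_e : ∀ i < 44, (dent c5tl2 c5th_P (nat_lit 351)) i = 0 := allZ_sound0 c5tl2_e_0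
theorem c5tl2_ok : DOK c5tl2 c5th_P 351 := ⟨c5tl2_h, c5tl2_e⟩
theorem c5tl3_e : ∀ i < 23, (dent c5tl3 c5th_P (nat_lit 351)) i = 0 := allZ_sound0 c5tl3_e_0
theorem c5tl3_ok : DOK c5tl3 c5th_P 351 := ⟨c5tl3_h, c5tl3_e⟩
theorem c5tl4_e : ∀ i < 8, (dent c5tl4 c5th_P (nat_lit 351)) i = 0 := allZ_sound0 c5tl4_e_0
theorem c5tl4_ok : DOK c5tl4 c5th_P 351 := ⟨c5tl4_h, c5tl4_e⟩
theorem c5tl5_e : ∀ i < 5, (dent c5tl5 c5th_P (nat_lit 351)) i = 0 := allZ_sound0 c5tl5_e_0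
theorem c5tl5_ok : DOK c5tl5 c5th_P 351 := ⟨c5tl5_h, c5tl5_e⟩
theorem c5t_low {G Ω : Type*} [Group G] [MulAction G Ω] {g : ℕ → G} {pt : ℕ → Ω}
    (M : Md g pt H16.O73.P 351 7 H16.O73.B 4585351680) : SLow (gi (wds g c5th_W)) pt 351 [c5tl0, c5tl1, c5tl2, c5tl3, c5tl4, c5tl5] :=
  ((((((SLow.nil).cons c5tl5_ok (c5th_act M) c5t_f5).cons c5tl4_ok (c5th_act M) c5t_f4).cons c5tl3_ok (c5th_act M) c5t_f3).cons c5tl2_ok (c5th_act M) c5t_f2).cons c5tl1_ok (c5th_act M) c5t_f1).cons c5tl0_ok (c5th_act M) c5t_f0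
theorem c5t_S0 {G Ω : Type*} [Group G] [MulAction G Ω] {g : ℕ → G} {pt : ℕ → Ω}
    (M : Md g pt H16.O73.P 351 7 H16.O73.B 4585351680) : Stage ⊤ (wds g c5th_W) pt 351 [c5tl0, c5tl1, c5tl2, c5tl3, c5tl4, c5tl5] [] :=
  M.stage (c5t_low M) c5t_c
theorem c5t_S1 {G Ω : Type*} [Group G] [MulAction G Ω] {g : ℕ → G} {pt : ℕ → Ω}
    (M : Md g pt H16.O73.P 351 7 H16.O73.B 4585351680) : Stage ⊤ (wds g c5th_W) pt 351 [c5tl1, c5tl2, c5tl3, c5tl4, c5tl5] [c5tl0.Pt 0] :=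
  (c5t_S0 M).next
theorem c5t_S2 {G Ω : Type*} [Group G] [MulAction G Ω] {g : ℕ → G} {pt : ℕ → Ω}
    (M : Md g pt H16.O73.P 351 7 H16.O73.B 4585351680) : Stage ⊤ (wds g c5th_W) pt 351 [c5tl2, c5tl3, c5tl4, c5tl5] [c5tl1.Pt 0, c5tl0.Pt 0] :=
  (c5t_S1 M).next
theorem c5t_S3 {G Ω : Type*} [Group G] [MulAction G Ω] {g : ℕ → G} {pt : ℕ → Ω}
    (M : Md g pt H16.O73.P 351 7 H16.O73.B 4585351680) : Stage ⊤ (wds g c5th_W) pt 351 [c5tl3, c5tl4, c5tl5] [c5tl2.Pt 0, c5tl1.Pt 0, c5tl0.Pt 0] :=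
  (c5t_S2 M).next
theorem c5t_S4 {G Ω : Type*} [Group G] [MulAction G Ω] {g : ℕ → G} {pt : ℕ → Ω}
    (M : Md g pt H16.O73.P 351 7 H16.O73.B 4585351680) : Stage ⊤ (wds g c5th_W) pt 351 [c5tl4, c5tl5] [c5tl3.Pt 0, c5tl2.Pt 0, c5tl1.Pt 0, c5tl0.Pt 0] :=
  (c5t_S3 M).next
theorem c5t_S5 {G Ω : Type*} [Group G] [MulAction G Ω] {g : ℕ → G} {pt : ℕ → Ω}
    (M : Md g pt H16.O73.P 351 7 H16.O73.B 4585351680) : Stage ⊤ (wds g c5th_W) pt 351 [c5tl5] [c5tl4.Pt 0, c5tl3.Pt 0, c5tl2.Pt 0, c5tl1.Pt 0, c5tl0.Pt 0] :=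
  (c5t_S4 M).next
theorem c5t_S6 {G Ω : Type*} [Group G] [MulAction G Ω] {g : ℕ → G} {pt : ℕ → Ω}
    (M : Md g pt H16.O73.P 351 7 H16.O73.B 4585351680) : Stage ⊤ (wds g c5th_W) pt 351 [] [c5tl5.Pt 0, c5tl4.Pt 0, c5tl3.Pt 0, c5tl2.Pt 0, c5tl1.Pt 0, c5tl0.Pt 0] :=
  (c5t_S5 M).next
theorem c5ce_act {G Ω : Type*} [Group G] [MulAction G Ω] {g : ℕ → G} {pt : ℕ → Ω}
    (M : Md g pt H16.O73.P 351 7 H16.O73.B 4585351680) : Act (wds g c5ce_W) pt c5ce_P 351 8 :=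
  M.wact c5ce_lt
theorem c5cc4_e : ∀ i < 8, (dent c5cc4 c5ce_P (nat_lit 351)) i = 0 := allZ_sound0 c5cc4_e_0
theorem c5cc4_ok : DOK c5cc4 c5ce_P 351 := ⟨c5cc4_h, c5cc4_e⟩
theorem c5tn0_1 : ∀ i < 9, (c5tn0.ent H16.O73.P c5th_P c5x_P c5x_P c5ce_P (nat_lit 7) (nat_lit 1) H16.O73.B c5tl4 [c5tl5] (memO c5cc4)) i = 0 := allZ_sound0 c5tn0_1_0
theorem c5tn0_t {G Ω : Type*} [Group G] [MulAction G Ω] {g : ℕ → G} {pt : ℕ → Ω}
    (M : Md g pt H16.O73.P 351 7 H16.O73.B 4585351680) : TrO (gen (wds g c5th_W) c5tl4.K) (wds g c5x_W) (wds g c5x_W) 1 pt 351 (c5tl4.Pt 0) (memO c5cc4) :=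
  node M (c5t_S4 M) (c5th_act M) (c5x_act M) (c5x_act M) c5tn0 ((c5ce_act M).mono (by decide)) (fun _ _ => trivial) c5tn0_0 c5tn0_1 (List.forall_mem_nil _)
theorem c5cc2_e : ∀ i < 8, (dent c5cc2 c5ce_P (nat_lit 351)) i = 0 := allZ_sound0 c5cc2_e_0
theorem c5cc2_ok : DOK c5cc2 c5ce_P 351 := ⟨c5cc2_h, c5cc2_e⟩
theorem c5tn1_1 : ∀ i < 45, (c5tn1.ent H16.O73.P c5th_P c5x_P c5x_P c5ce_P (nat_lit 7) (nat_lit 1) H16.O73.B c5tl2 [c5tl3, c5tl4, c5tl5] (memO c5cc2)) i = 0 := allZ_sound0 c5tn1_1_0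
theorem c5tn1_t {G Ω : Type*} [Group G] [MulAction G Ω] {g : ℕ → G} {pt : ℕ → Ω}
    (M : Md g pt H16.O73.P 351 7 H16.O73.B 4585351680) : TrO (gen (wds g c5th_W) c5tl2.K) (wds g c5x_W) (wds g c5x_W) 1 pt 351 (c5tl2.Pt 0) (memO c5cc2) :=
  node M (c5t_S2 M) (c5th_act M) (c5x_act M) (c5x_act M) c5tn1 ((c5ce_act M).mono (by decide)) (fun _ _ => trivial) c5tn1_0 c5tn1_1 (List.forall_mem_nil _)
theorem c5cc1_e : ∀ i < 3, (dent c5cc1 c5ce_P (nat_lit 351)) i = 0 := allZ_sound0 c5cc1_e_0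
theorem c5cc1_ok : DOK c5cc1 c5ce_P 351 := ⟨c5cc1_h, c5cc1_e⟩
theorem c5tn2y122_act {G Ω : Type*} [Group G] [MulAction G Ω] {g : ℕ → G} {pt : ℕ → Ω}
    (M : Md g pt H16.O73.P 351 7 H16.O73.B 4585351680) : Act (wds g c5tn2y122_W) pt c5tn2y122_P 351 1 :=
  M.wact c5tn2y122_lt
theorem c5tr3k_act {G Ω : Type*} [Group G] [MulAction G Ω] {g : ℕ → G} {pt : ℕ → Ω}
    (M : Md g pt H16.O73.P 351 7 H16.O73.B 4585351680) : Act (wds g c5tr3k_W) pt c5tr3k_P 351 3 :=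
  M.wact c5tr3k_lt
theorem c5tn3y5_act {G Ω : Type*} [Group G] [MulAction G Ω] {g : ℕ → G} {pt : ℕ → Ω}
    (M : Md g pt H16.O73.P 351 7 H16.O73.B 4585351680) : Act (wds g c5tn3y5_W) pt c5tn3y5_P 351 1 :=
  M.wact c5tn3y5_lt
theorem c5tr4k_act {G Ω : Type*} [Group G] [MulAction G Ω] {g : ℕ → G} {pt : ℕ → Ω}
    (M : Md g pt H16.O73.P 351 7 H16.O73.B 4585351680) : Act (wds g c5tr4k_W) pt c5tr4k_P 351 2 :=
  M.wact c5tr4k_lt
theorem c5tn4_1 : ∀ i < 9, (c5tn4.ent H16.O73.P c5th_P c5x_P c5tn3y5_P c5tr4k_P (nat_lit 7) (nat_lit 1) H16.O73.B c5tl4 [c5tl5] (fun _ => nat_lit 1)) i = 0 := allZ_sound0 c5tn4_1_0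
theorem c5tn4_t {G Ω : Type*} [Group G] [MulAction G Ω] {g : ℕ → G} {pt : ℕ → Ω}
    (M : Md g pt H16.O73.P 351 7 H16.O73.B 4585351680) : TrO (gen (wds g c5th_W) c5tl4.K) (wds g c5x_W) (wds g c5tn3y5_W) 1 pt 351 (c5tl4.Pt 0) (fun _ => nat_lit 1) :=
  node M (c5t_S4 M) (c5th_act M) (c5x_act M) (c5tn3y5_act M) c5tn4 ((c5tr4k_act M).mono (by decide)) (fun _ _ => trivial) c5tn4_0 c5tn4_1 (List.forall_mem_nil _)
theorem c5tr4 {G Ω : Type*} [Group G] [MulAction G Ω] {g : ℕ → G} {pt : ℕ → Ω}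
    (M : Md g pt H16.O73.P 351 7 H16.O73.B 4585351680) : Ref (gen (wds g c5th_W) (topK [c5tl4, c5tl5])) (wds g c5x_W) (wds g c5tn3y5_W) 1 :=
  (c5tn4_t M).ref
theorem c5tn3_1 : ∀ i < 45, (c5tn3.ent H16.O73.P c5th_P c5x_P c5tn2y122_P c5tr3k_P (nat_lit 7) (nat_lit 1) H16.O73.B c5tl2 [c5tl3, c5tl4, c5tl5] (fun _ => nat_lit 1)) i = 0 := allZ_sound0 c5tn3_1_0
theorem c5tn3_t {G Ω : Type*} [Group G] [MulAction G Ω] {g : ℕ → G} {pt : ℕ → Ω}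
    (M : Md g pt H16.O73.P 351 7 H16.O73.B 4585351680) : TrO (gen (wds g c5th_W) c5tl2.K) (wds g c5x_W) (wds g c5tn2y122_W) 1 pt 351 (c5tl2.Pt 0) (fun _ => nat_lit 1) :=
  node M (c5t_S2 M) (c5th_act M) (c5x_act M) (c5tn2y122_act M) c5tn3 ((c5tr3k_act M).mono (by decide)) (fun _ _ => trivial) c5tn3_0 c5tn3_1 (List.forall_mem_cons.2 ⟨c5tr4 M, List.forall_mem_nil _⟩)
theorem c5tr3 {G Ω : Type*} [Group G] [MulAction G Ω] {g : ℕ → G} {pt : ℕ → Ω}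
    (M : Md g pt H16.O73.P 351 7 H16.O73.B 4585351680) : Ref (gen (wds g c5th_W) (topK [c5tl2, c5tl3, c5tl4, c5tl5])) (wds g c5x_W) (wds g c5tn2y122_W) 1 :=
  (c5tn3_t M).ref
theorem c5tn2y254_act {G Ω : Type*} [Group G] [MulAction G Ω] {g : ℕ → G} {pt : ℕ → Ω}
    (M : Md g pt H16.O73.P 351 7 H16.O73.B 4585351680) : Act (wds g c5tn2y254_W) pt c5tn2y254_P 351 1 :=
  M.wact c5tn2y254_lt
theorem c5tr5k_act {G Ω : Type*} [Group G] [MulAction G Ω] {g : ℕ → G} {pt : ℕ → Ω}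
    (M : Md g pt H16.O73.P 351 7 H16.O73.B 4585351680) : Act (wds g c5tr5k_W) pt c5tr5k_P 351 3 :=
  M.wact c5tr5k_lt
theorem c5tn5y5_act {G Ω : Type*} [Group G] [MulAction G Ω] {g : ℕ → G} {pt : ℕ → Ω}
    (M : Md g pt H16.O73.P 351 7 H16.O73.B 4585351680) : Act (wds g c5tn5y5_W) pt c5tn5y5_P 351 1 :=
  M.wact c5tn5y5_lt
theorem c5tr6k_act {G Ω : Type*} [Group G] [MulAction G Ω] {g : ℕ → G} {pt : ℕ → Ω}
    (M : Md g pt H16.O73.P 351 7 H16.O73.B 4585351680) : Act (wds g c5tr6k_W) pt c5tr6k_P 351 2 :=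
  M.wact c5tr6k_lt
theorem c5tn6_1 : ∀ i < 9, (c5tn6.ent H16.O73.P c5th_P c5x_P c5tn5y5_P c5tr6k_P (nat_lit 7) (nat_lit 1) H16.O73.B c5tl4 [c5tl5] (fun _ => nat_lit 1)) i = 0 := allZ_sound0 c5tn6_1_0
theorem c5tn6_t {G Ω : Type*} [Group G] [MulAction G Ω] {g : ℕ → G} {pt : ℕ → Ω}
    (M : Md g pt H16.O73.P 351 7 H16.O73.B 4585351680) : TrO (gen (wds g c5th_W) c5tl4.K) (wds g c5x_W) (wds g c5tn5y5_W) 1 pt 351 (c5tl4.Pt 0) (fun _ => nat_lit 1) :=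
  node M (c5t_S4 M) (c5th_act M) (c5x_act M) (c5tn5y5_act M) c5tn6 ((c5tr6k_act M).mono (by decide)) (fun _ _ => trivial) c5tn6_0 c5tn6_1 (List.forall_mem_nil _)
theorem c5tr6 {G Ω : Type*} [Group G] [MulAction G Ω] {g : ℕ → G} {pt : ℕ → Ω}
    (M : Md g pt H16.O73.P 351 7 H16.O73.B 4585351680) : Ref (gen (wds g c5th_W) (topK [c5tl4, c5tl5])) (wds g c5x_W) (wds g c5tn5y5_W) 1 :=
  (c5tn6_t M).ref
theorem c5tn5_1 : ∀ i < 45, (c5tn5.ent H16.O73.P c5th_P c5x_P c5tn2y254_P c5tr5k_P (nat_lit 7) (nat_lit 1) H16.O73.B c5tl2 [c5tl3, c5tl4, c5tl5] (fun _ => nat_lit 1)) i = 0 := allZ_sound0 c5tn5_1_0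
theorem c5tn5_t {G Ω : Type*} [Group G] [MulAction G Ω] {g : ℕ → G} {pt : ℕ → Ω}
    (M : Md g pt H16.O73.P 351 7 H16.O73.B 4585351680) : TrO (gen (wds g c5th_W) c5tl2.K) (wds g c5x_W) (wds g c5tn2y254_W) 1 pt 351 (c5tl2.Pt 0) (fun _ => nat_lit 1) :=
  node M (c5t_S2 M) (c5th_act M) (c5x_act M) (c5tn2y254_act M) c5tn5 ((c5tr5k_act M).mono (by decide)) (fun _ _ => trivial) c5tn5_0 c5tn5_1 (List.forall_mem_cons.2 ⟨c5tr6 M, List.forall_mem_nil _⟩)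
theorem c5tr5 {G Ω : Type*} [Group G] [MulAction G Ω] {g : ℕ → G} {pt : ℕ → Ω}
    (M : Md g pt H16.O73.P 351 7 H16.O73.B 4585351680) : Ref (gen (wds g c5th_W) (topK [c5tl2, c5tl3, c5tl4, c5tl5])) (wds g c5x_W) (wds g c5tn2y254_W) 1 :=
  (c5tn5_t M).ref
theorem c5tn2_1 : ∀ i < 224, (c5tn2.ent H16.O73.P c5th_P c5x_P c5x_P c5ce_P (nat_lit 7) (nat_lit 1) H16.O73.B c5tl1 [c5tl2, c5tl3, c5tl4, c5tl5] (memO c5cc1)) i = 0 := allZ_sound0 c5tn2_1_0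
theorem c5tn2_t {G Ω : Type*} [Group G] [MulAction G Ω] {g : ℕ → G} {pt : ℕ → Ω}
    (M : Md g pt H16.O73.P 351 7 H16.O73.B 4585351680) : TrO (gen (wds g c5th_W) c5tl1.K) (wds g c5x_W) (wds g c5x_W) 1 pt 351 (c5tl1.Pt 0) (memO c5cc1) :=
  node M (c5t_S1 M) (c5th_act M) (c5x_act M) (c5x_act M) c5tn2 ((c5ce_act M).mono (by decide)) (fun _ _ => trivial) c5tn2_0 c5tn2_1 (List.forall_mem_cons.2 ⟨c5tr3 M, List.forall_mem_cons.2 ⟨c5tr5 M, List.forall_mem_nil _⟩⟩)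
theorem c5cc0_e : ∀ i < 8, (dent c5cc0 c5ce_P (nat_lit 351)) i = 0 := allZ_sound0 c5cc0_e_0
theorem c5cc0_ok : DOK c5cc0 c5ce_P 351 := ⟨c5cc0_h, c5cc0_e⟩
theorem c5tn7_1 : ∀ i < 351, (c5tn7.ent H16.O73.P c5th_P c5x_P c5x_P c5ce_P (nat_lit 7) (nat_lit 1) H16.O73.B c5tl0 [c5tl1, c5tl2, c5tl3, c5tl4, c5tl5] (memO c5cc0)) i = 0 := allZ_sound0 c5tn7_1_0
theorem c5tn7_t {G Ω : Type*} [Group G] [MulAction G Ω] {g : ℕ → G} {pt : ℕ → Ω}
    (M : Md g pt H16.O73.P 351 7 H16.O73.B 4585351680) : TrO (gen (wds g c5th_W) c5tl0.K) (wds g c5x_W) (wds g c5x_W) 1 pt 351 (c5tl0.Pt 0) (memO c5cc0) :=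
  node M (c5t_S0 M) (c5th_act M) (c5x_act M) (c5x_act M) c5tn7 ((c5ce_act M).mono (by decide)) (fun _ _ => trivial) c5tn7_0 c5tn7_1 (List.forall_mem_nil _)
theorem c5c {G Ω : Type*} [Group G] [MulAction G Ω] {g : ℕ → G} {pt : ℕ → Ω}
    (M : Md g pt H16.O73.P 351 7 H16.O73.B 4585351680) : Cen ⊤ (wds g c5x_W) 1 (wds g c5ce_W) pt 351 [c5cc0, c5cc1, c5cc2, c5cc4] :=
  (c5t_S0 M).top ▸ Cen.lev M (c5t_S0 M) (Cen.lev M (c5t_S1 M) (Cen.lev M (c5t_S2 M) (Cen.triv (c5t_S3 M) (Cen.lev M (c5t_S4 M) (Cen.triv (c5t_S5 M) (Cen.bot) (forced (c5t_S5 M) (c5th_act M) (c5x_act M) _ _ c5c_f5)) (c5tn0_t M) (c5x_act M) (c5ce_act M) (fun _ _ => trivial) c5cc4_ok c5c_f4) (forced (c5t_S3 M) (c5th_act M) (c5x_act M) _ _ c5c_f3)) (c5tn1_t M) (c5x_act M) (c5ce_act M) (fun _ _ => trivial) c5cc2_ok c5c_f2) (c5tn2_t M) (c5x_act M) (c5ce_act M) (fun _ _ => trivial) c5cc1_ok c5c_f1) (c5tn7_t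 M) (c5x_act M) (c5ce_act M) (fun _ _ => trivial) c5cc0_ok c5c_f0
theorem c5c_card {G Ω : Type*} [Group G] [MulAction G Ω] {g : ℕ → G} {pt : ℕ → Ω}
    (M : Md g pt H16.O73.P 351 7 H16.O73.B 4585351680) : Nat.card (Subgroup.centralizer {(wds g c5x_W) 0}) = 2916 :=
  (c5c M).card_cent1 M.inj c5c_c.1
theorem c5c_eq {G Ω : Type*} [Group G] [MulAction G Ω] {g : ℕ → G} {pt : ℕ → Ω}
    (M : Md g pt H16.O73.P 351 7 H16.O73.B 4585351680) : Subgroup.centralizer (gen (wds g c5x_W) 1) = gen (wds g c5ce_W) 8 ∧ Nat.card (gen (wds g c5ce_W) 8) = 2916 :=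
  c5c_c.1 ▸ c5c_c.2 ▸ ⟨(c5c M).cent, (c5c M).card M.inj⟩
theorem c5 {G Ω : Type*} [Group G] [MulAction G Ω] {g : ℕ → G} {pt : ℕ → Ω}
    (M : Md g pt H16.O73.P 351 7 H16.O73.B 4585351680) : Nat.card (Subgroup.centralizer {(wds g covr_W) 5}) = 2916 :=
  c5c_card M
theorem p6 {G Ω : Type*} [Group G] [MulAction G Ω] {g : ℕ → G} {pt : ℕ → Ω}
    (M : Md g pt H16.O73.P 351 7 H16.O73.B 4585351680) : (wds g covr_W) 6 ^ 3 = 1 :=
  M.pw (covr_act M) p6_k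
theorem n6 {G Ω : Type*} [Group G] [MulAction G Ω] {g : ℕ → G} {pt : ℕ → Ω}
    (M : Md g pt H16.O73.P 351 7 H16.O73.B 4585351680) : (wds g covr_W) 6 ^ 1 ≠ 1 :=
  M.npw (covr_act M) _ n6_k
theorem c6x_act {G Ω : Type*} [Group G] [MulAction G Ω] {g : ℕ → G} {pt : ℕ → Ω}
    (M : Md g pt H16.O73.P 351 7 H16.O73.B 4585351680) : Act (wds g c6x_W) pt c6x_P 351 1 :=
  M.wact c6x_lt
theorem c6th_act {G Ω : Type*} [Group G] [MulAction G Ω] {g : ℕ → G} {pt : ℕ → Ω}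
    (M : Md g pt H16.O73.P 351 7 H16.O73.B 4585351680) : Act (wds g c6th_W) pt c6th_P 351 15 :=
  M.wact c6th_lt
theorem c6tl0_e : ∀ i < 350, (dent c6tl0 c6th_P (nat_lit 351)) i = 0 := allZ_sound0 c6tl0_e_0
theorem c6tl0_ok : DOK c6tl0 c6th_P 351 := ⟨c6tl0_h, c6tl0_e⟩
theorem c6tl1_e : ∀ i < 223, (dent c6tl1 c6th_P (nat_lit 351)) i = 0 := allZ_sound0 c6tl1_e_0
theorem c6tl1_ok : DOK c6tl1 c6th_P 351 := ⟨c6tl1_h, c6tl1_e⟩
theorem c6tl2_e : ∀ i < 44, (dent c6tl2 c6th_P (nat_lit 351)) i = 0 := allZ_sound0 c6tl2_e_0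
theorem c6tl2_ok : DOK c6tl2 c6th_P 351 := ⟨c6tl2_h, c6tl2_e⟩
theorem c6tl3_e : ∀ i < 1, (dent c6tl3 c6th_P (nat_lit 351)) i = 0 := allZ_sound0 c6tl3_e_0
theorem c6tl3_ok : DOK c6tl3 c6th_P 351 := ⟨c6tl3_h, c6tl3_e⟩
theorem c6tl4_e : ∀ i < 11, (dent c6tl4 c6th_P (nat_lit 351)) i = 0 := allZ_sound0 c6tl4_e_0
theorem c6tl4_ok : DOK c6tl4 c6th_P 351 := ⟨c6tl4_h, c6tl4_e⟩
theorem c6tl5_e : ∀ i < 8, (dent c6tl5 c6th_P (nat_lit 351)) i = 0 := allZ_sound0 c6tl5_e_0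
theorem c6tl5_ok : DOK c6tl5 c6th_P 351 := ⟨c6tl5_h, c6tl5_e⟩
theorem c6tl6_e : ∀ i < 2, (dent c6tl6 c6th_P (nat_lit 351)) i = 0 := allZ_sound0 c6tl6_e_0
theorem c6tl6_ok : DOK c6tl6 c6th_P 351 := ⟨c6tl6_h, c6tl6_e⟩
theorem c6tl7_e : ∀ i < 1, (dent c6tl7 c6th_P (nat_lit 351)) i = 0 := allZ_sound0 c6tl7_e_0
theorem c6tl7_ok : DOK c6tl7 c6th_P 351 := ⟨c6tl7_h, c6tl7_e⟩
theorem c6t_low {G Ω : Type*} [Group G] [MulAction G Ω] {g : ℕ → G} {pt : ℕ → Ω}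
    (M : Md g pt H16.O73.P 351 7 H16.O73.B 4585351680) : SLow (gi (wds g c6th_W)) pt 351 [c6tl0, c6tl1, c6tl2, c6tl3, c6tl4, c6tl5, c6tl6, c6tl7] :=
  ((((((((SLow.nil).cons c6tl7_ok (c6th_act M) c6t_f7).cons c6tl6_ok (c6th_act M) c6t_f6).cons c6tl5_ok (c6th_act M) c6t_f5).cons c6tl4_ok (c6th_act M) c6t_f4).cons c6tl3_ok (c6th_act M) c6t_f3).cons c6tl2_ok (c6th_act M) c6t_f2).cons c6tl1_ok (c6th_act M) c6t_f1).cons c6tl0_ok (c6th_act M) c6t_f0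
theorem c6t_S0 {G Ω : Type*} [Group G] [MulAction G Ω] {g : ℕ → G} {pt : ℕ → Ω}
    (M : Md g pt H16.O73.P 351 7 H16.O73.B 4585351680) : Stage ⊤ (wds g c6th_W) pt 351 [c6tl0, c6tl1, c6tl2, c6tl3, c6tl4, c6tl5, c6tl6, c6tl7] [] :=
  M.stage (c6t_low M) c6t_c
theorem c6t_S1 {G Ω : Type*} [Group G] [MulAction G Ω] {g : ℕ → G} {pt : ℕ → Ω}
    (M : Md g pt H16.O73.P 351 7 H16.O73.B 4585351680) : Stage ⊤ (wds g c6th_W) pt 351 [c6tl1, c6tl2, c6tl3, c6tl4, c6tl5, c6tl6, c6tl7] [c6tl0.Pt 0] :=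
  (c6t_S0 M).next
theorem c6t_S2 {G Ω : Type*} [Group G] [MulAction G Ω] {g : ℕ → G} {pt : ℕ → Ω}
    (M : Md g pt H16.O73.P 351 7 H16.O73.B 4585351680) : Stage ⊤ (wds g c6th_W) pt 351 [c6tl2, c6tl3, c6tl4, c6tl5, c6tl6, c6tl7] [c6tl1.Pt 0, c6tl0.Pt 0] :=
  (c6t_S1 M).next
theorem c6t_S3 {G Ω : Type*} [Group G] [MulAction G Ω] {g : ℕ → G} {pt : ℕ → Ω}
    (M : Md g pt H16.O73.P 351 7 H16.O73.B 4585351680) : Stage ⊤ (wds g c6th_W) pt 351 [c6tl3, c6tl4, c6tl5, c6tl6, c6tl7] [c6tl2.Pt 0, c6tl1.Pt 0, c6tl0.Pt 0] :=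
  (c6t_S2 M).next
theorem c6t_S4 {G Ω : Type*} [Group G] [MulAction G Ω] {g : ℕ → G} {pt : ℕ → Ω}
    (M : Md g pt H16.O73.P 351 7 H16.O73.B 4585351680) : Stage ⊤ (wds g c6th_W) pt 351 [c6tl4, c6tl5, c6tl6, c6tl7] [c6tl3.Pt 0, c6tl2.Pt 0, c6tl1.Pt 0, c6tl0.Pt 0] :=
  (c6t_S3 M).next
theorem c6t_S5 {G Ω : Type*} [Group G] [MulAction G Ω] {g : ℕ → G} {pt : ℕ → Ω}
    (M : Md g pt H16.O73.P 351 7 H16.O73.B 4585351680) : Stage ⊤ (wds g c6th_W) pt 351 [c6tl5, c6tl6, c6tl7] [c6tl4.Pt 0, c6tl3.Pt 0, c6tl2.Pt 0, c6tl1.Pt 0, c6tl0.Pt 0] :=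
  (c6t_S4 M).next
theorem c6t_S6 {G Ω : Type*} [Group G] [MulAction G Ω] {g : ℕ → G} {pt : ℕ → Ω}
    (M : Md g pt H16.O73.P 351 7 H16.O73.B 4585351680) : Stage ⊤ (wds g c6th_W) pt 351 [c6tl6, c6tl7] [c6tl5.Pt 0, c6tl4.Pt 0, c6tl3.Pt 0, c6tl2.Pt 0, c6tl1.Pt 0, c6tl0.Pt 0] :=
  (c6t_S5 M).next
theorem c6t_S7 {G Ω : Type*} [Group G] [MulAction G Ω] {g : ℕ → G} {pt : ℕ → Ω}
    (M : Md g pt H16.O73.P 351 7 H16.O73.B 4585351680) : Stage ⊤ (wds g c6th_W) pt 351 [c6tl7] [c6tl6.Pt 0, c6tl5.Pt 0, c6tl4.Pt 0, c6tl3.Pt 0, c6tl2.Pt 0, c6tl1.Pt 0, c6tl0.Pt 0] :=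
  (c6t_S6 M).next
theorem c6t_S8 {G Ω : Type*} [Group G] [MulAction G Ω] {g : ℕ → G} {pt : ℕ → Ω}
    (M : Md g pt H16.O73.P 351 7 H16.O73.B 4585351680) : Stage ⊤ (wds g c6th_W) pt 351 [] [c6tl7.Pt 0, c6tl6.Pt 0, c6tl5.Pt 0, c6tl4.Pt 0, c6tl3.Pt 0, c6tl2.Pt 0, c6tl1.Pt 0, c6tl0.Pt 0] :=
  (c6t_S7 M).next
theorem c6ce_act {G Ω : Type*} [Group G] [MulAction G Ω] {g : ℕ → G} {pt : ℕ → Ω}
    (M : Md g pt H16.O73.P 351 7 H16.O73.B 4585351680) : Act (wds g c6ce_W) pt c6ce_P 351 8 :=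
  M.wact c6ce_lt
theorem c6cc7_e : ∀ i < 1, (dent c6cc7 c6ce_P (nat_lit 351)) i = 0 := allZ_sound0 c6cc7_e_0
theorem c6cc7_ok : DOK c6cc7 c6ce_P 351 := ⟨c6cc7_h, c6cc7_e⟩
theorem c6tn0_1 : ∀ i < 2, (c6tn0.ent H16.O73.P c6th_P c6x_P c6x_P c6ce_P (nat_lit 7) (nat_lit 1) H16.O73.B c6tl7 [] (memO c6cc7)) i = 0 := allZ_sound0 c6tn0_1_0
theorem c6tn0_t {G Ω : Type*} [Group G] [MulAction G Ω] {g : ℕ → G} {pt : ℕ → Ω}
    (M : Md g pt H16.O73.P 351 7 H16.O73.B 4585351680) : TrO (gen (wds g c6th_W) c6tl7.K) (wds g c6x_W) (wds g c6x_W) 1 pt 351 (c6tl7.Pt 0) (memO c6cc7) :=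
  node M (c6t_S7 M) (c6th_act M) (c6x_act M) (c6x_act M) c6tn0 ((c6ce_act M).mono (by decide)) (fun _ _ => trivial) c6tn0_0 c6tn0_1 (List.forall_mem_nil _)
theorem c6cc6_e : ∀ i < 2, (dent c6cc6 c6ce_P (nat_lit 351)) i = 0 := allZ_sound0 c6cc6_e_0
theorem c6cc6_ok : DOK c6cc6 c6ce_P 351 := ⟨c6cc6_h, c6cc6_e⟩
theorem c6tn1_1 : ∀ i < 3, (c6tn1.ent H16.O73.P c6th_P c6x_P c6x_P c6ce_P (nat_lit 7) (nat_lit 1) H16.O73.B c6tl6 [c6tl7] (memO c6cc6)) i = 0 := allZ_sound0 c6tn1_1_0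
theorem c6tn1_t {G Ω : Type*} [Group G] [MulAction G Ω] {g : ℕ → G} {pt : ℕ → Ω}
    (M : Md g pt H16.O73.P 351 7 H16.O73.B 4585351680) : TrO (gen (wds g c6th_W) c6tl6.K) (wds g c6x_W) (wds g c6x_W) 1 pt 351 (c6tl6.Pt 0) (memO c6cc6) :=
  node M (c6t_S6 M) (c6th_act M) (c6x_act M) (c6x_act M) c6tn1 ((c6ce_act M).mono (by decide)) (fun _ _ => trivial) c6tn1_0 c6tn1_1 (List.forall_mem_nil _)
theorem c6cc5_e : ∀ i < 2, (dent c6cc5 c6ce_P (nat_lit 351)) i = 0 := allZ_sound0 c6cc5_e_0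
theorem c6cc5_ok : DOK c6cc5 c6ce_P 351 := ⟨c6cc5_h, c6cc5_e⟩
theorem c6tn2_1 : ∀ i < 9, (c6tn2.ent H16.O73.P c6th_P c6x_P c6x_P c6ce_P (nat_lit 7) (nat_lit 1) H16.O73.B c6tl5 [c6tl6, c6tl7] (memO c6cc5)) i = 0 := allZ_sound0 c6tn2_1_0
theorem c6tn2_t {G Ω : Type*} [Group G] [MulAction G Ω] {g : ℕ → G} {pt : ℕ → Ω}
    (M : Md g pt H16.O73.P 351 7 H16.O73.B 4585351680) : TrO (gen (wds g c6th_W) c6tl5.K) (wds g c6x_W) (wds g c6x_W) 1 pt 351 (c6tl5.Pt 0) (memO c6cc5) :=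
  node M (c6t_S5 M) (c6th_act M) (c6x_act M) (c6x_act M) c6tn2 ((c6ce_act M).mono (by decide)) (fun _ _ => trivial) c6tn2_0 c6tn2_1 (List.forall_mem_nil _)
theorem c6cc4_e : ∀ i < 5, (dent c6cc4 c6ce_P (nat_lit 351)) i = 0 := allZ_sound0 c6cc4_e_0
theorem c6cc4_ok : DOK c6cc4 c6ce_P 351 := ⟨c6cc4_h, c6cc4_e⟩
theorem c6tn3_1 : ∀ i < 12, (c6tn3.ent H16.O73.P c6th_P c6x_P c6x_P c6ce_P (nat_lit 7) (nat_lit 1) H16.O73.B c6tl4 [c6tl5, c6tl6, c6tl7] (memO c6cc4)) i = 0 := allZ_sound0 c6tn3_1_0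
theorem c6tn3_t {G Ω : Type*} [Group G] [MulAction G Ω] {g : ℕ → G} {pt : ℕ → Ω}
    (M : Md g pt H16.O73.P 351 7 H16.O73.B 4585351680) : TrO (gen (wds g c6th_W) c6tl4.K) (wds g c6x_W) (wds g c6x_W) 1 pt 351 (c6tl4.Pt 0) (memO c6cc4) :=
  node M (c6t_S4 M) (c6th_act M) (c6x_act M) (c6x_act M) c6tn3 ((c6ce_act M).mono (by decide)) (fun _ _ => trivial) c6tn3_0 c6tn3_1 (List.forall_mem_nil _)
theorem c6cc2_e : ∀ i < 26, (dent c6cc2 c6ce_P (nat_lit 351)) i = 0 := allZ_sound0 c6cc2_e_0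
theorem c6cc2_ok : DOK c6cc2 c6ce_P 351 := ⟨c6cc2_h, c6cc2_e⟩
theorem c6tn4_1 : ∀ i < 45, (c6tn4.ent H16.O73.P c6th_P c6x_P c6x_P c6ce_P (nat_lit 7) (nat_lit 1) H16.O73.B c6tl2 [c6tl3, c6tl4, c6tl5, c6tl6, c6tl7] (memO c6cc2)) i = 0 := allZ_sound0 c6tn4_1_0
theorem c6tn4_t {G Ω : Type*} [Group G] [MulAction G Ω] {g : ℕ → G} {pt : ℕ → Ω}
    (M : Md g pt H16.O73.P 351 7 H16.O73.B 4585351680) : TrO (gen (wds g c6th_W) c6tl2.K) (wds g c6x_W) (wds g c6x_W) 1 pt 351 (c6tl2.Pt 0) (memO c6cc2) :=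
  node M (c6t_S2 M) (c6th_act M) (c6x_act M) (c6x_act M) c6tn4 ((c6ce_act M).mono (by decide)) (fun _ _ => trivial) c6tn4_0 c6tn4_1 (List.forall_mem_nil _)
theorem c6cc0_e : ∀ i < 59, (dent c6cc0 c6ce_P (nat_lit 351)) i = 0 := allZ_sound0 c6cc0_e_0
theorem c6cc0_ok : DOK c6cc0 c6ce_P 351 := ⟨c6cc0_h, c6cc0_e⟩
theorem c6tn5y38_act {G Ω : Type*} [Group G] [MulAction G Ω] {g : ℕ → G} {pt : ℕ → Ω}
    (M : Md g pt H16.O73.P 351 7 H16.O73.B 4585351680) : Act (wds g c6tn5y38_W) pt c6tn5y38_P 351 1 :=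
  M.wact c6tn5y38_lt
theorem c6tr6k_act {G Ω : Type*} [Group G] [MulAction G Ω] {g : ℕ → G} {pt : ℕ → Ω}
    (M : Md g pt H16.O73.P 351 7 H16.O73.B 4585351680) : Act (wds g c6tr6k_W) pt c6tr6k_P 351 3 :=
  M.wact c6tr6k_lt
theorem c6tn6_1 : ∀ i < 45, (c6tn6.ent H16.O73.P c6th_P c6x_P c6tn5y38_P c6tr6k_P (nat_lit 7) (nat_lit 1) H16.O73.B c6tl2 [c6tl3, c6tl4, c6tl5, c6tl6, c6tl7] (fun _ => nat_lit 1)) i = 0 := allZ_sound0 c6tn6_1_0
theorem c6tn6_t {G Ω : Type*} [Group G] [MulAction G Ω] {g : ℕ → G} {pt : ℕ → Ω}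
    (M : Md g pt H16.O73.P 351 7 H16.O73.B 4585351680) : TrO (gen (wds g c6th_W) c6tl2.K) (wds g c6x_W) (wds g c6tn5y38_W) 1 pt 351 (c6tl2.Pt 0) (fun _ => nat_lit 1) :=
  node M (c6t_S2 M) (c6th_act M) (c6x_act M) (c6tn5y38_act M) c6tn6 ((c6tr6k_act M).mono (by decide)) (fun _ _ => trivial) c6tn6_0 c6tn6_1 (List.forall_mem_nil _)
theorem c6tr6 {G Ω : Type*} [Group G] [MulAction G Ω] {g : ℕ → G} {pt : ℕ → Ω}
    (M : Md g pt H16.O73.P 351 7 H16.O73.B 4585351680) : Ref (gen (wds g c6th_W) (topK [c6tl2, c6tl3, c6tl4, c6tl5, c6tl6, c6tl7])) (wds g c6x_W) (wds g c6tn5y38_W) 1 :=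
  (c6tn6_t M).ref
theorem c6tn5_1 : ∀ i < 351, (c6tn5.ent H16.O73.P c6th_P c6x_P c6x_P c6ce_P (nat_lit 7) (nat_lit 1) H16.O73.B c6tl0 [c6tl1, c6tl2, c6tl3, c6tl4, c6tl5, c6tl6, c6tl7] (memO c6cc0)) i = 0 := allZ_sound0 c6tn5_1_0
theorem c6tn5_t {G Ω : Type*} [Group G] [MulAction G Ω] {g : ℕ → G} {pt : ℕ → Ω}
    (M : Md g pt H16.O73.P 351 7 H16.O73.B 4585351680) : TrO (gen (wds g c6th_W) c6tl0.K) (wds g c6x_W) (wds g c6x_W) 1 pt 351 (c6tl0.Pt 0) (memO c6cc0) :=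
  node M (c6t_S0 M) (c6th_act M) (c6x_act M) (c6x_act M) c6tn5 ((c6ce_act M).mono (by decide)) (fun _ _ => trivial) c6tn5_0 c6tn5_1 (List.forall_mem_cons.2 ⟨c6tr6 M, List.forall_mem_nil _⟩)
theorem c6c {G Ω : Type*} [Group G] [MulAction G Ω] {g : ℕ → G} {pt : ℕ → Ω}
    (M : Md g pt H16.O73.P 351 7 H16.O73.B 4585351680) : Cen ⊤ (wds g c6x_W) 1 (wds g c6ce_W) pt 351 [c6cc0, c6cc2, c6cc4, c6cc5, c6cc6, c6cc7] :=
  (c6t_S0 M).top ▸ Cen.lev M (c6t_S0 M) (Cen.triv (c6t_S1 M) (Cen.lev M (c6t_S2 M) (Cen.triv (c6t_S3 M) (Cen.lev M (c6t_S4 M) (Cen.lev M (c6t_S5 M) (Cen.lev M (c6t_S6 M) (Cen.lev M (c6t_S7 M) (Cen.bot) (c6tn0_t M) (c6x_act M) (c6ce_act M) (fun _ _ => trivial) c6cc7_ok c6c_f7) (c6tn1_t M) (c6x_act M) (c6ce_act M) (fun _ _ => trivial) c6cc6_ok c6c_f6) (c6tn2_t M) (c6x_act M) (c6ce_act M) (fun _ _ => trivial) c6cc5_ok c6c_f5) (c6tn3_t M) (c6x_act M) (c6ce_act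 M) (fun _ _ => trivial) c6cc4_ok c6c_f4) (forced (c6t_S3 M) (c6th_act M) (c6x_act M) _ _ c6c_f3)) (c6tn4_t M) (c6x_act M) (c6ce_act M) (fun _ _ => trivial) c6cc2_ok c6c_f2) (forced (c6t_S1 M) (c6th_act M) (c6x_act M) _ _ c6c_f1)) (c6tn5_t M) (c6x_act M) (c6ce_act M) (fun _ _ => trivial) c6cc0_ok c6c_f0
theorem c6c_card {G Ω : Type*} [Group G] [MulAction G Ω] {g : ℕ → G} {pt : ℕ → Ω}
    (M : Md g pt H16.O73.P 351 7 H16.O73.B 4585351680) : Nat.card (Subgroup.centralizer {(wds g c6x_W) 0}) = 174960 :=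
  (c6c M).card_cent1 M.inj c6c_c.1
theorem c6c_eq {G Ω : Type*} [Group G] [MulAction G Ω] {g : ℕ → G} {pt : ℕ → Ω}
    (M : Md g pt H16.O73.P 351 7 H16.O73.B 4585351680) : Subgroup.centralizer (gen (wds g c6x_W) 1) = gen (wds g c6ce_W) 8 ∧ Nat.card (gen (wds g c6ce_W) 8) = 174960 :=
  c6c_c.1 ▸ c6c_c.2 ▸ ⟨(c6c M).cent, (c6c M).card M.inj⟩
theorem c6 {G Ω : Type*} [Group G] [MulAction G Ω] {g : ℕ → G} {pt : ℕ → Ω}
    (M : Md g pt H16.O73.P 351 7 H16.O73.B 4585351680) : Nat.card (Subgroup.centralizer {(wds g covr_W) 6}) = 174960 :=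
  c6c_card M
theorem y_act {G Ω : Type*} [Group G] [MulAction G Ω] {g : ℕ → G} {pt : ℕ → Ω}
    (M : Md g pt H16.O73.P 351 7 H16.O73.B 4585351680) : Act (wds g y_W) pt y_P 351 1 :=
  M.wact y_lt
theorem c2tr4k_act {G Ω : Type*} [Group G] [MulAction G Ω] {g : ℕ → G} {pt : ℕ → Ω}
    (M : Md g pt H16.O73.P 351 7 H16.O73.B 4585351680) : Act (wds g c2tr4k_W) pt c2tr4k_P 351 3 :=
  M.wact c2tr4k_lt
theorem c2tn4y0_act {G Ω : Type*} [Group G] [MulAction G Ω] {g : ℕ → G} {pt : ℕ → Ω}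
    (M : Md g pt H16.O73.P 351 7 H16.O73.B 4585351680) : Act (wds g c2tn4y0_W) pt c2tn4y0_P 351 1 :=
  M.wact c2tn4y0_lt
theorem c2tr5k_act {G Ω : Type*} [Group G] [MulAction G Ω] {g : ℕ → G} {pt : ℕ → Ω}
    (M : Md g pt H16.O73.P 351 7 H16.O73.B 4585351680) : Act (wds g c2tr5k_W) pt c2tr5k_P 351 3 :=
  M.wact c2tr5k_lt
theorem c2tn5y51_act {G Ω : Type*} [Group G] [MulAction G Ω] {g : ℕ → G} {pt : ℕ → Ω}
    (M : Md g pt H16.O73.P 351 7 H16.O73.B 4585351680) : Act (wds g c2tn5y51_W) pt c2tn5y51_P 351 1 :=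
  M.wact c2tn5y51_lt
theorem c2tr6k_act {G Ω : Type*} [Group G] [MulAction G Ω] {g : ℕ → G} {pt : ℕ → Ω}
    (M : Md g pt H16.O73.P 351 7 H16.O73.B 4585351680) : Act (wds g c2tr6k_W) pt c2tr6k_P 351 2 :=
  M.wact c2tr6k_lt
theorem c2tn6y136_act {G Ω : Type*} [Group G] [MulAction G Ω] {g : ℕ → G} {pt : ℕ → Ω}
    (M : Md g pt H16.O73.P 351 7 H16.O73.B 4585351680) : Act (wds g c2tn6y136_W) pt c2tn6y136_P 351 1 :=
  M.wact c2tn6y136_lt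
theorem c2tr7k_act {G Ω : Type*} [Group G] [MulAction G Ω] {g : ℕ → G} {pt : ℕ → Ω}
    (M : Md g pt H16.O73.P 351 7 H16.O73.B 4585351680) : Act (wds g c2tr7k_W) pt c2tr7k_P 351 2 :=
  M.wact c2tr7k_lt
theorem c2tn7_1 : ∀ i < 3, (c2tn7.ent H16.O73.P c2th_P c2x_P c2tn6y136_P c2tr7k_P (nat_lit 7) (nat_lit 1) H16.O73.B c2tl8 [] (fun _ => nat_lit 1)) i = 0 := allZ_sound0 c2tn7_1_0
theorem c2tn7_t {G Ω : Type*} [Group G] [MulAction G Ω] {g : ℕ → G} {pt : ℕ → Ω}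
    (M : Md g pt H16.O73.P 351 7 H16.O73.B 4585351680) : TrO (gen (wds g c2th_W) c2tl8.K) (wds g c2x_W) (wds g c2tn6y136_W) 1 pt 351 (c2tl8.Pt 0) (fun _ => nat_lit 1) :=
  node M (c2t_S8 M) (c2th_act M) (c2x_act M) (c2tn6y136_act M) c2tn7 ((c2tr7k_act M).mono (by decide)) (fun _ _ => trivial) c2tn7_0 c2tn7_1 (List.forall_mem_nil _)
theorem c2tr7 {G Ω : Type*} [Group G] [MulAction G Ω] {g : ℕ → G} {pt : ℕ → Ω}
    (M : Md g pt H16.O73.P 351 7 H16.O73.B 4585351680) : Ref (gen (wds g c2th_W) (topK [c2tl8])) (wds g c2x_W) (wds g c2tn6y136_W) 1 :=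
  (c2tn7_t M).ref
theorem c2tn6_1 : ∀ i < 2, (c2tn6.ent H16.O73.P c2th_P c2x_P c2tn5y51_P c2tr6k_P (nat_lit 7) (nat_lit 1) H16.O73.B c2tl5 [c2tl6, c2tl7, c2tl8] (fun _ => nat_lit 1)) i = 0 := allZ_sound0 c2tn6_1_0
theorem c2tn6_t {G Ω : Type*} [Group G] [MulAction G Ω] {g : ℕ → G} {pt : ℕ → Ω}
    (M : Md g pt H16.O73.P 351 7 H16.O73.B 4585351680) : TrO (gen (wds g c2th_W) c2tl5.K) (wds g c2x_W) (wds g c2tn5y51_W) 1 pt 351 (c2tl5.Pt 0) (fun _ => nat_lit 1) :=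
  node M (c2t_S5 M) (c2th_act M) (c2x_act M) (c2tn5y51_act M) c2tn6 ((c2tr6k_act M).mono (by decide)) (fun _ _ => trivial) c2tn6_0 c2tn6_1 (List.forall_mem_cons.2 ⟨c2tr7 M, List.forall_mem_nil _⟩)
theorem c2tr6 {G Ω : Type*} [Group G] [MulAction G Ω] {g : ℕ → G} {pt : ℕ → Ω}
    (M : Md g pt H16.O73.P 351 7 H16.O73.B 4585351680) : Ref (gen (wds g c2th_W) (topK [c2tl5, c2tl6, c2tl7, c2tl8])) (wds g c2x_W) (wds g c2tn5y51_W) 1 :=
  (c2tn6_t M).ref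
theorem c2tn5_1 : ∀ i < 45, (c2tn5.ent H16.O73.P c2th_P c2x_P c2tn4y0_P c2tr5k_P (nat_lit 7) (nat_lit 1) H16.O73.B c2tl2 [c2tl3, c2tl4, c2tl5, c2tl6, c2tl7, c2tl8] (fun _ => nat_lit 1)) i = 0 := allZ_sound0 c2tn5_1_0
theorem c2tn5_t {G Ω : Type*} [Group G] [MulAction G Ω] {g : ℕ → G} {pt : ℕ → Ω}
    (M : Md g pt H16.O73.P 351 7 H16.O73.B 4585351680) : TrO (gen (wds g c2th_W) c2tl2.K) (wds g c2x_W) (wds g c2tn4y0_W) 1 pt 351 (c2tl2.Pt 0) (fun _ => nat_lit 1) :=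
  node M (c2t_S2 M) (c2th_act M) (c2x_act M) (c2tn4y0_act M) c2tn5 ((c2tr5k_act M).mono (by decide)) (fun _ _ => trivial) c2tn5_0 c2tn5_1 (List.forall_mem_cons.2 ⟨c2tr6 M, List.forall_mem_nil _⟩)
theorem c2tr5 {G Ω : Type*} [Group G] [MulAction G Ω] {g : ℕ → G} {pt : ℕ → Ω}
    (M : Md g pt H16.O73.P 351 7 H16.O73.B 4585351680) : Ref (gen (wds g c2th_W) (topK [c2tl2, c2tl3, c2tl4, c2tl5, c2tl6, c2tl7, c2tl8])) (wds g c2x_W) (wds g c2tn4y0_W) 1 :=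
  (c2tn5_t M).ref
theorem c2tn4_1 : ∀ i < 351, (c2tn4.ent H16.O73.P c2th_P c2x_P y_P c2tr4k_P (nat_lit 7) (nat_lit 1) H16.O73.B c2tl0 [c2tl1, c2tl2, c2tl3, c2tl4, c2tl5, c2tl6, c2tl7, c2tl8] (fun _ => nat_lit 1)) i = 0 := allZ_sound0 c2tn4_1_0
theorem c2tn4_t {G Ω : Type*} [Group G] [MulAction G Ω] {g : ℕ → G} {pt : ℕ → Ω}
    (M : Md g pt H16.O73.P 351 7 H16.O73.B 4585351680) : TrO (gen (wds g c2th_W) c2tl0.K) (wds g c2x_W) (wds g y_W) 1 pt 351 (c2tl0.Pt 0) (fun _ => nat_lit 1) :=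
  node M (c2t_S0 M) (c2th_act M) (c2x_act M) (y_act M) c2tn4 ((c2tr4k_act M).mono (by decide)) (fun _ _ => trivial) c2tn4_0 c2tn4_1 (List.forall_mem_cons.2 ⟨c2tr5 M, List.forall_mem_nil _⟩)
theorem c2tr4 {G Ω : Type*} [Group G] [MulAction G Ω] {g : ℕ → G} {pt : ℕ → Ω}
    (M : Md g pt H16.O73.P 351 7 H16.O73.B 4585351680) : Ref (gen (wds g c2th_W) (topK [c2tl0, c2tl1, c2tl2, c2tl3, c2tl4, c2tl5, c2tl6, c2tl7, c2tl8])) (wds g c2x_W) (wds g y_W) 1 :=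
  (c2tn4_t M).ref
theorem nc {G Ω : Type*} [Group G] [MulAction G Ω] {g : ℕ → G} {pt : ℕ → Ω}
    (M : Md g pt H16.O73.P 351 7 H16.O73.B 4585351680) : Ref ⊤ (wds g c2x_W) (wds g y_W) 1 :=
  (c2t_S0 M).top ▸ c2tr4 M
theorem z_act {G Ω : Type*} [Group G] [MulAction G Ω] {g : ℕ → G} {pt : ℕ → Ω}
    (M : Md g pt H16.O73.P 351 7 H16.O73.B 4585351680) : Act (wds g z_W) pt z_P 351 1 :=
  M.wact z_lt
theorem c2tr8k_act {G Ω : Type*} [Group G] [MulAction G Ω] {g : ℕ → G} {pt : ℕ → Ω}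
    (M : Md g pt H16.O73.P 351 7 H16.O73.B 4585351680) : Act (wds g c2tr8k_W) pt c2tr8k_P 351 3 :=
  M.wact c2tr8k_lt
theorem c2tn8y0_act {G Ω : Type*} [Group G] [MulAction G Ω] {g : ℕ → G} {pt : ℕ → Ω}
    (M : Md g pt H16.O73.P 351 7 H16.O73.B 4585351680) : Act (wds g c2tn8y0_W) pt c2tn8y0_P 351 1 :=
  M.wact c2tn8y0_lt
theorem c2tr9k_act {G Ω : Type*} [Group G] [MulAction G Ω] {g : ℕ → G} {pt : ℕ → Ω}
    (M : Md g pt H16.O73.P 351 7 H16.O73.B 4585351680) : Act (wds g c2tr9k_W) pt c2tr9k_P 351 3 :=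
  M.wact c2tr9k_lt
theorem c2tn9y111_act {G Ω : Type*} [Group G] [MulAction G Ω] {g : ℕ → G} {pt : ℕ → Ω}
    (M : Md g pt H16.O73.P 351 7 H16.O73.B 4585351680) : Act (wds g c2tn9y111_W) pt c2tn9y111_P 351 1 :=
  M.wact c2tn9y111_lt
theorem c2tr10k_act {G Ω : Type*} [Group G] [MulAction G Ω] {g : ℕ → G} {pt : ℕ → Ω}
    (M : Md g pt H16.O73.P 351 7 H16.O73.B 4585351680) : Act (wds g c2tr10k_W) pt c2tr10k_P 351 2 :=
  M.wact c2tr10k_lt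
theorem c2tn10y136_act {G Ω : Type*} [Group G] [MulAction G Ω] {g : ℕ → G} {pt : ℕ → Ω}
    (M : Md g pt H16.O73.P 351 7 H16.O73.B 4585351680) : Act (wds g c2tn10y136_W) pt c2tn10y136_P 351 1 :=
  M.wact c2tn10y136_lt
theorem c2tr11k_act {G Ω : Type*} [Group G] [MulAction G Ω] {g : ℕ → G} {pt : ℕ → Ω}
    (M : Md g pt H16.O73.P 351 7 H16.O73.B 4585351680) : Act (wds g c2tr11k_W) pt c2tr11k_P 351 2 :=
  M.wact c2tr11k_lt
theorem c2tn11_1 : ∀ i < 3, (c2tn11.ent H16.O73.P c2th_P c2x_P c2tn10y136_P c2tr11k_P (nat_lit 7) (nat_lit 1) H16.O73.B c2tl8 [] (fun _ => nat_lit 1)) i = 0 := allZ_sound0 c2tn11_1_0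
theorem c2tn11_t {G Ω : Type*} [Group G] [MulAction G Ω] {g : ℕ → G} {pt : ℕ → Ω}
    (M : Md g pt H16.O73.P 351 7 H16.O73.B 4585351680) : TrO (gen (wds g c2th_W) c2tl8.K) (wds g c2x_W) (wds g c2tn10y136_W) 1 pt 351 (c2tl8.Pt 0) (fun _ => nat_lit 1) :=
  node M (c2t_S8 M) (c2th_act M) (c2x_act M) (c2tn10y136_act M) c2tn11 ((c2tr11k_act M).mono (by decide)) (fun _ _ => trivial) c2tn11_0 c2tn11_1 (List.forall_mem_nil _)
theorem c2tr11 {G Ω : Type*} [Group G] [MulAction G Ω] {g : ℕ → G} {pt : ℕ → Ω}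
    (M : Md g pt H16.O73.P 351 7 H16.O73.B 4585351680) : Ref (gen (wds g c2th_W) (topK [c2tl8])) (wds g c2x_W) (wds g c2tn10y136_W) 1 :=
  (c2tn11_t M).ref
theorem c2tn10_1 : ∀ i < 2, (c2tn10.ent H16.O73.P c2th_P c2x_P c2tn9y111_P c2tr10k_P (nat_lit 7) (nat_lit 1) H16.O73.B c2tl5 [c2tl6, c2tl7, c2tl8] (fun _ => nat_lit 1)) i = 0 := allZ_sound0 c2tn10_1_0
theorem c2tn10_t {G Ω : Type*} [Group G] [MulAction G Ω] {g : ℕ → G} {pt : ℕ → Ω}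
    (M : Md g pt H16.O73.P 351 7 H16.O73.B 4585351680) : TrO (gen (wds g c2th_W) c2tl5.K) (wds g c2x_W) (wds g c2tn9y111_W) 1 pt 351 (c2tl5.Pt 0) (fun _ => nat_lit 1) :=
  node M (c2t_S5 M) (c2th_act M) (c2x_act M) (c2tn9y111_act M) c2tn10 ((c2tr10k_act M).mono (by decide)) (fun _ _ => trivial) c2tn10_0 c2tn10_1 (List.forall_mem_cons.2 ⟨c2tr11 M, List.forall_mem_nil _⟩)
theorem c2tr10 {G Ω : Type*} [Group G] [MulAction G Ω] {g : ℕ → G} {pt : ℕ → Ω}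
    (M : Md g pt H16.O73.P 351 7 H16.O73.B 4585351680) : Ref (gen (wds g c2th_W) (topK [c2tl5, c2tl6, c2tl7, c2tl8])) (wds g c2x_W) (wds g c2tn9y111_W) 1 :=
  (c2tn10_t M).ref
theorem c2tn9_1 : ∀ i < 45, (c2tn9.ent H16.O73.P c2th_P c2x_P c2tn8y0_P c2tr9k_P (nat_lit 7) (nat_lit 1) H16.O73.B c2tl2 [c2tl3, c2tl4, c2tl5, c2tl6, c2tl7, c2tl8] (fun _ => nat_lit 1)) i = 0 := allZ_sound0 c2tn9_1_0
theorem c2tn9_t {G Ω : Type*} [Group G] [MulAction G Ω] {g : ℕ → G} {pt : ℕ → Ω}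
    (M : Md g pt H16.O73.P 351 7 H16.O73.B 4585351680) : TrO (gen (wds g c2th_W) c2tl2.K) (wds g c2x_W) (wds g c2tn8y0_W) 1 pt 351 (c2tl2.Pt 0) (fun _ => nat_lit 1) :=
  node M (c2t_S2 M) (c2th_act M) (c2x_act M) (c2tn8y0_act M) c2tn9 ((c2tr9k_act M).mono (by decide)) (fun _ _ => trivial) c2tn9_0 c2tn9_1 (List.forall_mem_cons.2 ⟨c2tr10 M, List.forall_mem_nil _⟩)
theorem c2tr9 {G Ω : Type*} [Group G] [MulAction G Ω] {g : ℕ → G} {pt : ℕ → Ω}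
    (M : Md g pt H16.O73.P 351 7 H16.O73.B 4585351680) : Ref (gen (wds g c2th_W) (topK [c2tl2, c2tl3, c2tl4, c2tl5, c2tl6, c2tl7, c2tl8])) (wds g c2x_W) (wds g c2tn8y0_W) 1 :=
  (c2tn9_t M).ref
theorem c2tn8_1 : ∀ i < 351, (c2tn8.ent H16.O73.P c2th_P c2x_P z_P c2tr8k_P (nat_lit 7) (nat_lit 1) H16.O73.B c2tl0 [c2tl1, c2tl2, c2tl3, c2tl4, c2tl5, c2tl6, c2tl7, c2tl8] (fun _ => nat_lit 1)) i = 0 := allZ_sound0 c2tn8_1_0
theorem c2tn8_t {G Ω : Type*} [Group G] [MulAction G Ω] {g : ℕ → G} {pt : ℕ → Ω}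
    (M : Md g pt H16.O73.P 351 7 H16.O73.B 4585351680) : TrO (gen (wds g c2th_W) c2tl0.K) (wds g c2x_W) (wds g z_W) 1 pt 351 (c2tl0.Pt 0) (fun _ => nat_lit 1) :=
  node M (c2t_S0 M) (c2th_act M) (c2x_act M) (z_act M) c2tn8 ((c2tr8k_act M).mono (by decide)) (fun _ _ => trivial) c2tn8_0 c2tn8_1 (List.forall_mem_cons.2 ⟨c2tr9 M, List.forall_mem_nil _⟩)
theorem c2tr8 {G Ω : Type*} [Group G] [MulAction G Ω] {g : ℕ → G} {pt : ℕ → Ω}
    (M : Md g pt H16.O73.P 351 7 H16.O73.B 4585351680) : Ref (gen (wds g c2th_W) (topK [c2tl0, c2tl1, c2tl2, c2tl3, c2tl4, c2tl5, c2tl6, c2tl7, c2tl8])) (wds g c2x_W) (wds g z_W) 1 :=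
  (c2tn8_t M).ref
theorem nd {G Ω : Type*} [Group G] [MulAction G Ω] {g : ℕ → G} {pt : ℕ → Ω}
    (M : Md g pt H16.O73.P 351 7 H16.O73.B 4585351680) : Ref ⊤ (wds g c2x_W) (wds g z_W) 1 :=
  (c2t_S0 M).top ▸ c2tr8 M

end H0.Fi.O73
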